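import Cfsg.Agent.Lib.M22Uniq.Search

/-!
The lists of degrees and values of the searches for a group of order 10200960.
-/

namespace Cfsg.Agent.M23Order

open Cfsg.Agent.M22Uniq (Term noSol)

/-- The divisors of the order. -/
def allDivs : List ℕ :=
  [1, 2, 4, 8, 16, 32, 64, 128].flatMap fun a => [1, 3, 9].flatMap fun b => [1, 5].flatMap fun c =>
    [1, 7].flatMap fun d => [1, 11].flatMap fun f => [1, 23].map fun g => a * b * c * d * f * g

theorem mem_allDivs {n : ℕ} (h : n ∣ 10200960) : n ∈ allDivs := by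
  obtain ⟨x1, g, hx1, hg, rfl⟩ := exists_dvd_and_dvd_of_dvd_mul
    (show n ∣ (128 * 9 * 5 * 7 * 11) * 23 by simpa using h)
  obtain ⟨x2, f, hx2, hf, rfl⟩ := exists_dvd_and_dvd_of_dvd_mul hx1
  obtain ⟨x3, d, hx3, hd, rfl⟩ := exists_dvd_and_dvd_of_dvd_mul hx2
  obtain ⟨x4, c, hx4, hc, rfl⟩ := exists_dvd_and_dvd_of_dvd_mul hx3
  obtain ⟨a, b, ha, hb, rfl⟩ := exists_dvd_and_dvd_of_dvd_mul hx4
  have h128 : ∀ a < 129, a ∣ 128 → a ∈ [1, 2, 4, 8, 16, 32, 64, 128] := by decide +kernel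
  have h9 : ∀ a < 10, a ∣ 9 → a ∈ [1, 3, 9] := by decide +kernel
  have hpr : ∀ q a : ℕ, q.Prime → a ∣ q → a ∈ [1, q] := fun q a hq h => by
    rcases (Nat.dvd_prime hq).1 h with rfl | rfl <;> simp
  simp only [allDivs, List.mem_flatMap, List.mem_map]
  exact ⟨a, h128 a (Nat.lt_succ_of_le (Nat.le_of_dvd (by norm_num) ha)) ha,
    b, h9 b (Nat.lt_succ_of_le (Nat.le_of_dvd (by norm_num) hb)) hb,
    c, hpr 5 c (by norm_num) hc, d, hpr 7 d (by norm_num) hd, f, hpr 11 f (by norm_num) hf,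
    g, hpr 23 g (by norm_num) hg, rfl⟩

/-- The degrees up to the bound with a given property. -/
def degList (Q : ℕ → Bool) : List ℕ := allDivs.filter fun d => Nat.ble 2 d && Nat.ble d 3193 && Q d

/-- The possible values at an involution centralizing an element of order `p`, with `m = 4 p`. -/
def valsI (C f m : ℕ) : List ℤ :=
  ((List.range (2 * f / m + 1)).map fun j : ℕ => (f : ℤ) - (m : ℤ) * ((j : ℤ) + 1)).filter fun a =>
    Nat.blt a.natAbs f && Nat.ble (a.natAbs * a.natAbs) C && Nat.beq (10200960 / C * a.natAbs % f) 0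

theorem mem_valsI {C f m : ℕ} {a : ℤ} (hm0 : 0 < m) (h1 : |a| < f) (hm : (m : ℤ) ∣ (f : ℤ) - a)
    (hd : (f : ℤ) ∣ ((10200960 / C : ℕ) : ℤ) * a) (hC : a ^ 2 ≤ C) : a ∈ valsI C f m := by
  obtain ⟨j, hj⟩ := hm
  rw [abs_lt] at h1
  have hj1 : 1 ≤ j := by
    by_contra h
    have : (m : ℤ) * j ≤ 0 := mul_nonpos_of_nonneg_of_nonpos (by positivity) (by omega)
    omega
  have hj2 : (j - 1).toNat < 2 * f / m + 1 := by
    have h2 : (j.toNat) * m ≤ 2 * f := by
      have : (j.toNat : ℤ) = j := Int.toNat_of_nonneg (by omega)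
      have h3 : ((j.toNat * m : ℕ) : ℤ) ≤ ((2 * f : ℕ) : ℤ) := by
        push_cast; rw [this, mul_comm]; omega
      exact_mod_cast h3
    have h4 : j.toNat ≤ 2 * f / m := (Nat.le_div_iff_mul_le hm0).2 h2
    omega
  refine List.mem_filter.2 ⟨List.mem_map.2 ⟨(j - 1).toNat, List.mem_range.2 hj2, ?_⟩, ?_⟩
  · rw [Int.toNat_of_nonneg (by omega)]; linarith
  · simp only [Bool.and_eq_true, Nat.blt_eq, Nat.ble_eq, Nat.beq_eq]
    refine ⟨⟨by omega, ?_⟩, Nat.mod_eq_zero_of_dvd ?_⟩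
    · have : ((a.natAbs * a.natAbs : ℕ) : ℤ) ≤ (C : ℤ) := by
        push_cast; rw [abs_mul_abs_self, ← pow_two]; exact hC
      exact_mod_cast this
    · have := Int.natAbs_dvd_natAbs.2 hd
      rwa [Int.natAbs_natCast, Int.natAbs_mul, Int.natAbs_natCast] at this

/-- The sign of an ordinary row. -/
def sgP (p f : ℕ) : ℤ := if f % p = 1 then 1 else -1

/-- The coefficient of the exceptional row. -/
def excP (p e f : ℕ) : ℤ := if f % p = e then -1 else 1

/-- The terms at an involution. -/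
def termsI (p C : ℕ) (ds : List ℕ) (coef : ℕ → ℤ) (w : ℕ) : List Term :=
  ds.flatMap fun f => (valsI C f (4 * p)).map fun a => ⟨f, coef f, a, w⟩

/-- The search at the involutions with centralizer order satisfying `ok`. -/
def deadIf (ok : ℕ → Bool) (p e k Mu : ℕ) (ds ts : List ℕ) : Bool :=
  allDivs.all fun C => !(ok C) ||
    noSol C 10200960 Mu (termsI p C ts (excP p e) k) (e - 1) (termsI p C ds (sgP p) 1) ⟨1, 1, 1, 1, 1, 1⟩

/-- The search at the involutions with centralizer order divisible by `d`. -/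
def deadAt (d p e k Mu : ℕ) (ds ts : List ℕ) : Bool := deadIf (fun C => Nat.beq (C % d) 0) p e k Mu ds ts

/-- The search at the involutions of the complement. -/
def deadI (p e k Mu : ℕ) (ds ts : List ℕ) : Bool := deadAt (2 * p) p e k Mu ds ts

end Cfsg.Agent.M23Order
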