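import Cfsg.Agent.Lib.M23Order.Tools
import Cfsg.Agent.Lib.M12Uniq.Tools

/-!
The rows of a principal block with a Sylow subgroup of prime order, one representative for the
exceptional family.
-/

set_option linter.unusedSectionVars false
set_option linter.style.haveILetI false

namespace Cfsg.Agent.M23Order

open Cfsg Cfsg.Agent.Char Cfsg.Agent.Blocks Cfsg.Agent.CCSylow Cfsg.Agent.DefOne

open scoped ComplexConjugate

universe u

variable {G : Type u} [Group G] [Fintype G]

/-- The data of the nonprincipal rows: coefficients, one exceptional representative `t` of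
multiplicity `k`. -/
structure Rows (p e k : ℕ) (P V : Subgroup G) [Fintype V] (M : Ideal AlgInt) [M.IsPrime]
    (S : Finset (IrrCharacter G)) (c : IrrCharacter G → ℤ) (t : IrrCharacter G) : Prop where
  card : S.card = e
  ne_one : principal G ∉ S
  mem_t : t ∈ S
  ek : k * e = p - 1
  block : ∀ χ ∈ S, χ ∈ principalBlock M G
  sign : ∀ χ ∈ S, c χ = 1 ∨ c χ = -1
  congr : ∀ χ ∈ S, χ ≠ t → (charDegree (χ : G → ℂ) : ℤ) ≡ c χ [ZMOD p]
  congr_t : (charDegree (t : G → ℂ) : ℤ) ≡ -c t * e [ZMOD p]
  cases : ∀ ψ ∈ principalBlock M G, ψ = principal G ∨ ψ ∈ S ∨ ∃ σ, FixesP p σ ∧ galT σ t = ψ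
  single : k = 1 → ∀ ψ ∈ principalBlock M G, ψ = principal G ∨ ψ ∈ S
  phi_eq : ∀ χ ∈ S, (χ ≠ t ∨ k = 1) → ∀ y : P, y ≠ 1 → phi (χ : G → ℂ) (trivB V) y = (c χ : ℂ)
  relation : ∀ g : G, ¬ p ∣ orderOf g → 1 + ∑ χ ∈ S, (c χ : ℂ) * (χ : G → ℂ) g = 0
  sum_phi : ∀ h : IrrCharacter G → ℂ, (∀ σ, FixesP p σ → ∀ χ, h (galT σ χ) = h χ) → ∀ y : P, y ≠ 1 →
    ∑ χ : IrrCharacter G, h χ * conj (phi (χ : G → ℂ) (trivB V) y) =
      h (principal G) + ∑ χ ∈ S, (c χ : ℂ) * h χ
  norm : ∀ g : G, ¬ p ∣ orderOf g → ∀ a : IrrCharacter G → ℤ, (∀ χ ∈ S, (χ : G → ℂ) g = a χ) →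
    1 + (∑ χ ∈ S, a χ ^ 2 + ((k : ℤ) - 1) * a t ^ 2) ≤
      (Nat.card (Subgroup.centralizer ({g} : Set G)) : ℤ)

variable {p : ℕ} {P V N : Subgroup G} {e : ℕ} {M : Ideal AlgInt} [M.IsPrime]

/-- The rows exist. -/
theorem exists_rows (hM : IsPModular p M) (hp : 2 < p) (K : Conf p P V N e) [Fintype P] [Fintype V]
    [Fintype N] [Fintype (P →* ℂˣ)] :
    ∃ k S c t, Rows p e k P V M S c t := by
  classical
  obtain ⟨eb, X, Y, δ, sg, F⟩ := exists_families K hM (trivB V)
  obtain ⟨hXc, hYc, hXd, hYd, hrel, hagree, hprin⟩ := M12Uniq.families_facts hM hp K F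
  have hB := principal_eq K hM F
  obtain ⟨θ, hθ⟩ := F.nonempty
  have he := eb_triv K F
  obtain ⟨y₀, hy₀⟩ := exists_ne_one_P K
  have hd1 : charDegree (principal G : G → ℂ) = 1 := Cfsg.Agent.CharX.charDegree_one
  -- the sum of the exceptional values
  have hphi0 : ∀ χ : IrrCharacter G, χ ∉ X ∪ Y → ∀ y : P, y ≠ 1 → phi (χ : G → ℂ) (trivB V) y = 0 :=
    fun χ h y hy => phi_not_principal K hM (by rw [hB]; simpa using h) hy
  have hreg1 : ¬ p ∣ orderOf (1 : G) := by simpa using K.hp.ne_one
  have hsumY : ∀ y : P, y ≠ 1 → ∑ χ ∈ Y, phi (χ : G → ℂ) (trivB V) y = (δ : ℂ) := by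
    intro y hy
    have horth : ∑ χ : IrrCharacter G, phi (χ : G → ℂ) (trivB V) y * conj ((χ : G → ℂ) 1) = 0 := by
      simp only [phi, mul_assoc, Finset.sum_mul]
      rw [← Finset.mul_sum, Finset.sum_comm, Finset.sum_eq_zero fun w _ => ?_, mul_zero]
      have hy1 : (y : G) ≠ 1 := fun h => hy (Subtype.ext h)
      have h0 : ¬ IsConj ((y : G) * w) 1 := fun h => hy1 (by
        have h1 := isConj_one_left.1 h
        have h2 : (y : G) ∈ V := by rw [eq_inv_of_mul_eq_one_left h1]; exact inv_mem w.2
        have h3 := Subgroup.orderOf_dvd_natCard V h2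
        rw [DefOne.orderOf_P K y.2 hy1] at h3
        exact absurd h3 K.hV)
      rw [← column_orth_of_not_isConj h0]
      refine Finset.sum_congr rfl fun χ _ => ?_
      rw [show (trivB V : V → ℂ) w = 1 from rfl, map_one, one_mul]
    rw [← Finset.sum_subset (Finset.subset_univ (X ∪ Y)) fun χ _ h => by rw [hphi0 χ h y hy, zero_mul],
      Finset.sum_union F.disj, Finset.sum_congr rfl fun χ h => by rw [Families.phi_X K F h hy],
      Finset.sum_congr (s₁ := Y) rfl fun χ h => by
        rw [irr_one_eq_charDegree χ, hagree χ h θ hθ], ← Finset.sum_mul] at horth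
    simp only [irr_one_eq_charDegree, map_natCast] at horth
    have h1 := hrel θ hθ
    have h1' : ∑ χ ∈ X, (sg χ : ℂ) * (charDegree (χ : G → ℂ) : ℂ) +
        (δ : ℂ) * (charDegree (θ : G → ℂ) : ℂ) = 0 := by exact_mod_cast h1
    have ht0 : (charDegree (θ : G → ℂ) : ℂ) ≠ 0 := Nat.cast_ne_zero.2 (charDegree_pos θ).ne'
    refine mul_right_cancel₀ ht0 ?_
    linear_combination horth - h1'
  have hsum : ∀ h : IrrCharacter G → ℂ, (∀ σ, FixesP p σ → ∀ χ, h (galT σ χ) = h χ) → ∀ y : P, y ≠ 1 →
      ∑ χ : IrrCharacter G, h χ * conj (phi (χ : G → ℂ) (trivB V) y) =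
        ∑ χ ∈ X, (sg χ : ℂ) * h χ + (δ : ℂ) * h θ := by
    intro h hh y hy
    rw [← Finset.sum_subset (Finset.subset_univ (X ∪ Y)) fun χ _ h' => by
        rw [hphi0 χ h' y hy, map_zero, mul_zero], Finset.sum_union F.disj]
    congr 1
    · exact Finset.sum_congr rfl fun χ h' => by
        rw [Families.phi_X K F h' hy, map_intCast, mul_comm]
    · rw [Finset.sum_congr rfl fun χ h' => by
        obtain ⟨σ, hσ, e⟩ := F.transY θ hθ χ h'
        rw [show h χ = h θ by rw [← e, hh σ hσ]],
        ← Finset.mul_sum, ← map_sum, hsumY y hy, map_intCast, mul_comm]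
  have hnorm : ∀ g : G, ¬ p ∣ orderOf g → ∀ a : IrrCharacter G → ℤ,
      (∀ χ ∈ X, (χ : G → ℂ) g = a χ) → (θ : G → ℂ) g = a θ →
      ∑ χ ∈ X, a χ ^ 2 + (Y.card : ℤ) * a θ ^ 2 ≤ (Nat.card (Subgroup.centralizer ({g} : Set G)) : ℤ) := by
    intro g hg a haX haθ
    have h := M12Uniq.sum_sq_le g (X ∪ Y) (fun χ => if χ ∈ X then a χ else a θ) fun χ hχ => by
      by_cases hx : χ ∈ X
      · rw [if_pos hx]; exact haX χ hx
      · rw [if_neg hx, Families.agree K F ((Finset.mem_union.1 hχ).resolve_left hx) hθ hg, haθ]
    rw [Finset.sum_union F.disj, Finset.sum_congr rfl fun χ hχ => by rw [if_pos hχ],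
      Finset.sum_congr (s₁ := Y) rfl fun χ hχ => by rw [if_neg (Finset.disjoint_right.1 F.disj hχ)],
      Finset.sum_const, nsmul_eq_mul] at h
    exact h
  rcases hprin with ⟨hpX, hpsg⟩ | hYp
  · -- the principal character is in the first family
    have hθX : θ ∉ X := Finset.disjoint_right.1 F.disj hθ
    have hθe : θ ∉ X.erase (principal G) := fun h => hθX (Finset.mem_of_mem_erase h)
    refine ⟨Y.card, insert θ (X.erase (principal G)), fun χ => if χ ∈ X then sg χ else δ, θ, ?_⟩
    have hX : ∀ {β : Type} [AddCommMonoid β] (f : IrrCharacter G → β),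
        ∑ χ ∈ X, f χ = f (principal G) + ∑ χ ∈ X.erase (principal G), f χ :=
      fun f => (Finset.add_sum_erase _ _ hpX).symm
    refine
      { card := by
          rw [Finset.card_insert_of_notMem hθe, Finset.card_erase_of_mem hpX, hXc]
          have : 0 < e := by rw [← hXc]; exact Finset.card_pos.2 ⟨_, hpX⟩
          omega
        ne_one := fun h => by
          rcases Finset.mem_insert.1 h with h | h
          · exact hθX (h ▸ hpX)
          · exact Finset.ne_of_mem_erase h rfl
        mem_t := Finset.mem_insert_self _ _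
        ek := hYc
        block := fun χ h => by
          rw [hB]
          rcases Finset.mem_insert.1 h with h | h
          · exact Or.inr (h ▸ hθ)
          · exact Or.inl (Finset.mem_of_mem_erase h)
        sign := fun χ h => by
          rcases Finset.mem_insert.1 h with h | h
          · simp only [h, if_neg hθX]; exact F.sign
          · simp only [if_pos (Finset.mem_of_mem_erase h)]; exact F.signX χ (Finset.mem_of_mem_erase h)
        congr := fun χ h hne => by
          have hx := Finset.mem_of_mem_erase ((Finset.mem_insert.1 h).resolve_left hne)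
          simp only [if_pos hx]; exact hXd χ hx
        congr_t := by simp only [if_neg hθX]; exact hYd θ hθ
        cases := fun ψ hψ => by
          rw [hB] at hψ
          rcases hψ with h | h
          · by_cases he' : ψ = principal G
            · exact Or.inl he'
            · exact Or.inr (Or.inl (Finset.mem_insert_of_mem (Finset.mem_erase.2 ⟨he', h⟩)))
          · exact Or.inr (Or.inr (F.transY θ hθ ψ h))
        single := fun hk ψ hψ => by
          rw [hB] at hψ
          rcases hψ with h | h
          · by_cases he' : ψ = principal G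
            · exact Or.inl he'
            · exact Or.inr (Finset.mem_insert_of_mem (Finset.mem_erase.2 ⟨he', h⟩))
          · obtain ⟨θ', hθ'⟩ := Finset.card_eq_one.1 hk
            rw [Finset.mem_coe, hθ', Finset.mem_singleton] at h
            rw [hθ', Finset.mem_singleton] at hθ
            exact Or.inr (by rw [h, ← hθ]; exact Finset.mem_insert_self _ _)
        phi_eq := fun χ h hk y hy => by
          by_cases hx : χ ∈ X
          · simp only [if_pos hx]; exact Families.phi_X K F hx hy
          · simp only [if_neg hx]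
            have hχθ : χ = θ := (Finset.mem_insert.1 h).resolve_right fun h' =>
              hx (Finset.mem_of_mem_erase h')
            obtain ⟨θ', hθ'⟩ := Finset.card_eq_one.1 (hk.resolve_left fun h' => h' hχθ)
            have h1 := hsumY y hy
            rw [hθ', Finset.sum_singleton] at h1
            rw [hθ', Finset.mem_singleton] at hθ
            rw [hχθ, hθ, h1]
        relation := fun g hg => by
          have h := Families.relation K F hθ hg
          rw [hX, hpsg, show (principal G : G → ℂ) g = 1 from rfl] at h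
          rw [Finset.sum_insert hθe, if_neg hθX, Finset.sum_congr rfl fun χ h => by
            rw [if_pos (Finset.mem_of_mem_erase h)]]
          push_cast at h
          linear_combination h
        sum_phi := fun h hh y hy => by
          rw [hsum h hh y hy, hX, hpsg, Finset.sum_insert hθe, if_neg hθX,
            Finset.sum_congr (s₁ := X.erase (principal G))
              (f := fun χ => ((if χ ∈ X then sg χ else δ : ℤ) : ℂ) * h χ) rfl fun χ h => by
              rw [if_pos (Finset.mem_of_mem_erase h)]]
          push_cast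
          ring
        norm := fun g hg a ha => ?_ }
    have h := hnorm g hg (fun χ => if χ = principal G then 1 else a χ) (fun χ hx => by
      by_cases he' : χ = principal G
      · rw [if_pos he', he']; simp [principal]
      · rw [if_neg he']; exact ha χ (Finset.mem_insert_of_mem (Finset.mem_erase.2 ⟨he', hx⟩)))
      (by rw [if_neg (fun h : θ = principal G => hθX (h ▸ hpX))]; exact ha θ (Finset.mem_insert_self _ _))
    rw [hX, if_pos rfl, if_neg (fun h : θ = principal G => hθX (h ▸ hpX)),
      Finset.sum_congr rfl fun χ hx => by rw [if_neg (Finset.ne_of_mem_erase hx)]] at h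
    rw [Finset.sum_insert hθe]
    linarith
  · -- the principal character is the exceptional family
    have hθp : θ = principal G := by rw [hYp, Finset.mem_singleton] at hθ; exact hθ
    have hpX : principal G ∉ X := fun h => Finset.disjoint_left.1 F.disj h (hθp ▸ hθ)
    have hYc1 : Y.card = 1 := by rw [hYp, Finset.card_singleton]
    have hep : e = p - 1 := by rw [hYc1, one_mul] at hYc; exact hYc
    have hδ : δ = 1 := by
      have h := hYd θ hθ
      rw [hθp, hd1, hep, Int.ModEq] at h
      rcases F.sign with s | s
      · exact s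
      · exfalso
        rw [s, Nat.cast_sub K.hp.pos] at h
        push_cast at h
        have h2 : (p : ℤ) ∣ -(-1 : ℤ) * ((p : ℤ) - 1) - 1 := Int.ModEq.dvd h
        have h3 : (p : ℤ) ∣ 2 := by
          have := dvd_sub (dvd_refl (p : ℤ)) h2
          rwa [show (2 : ℤ) = (p : ℤ) - (-(-1 : ℤ) * ((p : ℤ) - 1) - 1) by ring]
        have := Int.le_of_dvd (by norm_num) h3
        omega
    obtain ⟨t, ht⟩ : X.Nonempty := Finset.card_pos.1 (by rw [hXc, hep]; omega)
    refine ⟨1, X, sg, t,
      { card := hXc
        ne_one := hpX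
        mem_t := ht
        ek := by rw [one_mul]; exact hep
        block := fun χ h => by rw [hB]; exact Or.inl h
        sign := F.signX
        congr := fun χ h _ => hXd χ h
        congr_t := by
          refine (hXd t ht).trans ?_
          rw [hep, Int.modEq_iff_dvd]
          refine ⟨-sg t, ?_⟩
          rw [Nat.cast_sub K.hp.pos]
          push_cast; ring
        cases := fun ψ hψ => by
          rw [hB] at hψ
          rcases hψ with h | h
          · exact Or.inr (Or.inl h)
          · rw [Finset.mem_coe, hYp, Finset.mem_singleton] at h; exact Or.inl h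
        single := fun _ ψ hψ => by
          rw [hB] at hψ
          rcases hψ with h | h
          · exact Or.inr h
          · rw [Finset.mem_coe, hYp, Finset.mem_singleton] at h; exact Or.inl h
        phi_eq := fun χ h _ y hy => Families.phi_X K F h hy
        relation := fun g hg => by
          have h := Families.relation K F hθ hg
          rw [hθp, hδ, show (principal G : G → ℂ) g = 1 from rfl] at h
          push_cast at h
          linear_combination h
        sum_phi := fun h hh y hy => by
          rw [hsum h hh y hy, hθp, hδ]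
          push_cast
          ring
        norm := fun g hg a ha => by
          have h := hnorm g hg (fun χ => if χ = principal G then 1 else a χ)
            (fun χ hx => by rw [if_neg (fun e : χ = principal G => hpX (e ▸ hx))]; exact ha χ hx)
            (by rw [if_pos hθp, hθp]; simp [principal])
          rw [if_pos hθp, hYc1, Finset.sum_congr rfl fun χ hx => by
            rw [if_neg (fun e : χ = principal G => hpX (e ▸ hx))]] at h
          push_cast at h ⊢
          linarith }⟩

end Cfsg.Agent.M23Order
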