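import Cfsg.Agent.Lib.M23Order.Setup
import Cfsg.Agent.Lib.M23Order.Rows
import Cfsg.Agent.Lib.M22Uniq.Search
import Cfsg.Agent.Lib.M23Order.Lists

/-!
The column of an involution centralizing an element of prime order: values, relations, the count of
pairs and the exclusion by an exhaustive search.
-/

set_option linter.unusedSectionVars false
set_option linter.style.haveILetI false

namespace Cfsg.Agent.M23Order

open Cfsg Cfsg.Agent.Char Cfsg.Agent.Blocks Cfsg.Agent.CCSylow Cfsg.Agent.DefOne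
open Cfsg.Agent.M22Uniq (Term noSol noSol_sound)

open scoped ComplexConjugate

universe u

variable {G : Type u} [Group G] [Fintype G] [IsSimpleGroup G] (hG : Nat.card G = 10200960)
  {p : ℕ} {P V N : Subgroup G} {e : ℕ} (K : Conf p P V N e)
  [Fintype P] [Fintype V] [Fintype N] [Fintype (P →* ℂˣ)] {M : Ideal AlgInt} [M.IsPrime]
  (hM : IsPModular p M) {k : ℕ} {S : Finset (IrrCharacter G)} {c : IrrCharacter G → ℤ}
  {t : IrrCharacter G} (R : Rows p e k P V M S c t)

include hG K

/-- Pairs from two classes over a section, on the average. -/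
theorem avg_count (g : G) (y : P) :
    ∃ n : ℕ, (n : ℂ) * ((Nat.card (Subgroup.centralizer ({g} : Set G)) : ℂ) *
      (Nat.card (Subgroup.centralizer ({g} : Set G)) : ℂ)) = 10200960 * (Nat.card V : ℂ) *
      ∑ χ : IrrCharacter G, (χ : G → ℂ) g * (χ : G → ℂ) g / (χ : G → ℂ) 1 *
        conj (phi (χ : G → ℂ) (trivB V) y) ∧
      ((∀ w : V, ¬ IsConj ((y : G) * w) ((y : G) * w)⁻¹) → g * g = 1 → n = 0) := by
  classical
  choose m hm using fun w : V => M12Uniq.structure_count g g ((y : G) * w)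
  set C := (Nat.card (Subgroup.centralizer ({g} : Set G)) : ℂ) with hC
  refine ⟨∑ w : V, m w, ?_, fun hnr hgg => Finset.sum_eq_zero fun w _ => ?_⟩
  · have hphi : ∀ χ : IrrCharacter G, (χ : G → ℂ) g * (χ : G → ℂ) g / (χ : G → ℂ) 1 *
        conj (phi (χ : G → ℂ) (trivB V) y) = (Nat.card V : ℂ)⁻¹ * ∑ w : V,
          (χ : G → ℂ) g * (χ : G → ℂ) g * conj ((χ : G → ℂ) ((y : G) * w)) / (χ : G → ℂ) 1 := by
      intro χ
      rw [phi, map_mul, map_inv₀, map_natCast, map_sum, Finset.mul_sum, Finset.mul_sum, Finset.mul_sum]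
      refine Finset.sum_congr rfl fun w _ => ?_
      rw [map_mul, Complex.conj_conj, show (trivB V : V → ℂ) w = 1 from rfl]
      ring
    rw [Finset.sum_congr rfl fun χ _ => hphi χ, ← Finset.mul_sum, Finset.sum_comm,
      mul_assoc (10200960 : ℂ), mul_inv_cancel_left₀ (Nat.cast_ne_zero.2 Nat.card_pos.ne'),
      Finset.mul_sum, Nat.cast_sum, Finset.sum_mul]
    refine Finset.sum_congr rfl fun w _ => ?_
    have h := hm w
    rw [hG] at h
    exact_mod_cast h
  · have h := hm w
    rw [M12Uniq.structure_zero_nonreal hgg hgg (hnr w), mul_zero] at h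
    rcases mul_eq_zero.1 h with h0 | h0
    · exact_mod_cast h0
    · exact absurd h0 (mul_ne_zero (Nat.cast_ne_zero.2 Nat.card_pos.ne') (Nat.cast_ne_zero.2 Nat.card_pos.ne'))

omit hG in
/-- For an action of odd order no element of the sections is real. -/
theorem not_real_odd (hp : 2 < p) (he : Odd e) {y : P} (hy : y ≠ 1) (w : V) :
    ¬ IsConj ((y : G) * w) ((y : G) * w)⁻¹ := by
  intro h
  obtain ⟨g, hg⟩ := isConj_iff.1 h
  have hcomm : Commute (y : G) (w : G) := K.D.pv _ y.2 _ w.2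
  set k := Nat.card V with hk
  have hwk : (w : G) ^ k = 1 := by rw [← Subgroup.coe_pow, pow_card_eq_one', Subgroup.coe_one]
  have hgk : g * (y : G) ^ k * g⁻¹ = ((y : G) ^ k)⁻¹ := by
    have h1 : g * ((y : G) * w) ^ k * g⁻¹ = (((y : G) * w) ^ k)⁻¹ := by rw [← conj_pow, hg, inv_pow]
    rwa [hcomm.mul_pow, hwk, mul_one] at h1
  have hy1 : (y : G) ≠ 1 := fun h => hy (Subtype.ext h)
  have hyo : orderOf (y : G) = p := DefOne.orderOf_P K y.2 hy1
  have hk1 : (y : G) ^ k ≠ 1 := fun h0 => K.hV (hyo ▸ orderOf_dvd_of_pow_eq_one h0)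
  have hkP : (y : G) ^ k ∈ P := pow_mem y.2 k
  have hgN : g ∈ N := K.D.hTI _ hkP hk1 g (hgk ▸ P.inv_mem hkP)
  obtain ⟨i, hi⟩ := he
  have he' : g ^ e * (y : G) ^ k * (g ^ e)⁻¹ = (y : G) ^ k := by
    have hmem : g ^ e ∈ Subgroup.centralizer (P : Set G) := by
      haveI : ((Subgroup.centralizer (P : Set G)).subgroupOf N).Normal := ⟨fun c hc a => by
        rw [Subgroup.mem_subgroupOf, Subgroup.mem_centralizer_iff] at hc ⊢
        intro x hx
        have ha : (a : G)⁻¹ * x * a ∈ P := by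
          have := K.D.hNP _ (inv_mem a.2) x hx
          simpa using this
        have := hc _ ha
        simp only [Subgroup.coe_mul, Subgroup.coe_inv]
        calc x * ((a : G) * c * (a : G)⁻¹) = a * ((a : G)⁻¹ * x * a * c) * (a : G)⁻¹ := by group
          _ = a * (c * ((a : G)⁻¹ * x * a)) * (a : G)⁻¹ := by rw [this]
          _ = a * c * (a : G)⁻¹ * x := by group⟩
      have := Subgroup.pow_index_mem ((Subgroup.centralizer (P : Set G)).subgroupOf N) (⟨g, hgN⟩ : N)
      rw [K.D.he, Subgroup.mem_subgroupOf] at this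
      simpa using this
    exact mul_inv_eq_iff_eq_mul.2 (Subgroup.mem_centralizer_iff.1 hmem _ hkP).symm
  have key : ∀ j : ℕ, g ^ j * (y : G) ^ k * (g ^ j)⁻¹ =
      if Even j then (y : G) ^ k else ((y : G) ^ k)⁻¹ := by
    intro j
    induction j with
    | zero => simp
    | succ j ih =>
      rw [pow_succ', show g * g ^ j * (y : G) ^ k * (g * g ^ j)⁻¹ = g * (g ^ j * (y : G) ^ k * (g ^ j)⁻¹) * g⁻¹
        by group, ih]
      by_cases hj : Even j
      · rw [if_pos hj, if_neg (by simp [Nat.even_add_one, hj]), hgk]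
      · rw [if_neg hj, if_pos (by simp [Nat.even_add_one, hj]), ← conj_inv, hgk, inv_inv]
  rw [key, if_neg (by rw [hi]; simp [parity_simps])] at he'
  have h2 : (y : G) ^ (k * 2) = 1 := by
    rw [pow_mul, pow_two]; nth_rewrite 1 [← he']; exact inv_mul_cancel _
  rcases (K.hp.dvd_mul).1 (hyo ▸ orderOf_dvd_of_pow_eq_one h2) with h0 | h0
  · exact K.hV h0
  · have := Nat.le_of_dvd (by norm_num) h0
    omega

include hM R

omit hG hM in
/-- The sum over a column in terms of the rows. -/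
theorem column_sum {g : G} (hg : ¬ p ∣ orderOf g) {y : P} (hy : y ≠ 1) :
    ∑ χ : IrrCharacter G, (χ : G → ℂ) g * (χ : G → ℂ) g / (χ : G → ℂ) 1 *
      conj (phi (χ : G → ℂ) (trivB V) y) =
    1 + ∑ χ ∈ S, (c χ : ℂ) * ((χ : G → ℂ) g * (χ : G → ℂ) g / (χ : G → ℂ) 1) := by
  rw [R.sum_phi (fun χ => (χ : G → ℂ) g * (χ : G → ℂ) g / (χ : G → ℂ) 1) (fun σ hσ χ => by
    rw [galT_apply, galT_one, irr_regular_fixed hσ χ hg]) y hy]
  simp [principal]

/-- The value at an involution of the complement. -/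
theorem value_at {χ : IrrCharacter G} (hχ : χ ∈ S) {i : G} (hi : i ∈ V) (hio : orderOf i = 2)
    (hp : 2 < p) : ∃ a : ℤ, (χ : G → ℂ) i = a ∧ ((4 * p : ℕ) : ℤ) ∣ (charDegree (χ : G → ℂ) : ℤ) - a ∧
      |a| < (charDegree (χ : G → ℂ) : ℤ) := by
  obtain ⟨a, ha, h4, hlt⟩ := involution_range hG (fun e : χ = principal G => R.ne_one (e ▸ hχ)) hio
  refine ⟨a, ha, ?_, hlt⟩
  have hpd := dvd_sub_value K hM (R.block χ hχ) hi ha
  rw [Int.natCast_mul]
  refine Int.natCast_mul 4 p ▸ Int.natCast_dvd.2 ?_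
  refine Nat.Coprime.mul_dvd_of_dvd_of_dvd ?_ (Int.natCast_dvd.1 h4) (Int.natCast_dvd.1 hpd)
  have h2 : Nat.Coprime 2 p := (Nat.coprime_primes Nat.prime_two K.hp).2 (by omega)
  exact Nat.Coprime.pow_left 2 h2

/-- The lists of degrees exclude an involution in the complement with the given order of its centralizer. -/
theorem no_involution_if (hp : 2 < p) {Mu : ℕ} (hMu : 0 < Mu) (hMV : Even e → Nat.card V ∣ Mu)
    (ds ts : List ℕ) (hds : ∀ χ ∈ S, χ ≠ t → charDegree (χ : G → ℂ) ∈ ds)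
    (hts : charDegree (t : G → ℂ) ∈ ts) {ok : ℕ → Bool} {i : G} (hiV : i ∈ V) (hio : orderOf i = 2)
    (hok : ok (Nat.card (Subgroup.centralizer ({i} : Set G))) = true) (hdead : deadIf ok p e k Mu ds ts = true) :
    False := by
  classical
  have hii : i * i = 1 := by rw [← pow_two, ← hio, pow_orderOf_eq_one]
  have hpi : ¬ p ∣ orderOf i := by
    rw [hio]; exact fun h => absurd (Nat.le_of_dvd (by norm_num) h) (by omega)
  obtain ⟨y, hy⟩ := exists_ne_one_P K
  set C := Nat.card (Subgroup.centralizer ({i} : Set G)) with hC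
  have hiC : (Subgroup.centralizer ({i} : Set G)).index * C = 10200960 := by
    rw [hC, Subgroup.index_mul_card, hG]
  have hC0 : 0 < C := Nat.card_pos
  have hidx : 10200960 / C = (Subgroup.centralizer ({i} : Set G)).index :=
    Nat.div_eq_of_eq_mul_left hC0 hiC.symm
  have hCmem : C ∈ allDivs := mem_allDivs (Dvd.intro_left _ hiC)
  have hval : ∀ χ ∈ S, ∃ a : ℤ, (χ : G → ℂ) i = a ∧
      ((4 * p : ℕ) : ℤ) ∣ (charDegree (χ : G → ℂ) : ℤ) - a ∧ |a| < (charDegree (χ : G → ℂ) : ℤ) :=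
    fun χ h => value_at hG K hM R h hiV hio hp
  choose! a ha hadvd halt using hval
  -- the count of pairs
  obtain ⟨n, hn, hzero⟩ := avg_count hG K i y
  rw [column_sum K R hpi hy, ← hC] at hn
  set Sm : ℚ := 1 + ∑ χ ∈ S, (c χ : ℚ) * ((a χ : ℚ) * a χ) / (charDegree (χ : G → ℂ) : ℕ) with hSm
  have hSC : 1 + ∑ χ ∈ S, (c χ : ℂ) * ((χ : G → ℂ) i * (χ : G → ℂ) i / (χ : G → ℂ) 1) = (Sm : ℂ) := by
    rw [hSm]; push_cast
    exact congrArg _ (Finset.sum_congr rfl fun χ h => by rw [ha χ h, irr_one_eq_charDegree]; ring)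
  rw [hSC] at hn
  have hn' : (n : ℚ) * ((C : ℚ) * C) = 10200960 * (Nat.card V : ℚ) * Sm := by
    have h : (((n : ℚ) * ((C : ℚ) * C) : ℚ) : ℂ) = ((10200960 * (Nat.card V : ℚ) * Sm : ℚ) : ℂ) := by
      push_cast; exact hn
    exact_mod_cast h
  have hV0 : (Nat.card V : ℚ) ≠ 0 := Nat.cast_ne_zero.2 Nat.card_pos.ne'
  obtain ⟨m, hm⟩ : ∃ m : ℕ, (m : ℚ) * ((C : ℚ) * C) = ((10200960 * Mu : ℕ) : ℚ) * Sm := by
    rcases Nat.even_or_odd e with he | he
    · obtain ⟨q, hq⟩ := hMV he
      refine ⟨n * q, ?_⟩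
      rw [hq]; push_cast
      linear_combination (q : ℚ) * hn'
    · refine ⟨0, ?_⟩
      rw [hzero (not_real_odd K hp he hy) hii, Nat.cast_zero, zero_mul] at hn'
      have : Sm = 0 := (mul_eq_zero.1 hn'.symm).resolve_left (mul_ne_zero (by norm_num) hV0)
      rw [this, mul_zero, Nat.cast_zero, zero_mul]
  -- the relations
  have hD : 1 + ∑ χ ∈ S, c χ * (charDegree (χ : G → ℂ) : ℤ) = 0 := by
    have h := R.relation 1 (by simpa using K.hp.ne_one)
    simp only [irr_one_eq_charDegree] at h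
    exact_mod_cast h
  have hL : 1 + ∑ χ ∈ S, c χ * a χ = 0 := by
    have h := R.relation i hpi
    rw [Finset.sum_congr rfl fun χ h => by rw [ha χ h]] at h
    exact_mod_cast h
  have hnorm := R.norm i hpi a ha
  rw [← hC] at hnorm
  have hsq := R.norm 1 (by simpa using K.hp.ne_one) (fun χ => (charDegree (χ : G → ℂ) : ℤ))
    (fun χ _ => by rw [irr_one_eq_charDegree]; push_cast; rfl)
  rw [show Nat.card (Subgroup.centralizer ({(1 : G)} : Set G)) = 10200960 by
    rw [← hG, Subgroup.centralizer_eq_top_iff_subset.2 (by simp), Subgroup.card_top]] at hsq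
  have hk1 : 1 ≤ k := by
    rcases Nat.eq_zero_or_pos k with h | h
    · have := R.ek; rw [h] at this; omega
    · exact h
  have ha2 : ∀ χ ∈ S, a χ ^ 2 ≤ (C : ℤ) := fun χ h => by
    have h1 := Finset.single_le_sum (f := fun χ => a χ ^ 2) (fun _ _ => sq_nonneg _) h
    have h2 : 0 ≤ ((k : ℤ) - 1) * a t ^ 2 := mul_nonneg (by omega) (sq_nonneg _)
    linarith
  -- the signs
  have hct : c t = excP p e (charDegree (t : G → ℂ)) := by
    have hct := R.congr_t
    have he : 0 < e ∧ e < p := by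
      have h1 := R.ek
      refine ⟨Nat.pos_of_ne_zero fun h => by rw [h] at h1; omega, ?_⟩
      have : e ≤ k * e := Nat.le_mul_of_pos_left _ hk1
      omega
    rw [excP]
    rcases R.sign t R.mem_t with s | s <;> rw [s] at hct ⊢
    · rw [if_neg]
      intro h
      have h' : ((charDegree (t : G → ℂ) : ℤ)) % p = e := by exact_mod_cast h
      rw [Int.ModEq, h'] at hct
      have h2 : (p : ℤ) ∣ (e : ℤ) + e := by
        have := Int.dvd_self_sub_of_emod_eq hct.symm
        rw [← dvd_neg] at this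
        rwa [show (e : ℤ) + e = -(-1 * (e : ℤ) - e) by ring]
      rw [← Nat.cast_add, Int.natCast_dvd_natCast, ← two_mul] at h2
      rcases K.hp.dvd_mul.1 h2 with h3 | h3
      · have := Nat.le_of_dvd (by norm_num) h3; omega
      · have := Nat.le_of_dvd he.1 h3; omega
    · rw [if_pos]
      rw [Int.ModEq, show -(-1 : ℤ) * e = (e : ℤ) by ring, Int.emod_eq_of_lt (a := (e : ℤ)) (by omega)
        (by exact_mod_cast he.2)] at hct
      exact_mod_cast hct
  have hcs : ∀ χ ∈ S, χ ≠ t → c χ = sgP p (charDegree (χ : G → ℂ)) := by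
    intro χ h hne
    have h1 := R.congr χ h hne
    rw [sgP]
    rcases R.sign χ h with s | s <;> rw [s] at h1 ⊢
    · rw [if_pos]
      rw [Int.ModEq, Int.emod_eq_of_lt (a := (1 : ℤ)) (by norm_num) (by omega)] at h1
      exact_mod_cast h1
    · rw [if_neg]
      intro h'
      have h'' : ((charDegree (χ : G → ℂ) : ℤ)) % p = 1 := by exact_mod_cast h'
      rw [Int.ModEq, h''] at h1
      have h2 := Int.dvd_self_sub_of_emod_eq h1.symm
      have := Int.le_of_dvd (by norm_num) (dvd_neg.2 h2)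
      omega
  let T : IrrCharacter G → Term := fun χ =>
    ⟨charDegree (χ : G → ℂ), c χ, a χ, if χ = t then k else 1⟩
  have hmem : ∀ χ ∈ S, ∀ ds' : List ℕ, ∀ coef : ℕ → ℤ, ∀ w : ℕ, charDegree (χ : G → ℂ) ∈ ds' →
      c χ = coef (charDegree (χ : G → ℂ)) → (if χ = t then k else 1) = w →
      T χ ∈ termsI p C ds' coef w := by
    intro χ h ds' coef w hd hc hw
    refine List.mem_flatMap.2 ⟨_, hd, List.mem_map.2 ⟨a χ, mem_valsI (by omega) (halt χ h) (hadvd χ h) ?_
      (ha2 χ h), by simp only [T, hc, hw]⟩⟩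
    rw [hidx]; exact M12Uniq.dvd_index_mul χ (ha χ h)
  have h := List.all_eq_true.1 hdead C hCmem
  rw [Bool.or_eq_true, Bool.not_eq_true', ← Bool.not_eq_true] at h
  have h := h.resolve_left fun h' => h' hok
  have hsum : ∀ {β : Type} [AddCommMonoid β] (f : Term → β),
      ((T t ::ₘ (S.erase t).val.map T).map f).sum = ∑ χ ∈ S, f (T χ) := by
    intro β _ f
    rw [Multiset.map_cons, Multiset.sum_cons, Multiset.map_map]
    exact Finset.add_sum_erase _ (fun χ => f (T χ)) R.mem_t
  refine noSol_sound (by positivity) h one_pos ((S.erase t).val.map T) (T t)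
    (by rw [Multiset.card_map, Finset.card_val, Finset.card_erase_of_mem R.mem_t, R.card])
    (fun x hx => by
      obtain ⟨χ, hχ, rfl⟩ := Multiset.mem_map.1 hx
      have hχS := Finset.mem_of_mem_erase hχ
      have hne := Finset.ne_of_mem_erase hχ
      exact hmem χ hχS _ _ _ (hds χ hχS hne) (hcs χ hχS hne) (if_neg hne))
    (hmem t R.mem_t _ _ _ hts hct (if_pos rfl))
    (fun x hx => by
      rcases Multiset.mem_cons.1 hx with rfl | hx
      · exact charDegree_pos t
      · obtain ⟨χ, -, rfl⟩ := Multiset.mem_map.1 hx; exact charDegree_pos χ) ?_ ?_ ?_ ?_ m ?_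
  · rw [hsum]; exact hD
  · rw [hsum]; exact hL
  · rw [hsum]
    simp only [T]
    rw [Finset.sum_congr rfl fun χ _ => show ((if χ = t then k else 1 : ℕ) : ℤ) * (a χ * a χ) =
        a χ ^ 2 + if χ = t then ((k : ℤ) - 1) * a t ^ 2 else 0 by
      split_ifs with h'
      · subst h'; push_cast; ring
      · push_cast; ring, Finset.sum_add_distrib, Finset.sum_ite_eq' S t, if_pos R.mem_t]
    exact_mod_cast hnorm
  · rw [hsum]
    simp only [T]
    rw [Finset.sum_congr rfl fun χ _ => show ((if χ = t then k else 1 : ℕ) : ℤ) *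
        ((charDegree (χ : G → ℂ) : ℤ) * charDegree (χ : G → ℂ)) = (charDegree (χ : G → ℂ) : ℤ) ^ 2 +
        if χ = t then ((k : ℤ) - 1) * (charDegree (t : G → ℂ) : ℤ) ^ 2 else 0 by
      split_ifs with h'
      · subst h'; push_cast; ring
      · push_cast; ring, Finset.sum_add_distrib, Finset.sum_ite_eq' S t, if_pos R.mem_t]
    push_cast at hsq ⊢
    exact hsq
  · rw [hsum, hm, hSm]
    simp only [T, Nat.cast_one, Int.cast_one, div_one, mul_div_assoc]

/-- The lists of degrees exclude an involution in the complement with the given divisor of its centralizer. -/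
theorem no_involution_at (hp : 2 < p) {Mu : ℕ} (hMu : 0 < Mu) (hMV : Even e → Nat.card V ∣ Mu)
    (ds ts : List ℕ) (hds : ∀ χ ∈ S, χ ≠ t → charDegree (χ : G → ℂ) ∈ ds)
    (hts : charDegree (t : G → ℂ) ∈ ts) {d : ℕ} {i : G} (hiV : i ∈ V) (hio : orderOf i = 2)
    (hd : d ∣ Nat.card (Subgroup.centralizer ({i} : Set G))) (hdead : deadAt d p e k Mu ds ts = true) :
    False :=
  no_involution_if hG K hM R hp hMu hMV ds ts hds hts hiV hio
    (by simp only [Nat.beq_eq]; exact Nat.mod_eq_zero_of_dvd hd) hdead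

/-- The lists of degrees exclude an involution in the complement. -/
theorem no_involution (hp : 2 < p) {Mu : ℕ} (hMu : 0 < Mu) (hMV : Even e → Nat.card V ∣ Mu)
    (ds ts : List ℕ) (hds : ∀ χ ∈ S, χ ≠ t → charDegree (χ : G → ℂ) ∈ ds)
    (hts : charDegree (t : G → ℂ) ∈ ts) (hdead : deadI p e k Mu ds ts = true) :
    ¬ 2 ∣ Nat.card V := by
  classical
  intro h2
  haveI : Fact (Nat.Prime 2) := ⟨Nat.prime_two⟩
  obtain ⟨vv, hvv'⟩ := exists_prime_orderOf_dvd_card' 2 h2
  set i : G := (vv : G) with hi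
  have hio : orderOf i = 2 := by rw [hi, Subgroup.orderOf_coe, hvv']
  obtain ⟨y, hy⟩ := exists_ne_one_P K
  have hy1 : (y : G) ≠ 1 := fun h => hy (Subtype.ext h)
  have hcomm : Commute (y : G) i := K.D.pv _ y.2 _ vv.2
  set C := Nat.card (Subgroup.centralizer ({i} : Set G)) with hC
  have hCdiv : 2 * p ∣ C := by
    have hmem : (y : G) * i ∈ Subgroup.centralizer ({i} : Set G) := by
      rw [Subgroup.mem_centralizer_singleton_iff, ← mul_assoc, ← hcomm.eq]
    have := Subgroup.orderOf_dvd_natCard _ hmem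
    rwa [hcomm.orderOf_mul_eq_mul_orderOf_of_coprime (by
      rw [DefOne.orderOf_P K y.2 hy1, hio]
      exact (Nat.coprime_primes K.hp Nat.prime_two).2 (by omega)),
      DefOne.orderOf_P K y.2 hy1, hio, mul_comm] at this
  exact no_involution_at hG K hM R hp hMu hMV ds ts hds hts vv.2 hio hCdiv hdead

end Cfsg.Agent.M23Order
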