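import Cfsg.Agent.Lib.M23Order.TwentyThree

/-!
Consequences of a centralizer of order 23: degrees modulo 23 and the values at an element of order 23.
-/

set_option linter.unusedSectionVars false
set_option linter.style.haveILetI false

namespace Cfsg.Agent.M23Order

open Cfsg Cfsg.Agent.Char Cfsg.Agent.Blocks Cfsg.Agent.CCSylow Cfsg.Agent.DefOne

open scoped ComplexConjugate

universe u

variable {G : Type u} [Group G] [Fintype G]

section General

variable {p : ℕ} {P V N : Subgroup G} {e : ℕ} (K : Conf p P V N e) (hV : Nat.card V = 1)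
  [Fintype P] [Fintype V] [Fintype N] [Fintype (P →* ℂˣ)] {M : Ideal AlgInt} [M.IsPrime]
  (hM : IsPModular p M)

include K hV hM

/-- With a trivial complement a degree prime to `p` belongs to the principal block. -/
theorem mem_principal {χ : IrrCharacter G} (h : ¬ p ∣ charDegree (χ : G → ℂ)) :
    χ ∈ principalBlock M G := by
  classical
  obtain ⟨b, hb⟩ := exists_inR K hM h
  have hsub : ∀ v : V, v = 1 := fun v => by
    haveI := (Nat.card_eq_one_iff_unique.1 hV).1
    exact Subsingleton.elim _ _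
  have hbT : b = trivB V := by
    obtain ⟨n, hn⟩ := IsCharacter.exists_degree (IsIrrCharacter.isCharacter b.2)
    have h1 := Cfsg.Agent.CharX.sum_deg_sq (G := V)
    rw [hV] at h1
    refine Subtype.ext (funext fun v => ?_)
    rw [hsub v]
    show (b : V → ℂ) 1 = 1
    have h2 := Finset.single_le_sum (f := fun χ : IrrCharacter V => charDegree (χ : V → ℂ) ^ 2)
      (fun _ _ => Nat.zero_le _) (Finset.mem_univ b)
    rw [h1] at h2
    have h3 := charDegree_pos b
    rw [irr_one_eq_charDegree]
    have : charDegree (b : V → ℂ) = 1 := by nlinarith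
    rw [this, Nat.cast_one]
  obtain ⟨y, hy⟩ := exists_ne_one_P K
  by_contra hn
  exact phi_ne_zero K hM (hbT ▸ hb) hy (phi_not_principal K hM hn hy)

/-- With a trivial complement a degree prime to `p` is that of a row. -/
theorem deg_cases {k : ℕ} {S : Finset (IrrCharacter G)} {c : IrrCharacter G → ℤ} {t : IrrCharacter G}
    (R : Rows p e k P V M S c t) {χ : IrrCharacter G} (h : ¬ p ∣ charDegree (χ : G → ℂ)) :
    χ = principal G ∨ (χ ∈ S ∧ χ ≠ t) ∨
      (charDegree (χ : G → ℂ) = charDegree (t : G → ℂ) ∧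
        (χ = t ∨ ∃ σ, FixesP p σ ∧ galT σ t = χ)) := by
  rcases R.cases χ (mem_principal K hV hM h) with h1 | h1 | ⟨σ, hσ, h1⟩
  · exact Or.inl h1
  · by_cases h2 : χ = t
    · exact Or.inr (Or.inr ⟨by rw [h2], Or.inl h2⟩)
    · exact Or.inr (Or.inl ⟨h1, h2⟩)
  · refine Or.inr (Or.inr ⟨?_, Or.inr ⟨σ, hσ, h1⟩⟩)
    have h2 := DefOne.galT_one σ t
    rw [h1, irr_one_eq_charDegree, irr_one_eq_charDegree] at h2
    exact_mod_cast h2

end General

variable [IsSimpleGroup G] (hG : Nat.card G = 10200960)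
  {P V N : Subgroup G} (K : Conf 23 P V N 11) (hV : Nat.card V = 1)
  [Fintype P] [Fintype V] [Fintype N] [Fintype (P →* ℂˣ)] {M : Ideal AlgInt} [M.IsPrime]
  (hM : IsPModular 23 M)

include hG K hV hM

/-- The residues of the degrees modulo twenty-three. -/
theorem deg_mod (χ : IrrCharacter G) :
    charDegree (χ : G → ℂ) % 23 ∈ ([0, 1, 22, 11, 12] : List ℕ) := by
  by_cases h : 23 ∣ charDegree (χ : G → ℂ)
  · simp [Nat.mod_eq_zero_of_dvd h]
  obtain ⟨k, S, c, t, R⟩ := exists_rows hM (by norm_num) K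
  have hk : k * 11 = 22 := R.ek
  have hχ := mem_principal K hV hM h
  have hmem : ∀ ψ : IrrCharacter G, ψ ∈ S → charDegree (ψ : G → ℂ) % 23 ∈ ([0, 1, 22, 11, 12] : List ℕ) := by
    intro ψ hψ
    by_cases hψt : ψ = t
    · have h1 := R.congr_t
      rw [Int.ModEq] at h1
      subst hψt
      rcases R.sign ψ hψ with s | s <;> rw [s] at h1 <;> simp <;> omega
    · have h1 := R.congr ψ hψ hψt
      rw [Int.ModEq] at h1
      rcases R.sign ψ hψ with s | s <;> rw [s] at h1 <;> simp <;> omega
  rcases R.cases χ hχ with h1 | h1 | ⟨σ, -, h1⟩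
  · rw [h1, show charDegree (principal G : G → ℂ) = 1 from Cfsg.Agent.CharX.charDegree_one]; simp
  · exact hmem χ h1
  · have h2 := DefOne.galT_one σ t
    rw [h1, irr_one_eq_charDegree, irr_one_eq_charDegree] at h2
    rw [show charDegree (χ : G → ℂ) = charDegree (t : G → ℂ) by exact_mod_cast h2]
    exact hmem t R.mem_t

/-- A degree congruent to one or minus one has that value as its component. -/
theorem phi_unit {χ : IrrCharacter G} (h : charDegree (χ : G → ℂ) % 23 = 1 ∨ charDegree (χ : G → ℂ) % 23 = 22)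
    {y : P} (hy : y ≠ 1) : phi (χ : G → ℂ) (trivB V) y = (sgP 23 (charDegree (χ : G → ℂ)) : ℂ) := by
  obtain ⟨k, S, c, t, R⟩ := exists_rows hM (by norm_num) K
  have hk : k * 11 = 22 := R.ek
  have hχ := mem_principal K hV hM (χ := χ) (fun h' => by have := Nat.mod_eq_zero_of_dvd h'; omega)
  have ht : charDegree (t : G → ℂ) % 23 = 11 ∨ charDegree (t : G → ℂ) % 23 = 12 := by
    have h1 := R.congr_t
    rw [Int.ModEq] at h1
    rcases R.sign t R.mem_t with s | s <;> rw [s] at h1 <;> omega
  rcases R.cases χ hχ with h1 | h1 | ⟨σ, -, h1⟩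
  · subst h1
    rw [phi_principal K hM hχ hy, show charDegree (principal G : G → ℂ) = 1 from Cfsg.Agent.CharX.charDegree_one]
    simp [sgP, principal]
  · have hne : χ ≠ t := fun e => by rw [e] at h; omega
    rw [R.phi_eq χ h1 (Or.inl hne) y hy]
    have h2 := R.congr χ h1 hne
    rw [Int.ModEq] at h2
    congr 1
    rcases R.sign χ h1 with s | s <;> rw [s] at h2 ⊢ <;> simp only [sgP] <;> split_ifs <;> omega
  · exfalso
    have h2 := DefOne.galT_one σ t
    rw [h1, irr_one_eq_charDegree, irr_one_eq_charDegree] at h2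
    have : charDegree (χ : G → ℂ) = charDegree (t : G → ℂ) := by exact_mod_cast h2
    omega

omit hV in
/-- A degree divisible by twenty-three has no component. -/
theorem phi_zero {χ : IrrCharacter G} (h : 23 ∣ charDegree (χ : G → ℂ)) {y : P} (hy : y ≠ 1) :
    phi (χ : G → ℂ) (trivB V) y = 0 := by
  simp [phi, section_zero_of_dvd K hM h hy]

omit hG K hV hM in
/-- No complement element has order twenty-three for a prime other than twenty-three. -/
theorem not_dvd_other {p : ℕ} {P' V' N' : Subgroup G} {e' : ℕ} (K' : Conf p P' V' N' e') (hp : p ≠ 23)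
    (hh : ∀ x : G, orderOf x = 23 → Nat.card (Subgroup.centralizer ({x} : Set G)) = 23) :
    ¬ 23 ∣ Nat.card V' := by
  classical
  intro hd
  haveI : Fact (Nat.Prime 23) := ⟨by norm_num⟩
  haveI : Fintype P' := Fintype.ofFinite _
  haveI : Fintype (P' →* ℂˣ) := Fintype.ofFinite _
  obtain ⟨u, hu⟩ := exists_prime_orderOf_dvd_card' 23 hd
  have huo : orderOf (u : G) = 23 := by rw [Subgroup.orderOf_coe, hu]
  obtain ⟨z, hz⟩ := exists_ne_one_P K'
  have hz1 : (z : G) ≠ 1 := fun h => hz (Subtype.ext h)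
  have hmem : (z : G) ∈ Subgroup.centralizer ({(u : G)} : Set G) :=
    Subgroup.mem_centralizer_singleton_iff.2 (K'.D.pv _ z.2 _ u.2)
  have := Subgroup.orderOf_dvd_natCard _ hmem
  rw [DefOne.orderOf_P K' z.2 hz1, hh _ huo] at this
  exact hp ((Nat.prime_dvd_prime_iff_eq K'.hp (Fact.out)).1 this)

end Cfsg.Agent.M23Order
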