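import Cfsg.Agent.Lib.M23Order.Lists

/-!
The searches at eleven.
-/

namespace Cfsg.Agent.M23Order

/-- The residues allowed by the block at twenty-three. -/
def res23 (d : ℕ) : Bool :=
  Nat.beq (d % 23) 0 || Nat.beq (d % 23) 1 || Nat.beq (d % 23) 22 || Nat.beq (d % 23) 11 || Nat.beq (d % 23) 12

/-- The degrees congruent to `r` or `-r` modulo eleven, with an additional property. -/
def degs11 (r : ℕ) (Q : ℕ → Bool) : List ℕ :=
  degList fun d => (Nat.beq (d % 11) r || Nat.beq (d % 11) (11 - r)) && res23 d && Nat.blt 22 d && Q d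

/-- No three. -/
def no3 (d : ℕ) : Bool := !(Nat.beq (d % 9) 0)

/-- No seven. -/
def no7 (d : ℕ) : Bool := !(Nat.beq (d % 7) 0)

set_option maxRecDepth 10000 in
theorem five_dead_three : deadI 11 5 2 1 (degs11 1 no3) [160] = true := by decide +kernel

set_option maxRecDepth 10000 in
theorem five_dead_seven : deadI 11 5 2 1 (degs11 1 no7) [160] = true := by decide +kernel

/-- The degree of the exceptional row in a relation of five rows satisfies `ok`. -/
def tCheck (ds ts : List ℕ) (ok : ℕ → Bool) : Bool :=
  ts.all fun g => ok g || ds.all fun a => ds.all fun b => ds.all fun c => ds.all fun d =>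
    !(decide (1 + (sgP 11 a * (a : ℤ) + (sgP 11 b * (b : ℤ) + (sgP 11 c * (c : ℤ) + sgP 11 d * (d : ℤ)))) +
      excP 11 5 g * (g : ℤ) = 0))

/-- Without a three the exceptional degree is 160. -/
theorem five_t_three : tCheck (degs11 1 no3) (degs11 5 no3) (fun g => Nat.beq g 160) = true := by
  decide +kernel

/-- Without a seven the exceptional degree is 160 or divisible by twenty-three. -/
theorem five_t_seven :
    tCheck (degs11 1 no7) (degs11 5 no7) (fun g => Nat.beq g 160 || Nat.beq (g % 23) 0) = true := by
  decide +kernel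

/-- The degrees without a three are divisible by twenty-three. -/
theorem ten_three : (degs11 1 no3).all (fun d => Nat.beq (d % 23) 0) = true := by decide +kernel

/-- The degrees without a seven are divisible by twenty-three, with one exception. -/
theorem ten_seven : (degs11 1 no7).all (fun d => Nat.beq (d % 23) 0 || Nat.beq d 45) = true := by decide +kernel

/-- The shapes of the complement. -/
theorem shape11 : ([2, 5, 10] : List ℕ).all (fun e => allDivs.all fun n =>
    !(Nat.beq (n % 11) 1) || Nat.beq n 1 || !(Nat.beq (927360 % (n * e)) 0) ||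
      Nat.beq (927360 / (n * e) % 23) 0 || (Nat.beq e 2) || (Nat.beq e 5 && Nat.beq (927360 / (n * e)) 1) ||
      (Nat.beq (927360 / (n * e) % 2) 0 &&
        (Nat.beq (927360 / (n * e) % 3) 0 || Nat.beq (927360 / (n * e) % 7) 0))) = true := by
  decide +kernel

/-- The pairs of degrees for an action of order two. -/
theorem two_pairs : (degList fun d => (Nat.beq (d % 11) 1 || Nat.beq (d % 11) 10) && res23 d).all (fun f =>
    (degList fun d => (Nat.beq (d % 11) 2 || Nat.beq (d % 11) 9) && res23 d).all fun g =>
      !(decide (1 + sgP 11 f * (f : ℤ) + excP 11 2 g * (g : ℤ) = 0)) ||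
        (Nat.beq f 23 && Nat.beq g 24) || (Nat.beq f 45 && Nat.beq g 46)) = true := by
  decide +kernel

/-- The orders of the complement allowed by the square, with seven among their divisors. -/
theorem two_square : ([(23, 24), (45, 46)] : List (ℕ × ℕ)).all (fun fg => allDivs.all fun n =>
    !(Nat.beq (n % 11) 1) || Nat.beq n 1 || !(Nat.beq (927360 % (n * 2)) 0) ||
      Nat.beq (927360 / (n * 2) % 23) 0 || Nat.beq (927360 / (n * 2) % 7) 0 ||
      !(Nat.beq (Nat.sqrt (11 * (927360 / (n * 2)) * 10200960 * (fg.1 * fg.2)) *
        Nat.sqrt (11 * (927360 / (n * 2)) * 10200960 * (fg.1 * fg.2)))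
        (11 * (927360 / (n * 2)) * 10200960 * (fg.1 * fg.2)))) = true := by
  decide +kernel

end Cfsg.Agent.M23Order
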