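import Cfsg.Agent.Lib.M22Uniq.Setup

/-!
Pairs of involutions with product in a section of an element of prime order.
-/

set_option linter.unusedSectionVars false
set_option linter.style.haveILetI false

namespace Cfsg.Agent.M23Order

open Cfsg Cfsg.Agent.Char Cfsg.Agent.CCSylow Cfsg.Agent.DefOne

open scoped ComplexConjugate

universe u

variable {G : Type u} [Group G] [Fintype G]

/-- The number of conjugates of `a` inverting `y`. -/
noncomputable def inverters (y a : G) : ℕ := Nat.card {x : G // IsConj a x ∧ x * y * x⁻¹ = y⁻¹}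

theorem sq_one_of_isConj {a x : G} (ha : a * a = 1) (h : IsConj a x) : x * x = 1 := by
  obtain ⟨c, rfl⟩ := isConj_iff.1 h
  calc c * a * c⁻¹ * (c * a * c⁻¹) = c * (a * a) * c⁻¹ := by group
    _ = 1 := by rw [ha, mul_one, mul_inv_cancel]

variable {p : ℕ} {P V N : Subgroup G} {e : ℕ} (K : Conf p P V N e)
  [Fintype P] [Fintype V] [Fintype N] [Fintype (P →* ℂˣ)]

include K

/-- The coordinates in the centralizer are unique. -/
theorem coord_unique {y y' v v' : G} (hy : y ∈ P) (hy' : y' ∈ P) (hv : v ∈ V) (hv' : v' ∈ V)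
    (h : y * v = y' * v') : y = y' ∧ v = v' := by
  have h1 : y'⁻¹ * y = v' * v⁻¹ := by
    calc y'⁻¹ * y = y'⁻¹ * (y * v) * v⁻¹ := by group
      _ = _ := by rw [h]; group
  have h2 : y'⁻¹ * y ∈ P ⊓ V := ⟨P.mul_mem (P.inv_mem hy') hy, h1 ▸ V.mul_mem hv' (V.inv_mem hv)⟩
  rw [(Subgroup.disjoint_of_coprime_natCard K.D.cop).eq_bot, Subgroup.mem_bot] at h2
  have h3 : y = y' := (inv_mul_eq_one.1 h2).symm
  subst h3
  exact ⟨rfl, mul_left_cancel h⟩

/-- An element inverting a generator inverts the whole subgroup. -/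
theorem inverts_all {x : G} {y : P} (hy : y ≠ 1) (hx : x * y * x⁻¹ = (y : G)⁻¹) (r : P) :
    x * r * x⁻¹ = (r : G)⁻¹ := by
  obtain ⟨i, rfl⟩ := exists_pow_eq K hy r
  rw [SubmonoidClass.coe_pow, ← conj_pow, hx, inv_pow]

theorem conj_mem_inverters {x : G} {y : P} (hx : x * y * x⁻¹ = (y : G)⁻¹) (q : P) :
    (q : G) * x * (q : G)⁻¹ * y * ((q : G) * x * (q : G)⁻¹)⁻¹ = (y : G)⁻¹ := by
  have h1 : (q : G)⁻¹ * y * q = y := by
    rw [mul_assoc, K.D.comm _ y.2 _ q.2, inv_mul_cancel_left]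
  calc (q : G) * x * (q : G)⁻¹ * y * ((q : G) * x * (q : G)⁻¹)⁻¹
      = (q : G) * (x * ((q : G)⁻¹ * y * q) * x⁻¹) * (q : G)⁻¹ := by group
    _ = (y : G)⁻¹ := by rw [h1, hx, K.D.comm _ q.2 _ (P.inv_mem y.2), mul_inv_cancel_right]

open scoped Classical in
/-- The pairs of conjugates of two involutions with product in a section. -/
theorem pairs (hp : 2 < p) {y : P} (hy : y ≠ 1) {a b : G} (ha : a * a = 1) (hb : b * b = 1) :
    ((Nat.card (Subgroup.centralizer ({a} : Set G)) : ℂ) * Nat.card (Subgroup.centralizer ({b} : Set G))) *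
        ((inverters (y : G) a : ℂ) * inverters (y : G) b) =
      (p : ℂ) * Nat.card V * Nat.card G * ∑ χ : IrrCharacter G,
        (χ : G → ℂ) a * (χ : G → ℂ) b * conj (phi (χ : G → ℂ) (trivB V) y) / (χ : G → ℂ) 1 := by
  set T : V → Finset (G × G) := fun w =>
    (classFinset a ×ˢ classFinset b).filter fun q => q.1 * q.2 = (y : G) * w with hT
  obtain ⟨k, hk1, hk2⟩ := Nat.chineseRemainder K.D.cop 1 0
  have hpw : ∀ w : V, ((y : G) * w) ^ k = y := by
    intro w
    rw [(show Commute (y : G) w from K.D.pv _ y.2 _ w.2).mul_pow,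
      show (w : G) ^ k = 1 from orderOf_dvd_iff_pow_eq_one.1 (by
        rw [Subgroup.orderOf_coe]
        exact (orderOf_dvd_natCard w).trans (Nat.modEq_zero_iff_dvd.1 hk2)), mul_one]
    conv_rhs => rw [← pow_one (y : G)]
    refine pow_eq_pow_iff_modEq.2 (hk1.of_dvd ?_)
    rw [Subgroup.orderOf_coe]
    exact orderOf_dvd_natCard y
  -- a factor of such a product inverts `y`
  have hfac : ∀ (c d : G) (w : V), c * c = 1 → d * d = 1 → c * d = (y : G) * w →
      c * y * c⁻¹ = (y : G)⁻¹ ∧ d * y * d⁻¹ = (y : G)⁻¹ := by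
    intro c d w hc hd hcd
    have ec : c⁻¹ = c := inv_eq_of_mul_eq_one_right hc
    have ed : d⁻¹ = d := inv_eq_of_mul_eq_one_right hd
    have h1 : c * ((y : G) * w) * c⁻¹ = ((y : G) * w)⁻¹ := by
      rw [← hcd, mul_inv_rev, ec, ed, ← mul_assoc, hc, one_mul]
    have h2 : d * ((y : G) * w) * d⁻¹ = ((y : G) * w)⁻¹ := by
      rw [← hcd, mul_inv_rev, ec, ed, mul_assoc, mul_assoc c, hd, mul_one]
    have h1' := congrArg (· ^ k) h1
    have h2' := congrArg (· ^ k) h2
    simp only [conj_pow, inv_pow, hpw] at h1' h2'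
    exact ⟨h1', h2'⟩
  -- the square roots in `P`
  have hsq : Function.Bijective fun r : P => r * r := by
    refine Finite.injective_iff_bijective.1 fun r s h => ?_
    have ho : (Nat.card P).Coprime 2 := by
      rw [K.hP]
      exact (Nat.coprime_primes K.hp Nat.prime_two).2 (by omega)
    exact (powCoprime ho).injective (by simpa [powCoprime, pow_two] using h)
  have hcount : (∑ w : V, (T w).card) * p = inverters (y : G) a * inverters (y : G) b := by
    rw [inverters, inverters, ← Nat.card_prod]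
    conv_lhs => rw [← K.hP, Finset.sum_congr rfl fun w _ => (Nat.card_eq_finsetCard (T w)).symm,
      ← Nat.card_sigma, ← Nat.card_prod]
    have hmem : ∀ (w : V) (z : T w), IsConj a z.1.1 ∧ IsConj b z.1.2 ∧ z.1.1 * z.1.2 = (y : G) * w := by
      intro w z
      obtain ⟨h1, h2⟩ := Finset.mem_filter.1 z.2
      exact ⟨mem_classFinset.1 (Finset.mem_product.1 h1).1, mem_classFinset.1 (Finset.mem_product.1 h1).2, h2⟩
    refine Nat.card_eq_of_bijective (fun z : (Σ w : V, T w) × P =>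
      ((⟨z.1.2.1.1, (hmem _ z.1.2).1, (hfac _ _ _ (sq_one_of_isConj ha (hmem _ z.1.2).1)
          (sq_one_of_isConj hb (hmem _ z.1.2).2.1) (hmem _ z.1.2).2.2).1⟩,
        ⟨(z.2 : G) * z.1.2.1.2 * (z.2 : G)⁻¹,
          (hmem _ z.1.2).2.1.trans (isConj_iff.2 ⟨(z.2 : G), rfl⟩),
          conj_mem_inverters K (hfac _ _ _ (sq_one_of_isConj ha (hmem _ z.1.2).1)
            (sq_one_of_isConj hb (hmem _ z.1.2).2.1) (hmem _ z.1.2).2.2).2 z.2⟩) :
        {x : G // IsConj a x ∧ x * (y : G) * x⁻¹ = (y : G)⁻¹} ×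
          {x : G // IsConj b x ∧ x * (y : G) * x⁻¹ = (y : G)⁻¹})) ⟨?_, ?_⟩
    · rintro ⟨⟨w, z⟩, q⟩ ⟨⟨w', z'⟩, q'⟩ h
      simp only [Prod.mk.injEq, Subtype.mk.injEq] at h
      obtain ⟨e1, e2⟩ := h
      obtain ⟨hz1, -, hz3⟩ := hmem w z
      obtain ⟨-, hz2', hz3'⟩ := hmem w' z'
      have hca : z.1.1 * y * z.1.1⁻¹ = (y : G)⁻¹ :=
        (hfac _ _ _ (sq_one_of_isConj ha hz1) (sq_one_of_isConj hb (hmem w z).2.1) hz3).1
      set r : P := q'⁻¹ * q with hr
      have e3 : z'.1.2 = (r : G) * z.1.2 * (r : G)⁻¹ := by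
        calc z'.1.2 = (q' : G)⁻¹ * ((q' : G) * z'.1.2 * (q' : G)⁻¹) * q' := by group
          _ = _ := by rw [← e2, hr, Subgroup.coe_mul, Subgroup.coe_inv]; group
      have e4 : z.1.1 * r = (r : G)⁻¹ * z.1.1 := mul_inv_eq_iff_eq_mul.1 (inverts_all K hy hca r)
      have e5 : (y : G) * w' = ((r⁻¹ * r⁻¹ * y : P) : G) * w := by
        rw [← hz3', ← e1, e3, ← mul_assoc, ← mul_assoc, e4, mul_assoc ((r : G)⁻¹), hz3]
        simp only [Subgroup.coe_mul, Subgroup.coe_inv]
        rw [mul_assoc ((r : G)⁻¹), mul_assoc (y : G), show (w : G) * (r : G)⁻¹ = (r : G)⁻¹ * w from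
          (K.D.pv _ (P.inv_mem r.2) _ w.2).symm, ← mul_assoc (y : G), ← mul_assoc, ← mul_assoc,
          mul_assoc ((r : G)⁻¹), K.D.comm _ y.2 _ (P.inv_mem r.2), ← mul_assoc]
      obtain ⟨e6, e7⟩ := coord_unique K y.2 (r⁻¹ * r⁻¹ * y).2 w'.2 w.2 e5
      have e8 : r⁻¹ * r⁻¹ * y = y := Subtype.ext e6.symm
      have e9 : r⁻¹ = 1 := hsq.1 (by simpa using e8)
      have hqq : q' = q := by
        have := inv_eq_one.1 e9
        exact inv_mul_eq_one.1 this
      subst hqq
      obtain rfl : w' = w := Subtype.ext e7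
      obtain rfl : z = z' := Subtype.ext (Prod.ext e1 (by
        rw [e3, hr, inv_mul_cancel, OneMemClass.coe_one, one_mul, inv_one, mul_one]))
      rfl
    · rintro ⟨⟨c, hc, hcy⟩, ⟨d, hd, hdy⟩⟩
      have hc2 := sq_one_of_isConj ha hc
      have hcd : c * d * y * (c * d)⁻¹ = (y : G) := by
        calc c * d * y * (c * d)⁻¹ = c * (d * y * d⁻¹) * c⁻¹ := by group
          _ = y := by rw [hdy, ← conj_inv, hcy, inv_inv]
      have hmem' : c * d ∈ Subgroup.centralizer (P : Set G) := by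
        rw [centralizer_P K y.2 (fun h => hy (Subtype.ext h)), Subgroup.mem_centralizer_singleton_iff]
        exact mul_inv_eq_iff_eq_mul.1 hcd
      obtain ⟨u, hu, w, hw, huw⟩ := (K.hC _).1 hmem'
      obtain ⟨r, hr⟩ := hsq.2 ((⟨u, hu⟩ : P)⁻¹ * y)
      simp only at hr
      have hr' : (r : G) * r = u⁻¹ * y := by simpa using congrArg Subtype.val hr
      set d' := (r : G)⁻¹ * d * r with hd'
      have hconj : IsConj b d' := hd.trans (isConj_iff.2 ⟨(r : G)⁻¹, by rw [hd', inv_inv]⟩)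
      have hprod : c * d' = (y : G) * w := by
        have e4 : c * (r : G)⁻¹ = (r : G) * c := by
          have := mul_inv_eq_iff_eq_mul.1 (inverts_all K hy hcy r⁻¹)
          simpa using this
        calc c * d' = (r : G) * (c * d) * r := by rw [hd', ← mul_assoc, ← mul_assoc, e4]; group
          _ = (r : G) * u * ((w : G) * r) := by rw [← huw]; group
          _ = (r : G) * u * ((r : G) * w) := by rw [K.D.pv _ r.2 _ hw]
          _ = u * ((r : G) * r) * w := by rw [K.D.comm _ r.2 _ hu]; group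
          _ = (y : G) * w := by rw [hr', mul_inv_cancel_left]
      refine ⟨⟨⟨⟨w, hw⟩, ⟨(c, d'), Finset.mem_filter.2 ⟨Finset.mem_product.2
        ⟨mem_classFinset.2 hc, mem_classFinset.2 hconj⟩, hprod⟩⟩⟩, r⟩, ?_⟩
      simp only [Prod.mk.injEq, Subtype.mk.injEq, true_and]
      rw [hd']
      group
  -- the character sum
  have hchar : ((Subgroup.centralizer ({a} : Set G)).index : ℂ) *
      (Subgroup.centralizer ({b} : Set G)).index * ∑ χ : IrrCharacter G,
        (χ : G → ℂ) a * (χ : G → ℂ) b * conj (phi (χ : G → ℂ) (trivB V) y) / (χ : G → ℂ) 1 =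
      (Nat.card V : ℂ)⁻¹ * Nat.card G * ((∑ w : V, (T w).card : ℕ) : ℂ) := by
    have h1 : ∀ χ : IrrCharacter G, ((Subgroup.centralizer ({a} : Set G)).index : ℂ) *
        (Subgroup.centralizer ({b} : Set G)).index *
          ((χ : G → ℂ) a * (χ : G → ℂ) b * conj (phi (χ : G → ℂ) (trivB V) y) / (χ : G → ℂ) 1) =
        (Nat.card V : ℂ)⁻¹ * ∑ w : V, ∑ q ∈ classFinset a ×ˢ classFinset b,
          (χ : G → ℂ) (q.1 * q.2) * conj ((χ : G → ℂ) ((y : G) * w)) := by
      intro χ
      rw [show conj (phi (χ : G → ℂ) (trivB V) y) = (Nat.card V : ℂ)⁻¹ * ∑ w : V,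
        conj ((χ : G → ℂ) ((y : G) * w)) by
          simp [phi, trivB, map_sum, map_inv₀]]
      simp only [← Finset.sum_mul, Finset.sum_product, TICongr.sum_class_mul χ.2]
      rw [← Finset.mul_sum]
      ring
    rw [Finset.mul_sum, Finset.sum_congr rfl fun χ _ => h1 χ, ← Finset.mul_sum, mul_assoc]
    congr 1
    rw [Finset.sum_comm, Nat.cast_sum, Finset.mul_sum]
    refine Finset.sum_congr rfl fun w _ => ?_
    rw [Finset.sum_comm]
    simp only [column_orth_count]
    rw [← Nat.cast_sum]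
    norm_cast
    simp only [Finset.card_filter]
    rw [Finset.sum_comm, Nat.card_eq_fintype_card, ← Finset.card_univ]
    refine Finset.sum_const_nat fun x _ => ?_
    rw [← Finset.card_filter, hT]
    refine Finset.card_equiv ((MulAut.conj x⁻¹).toEquiv.prodCongr (MulAut.conj x⁻¹).toEquiv) fun q => ?_
    simp only [Finset.mem_filter, Finset.mem_product, mem_classFinset, Equiv.prodCongr_apply,
      Prod.map_fst, Prod.map_snd, MulEquiv.toEquiv_eq_coe, MulEquiv.coe_toEquiv, MulAut.conj_apply,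
      inv_inv]
    have hgc : ∀ a b : G, IsConj a (x⁻¹ * b * x) ↔ IsConj a b := fun a b =>
      ⟨fun h => h.trans (isConj_iff.2 ⟨x, by group⟩), fun h => h.trans (isConj_iff.2 ⟨x⁻¹, by group⟩)⟩
    rw [hgc, hgc, show x⁻¹ * q.1 * x * (x⁻¹ * q.2 * x) = x⁻¹ * (q.1 * q.2) * x by group]
    refine and_congr Iff.rfl ⟨fun h => by rw [← h]; group, fun h => by rw [← h]; group⟩
  have hidx : ∀ x : G, ((Subgroup.centralizer ({x} : Set G)).index : ℂ) *
      Nat.card (Subgroup.centralizer ({x} : Set G)) = (Nat.card G : ℂ) := fun x => by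
    exact_mod_cast Subgroup.index_mul_card _
  have hV0 : (Nat.card V : ℂ) ≠ 0 := Nat.cast_ne_zero.2 Nat.card_pos.ne'
  have hG0 : (Nat.card G : ℂ) ≠ 0 := Nat.cast_ne_zero.2 Nat.card_pos.ne'
  rw [show (inverters (y : G) a : ℂ) * inverters (y : G) b = ((∑ w : V, (T w).card : ℕ) : ℂ) * p by
    exact_mod_cast hcount.symm]
  set Z := ∑ χ : IrrCharacter G,
    (χ : G → ℂ) a * (χ : G → ℂ) b * conj (phi (χ : G → ℂ) (trivB V) y) / (χ : G → ℂ) 1
  have hA := hidx a
  have hB := hidx b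
  set S := ((∑ w : V, (T w).card : ℕ) : ℂ)
  set A := (Nat.card (Subgroup.centralizer ({a} : Set G)) : ℂ)
  set B := (Nat.card (Subgroup.centralizer ({b} : Set G)) : ℂ)
  set I := ((Subgroup.centralizer ({a} : Set G)).index : ℂ)
  set J := ((Subgroup.centralizer ({b} : Set G)).index : ℂ)
  have hchar' : (Nat.card V : ℂ) * (I * J * Z) = (Nat.card G : ℂ) * S := by
    rw [hchar, ← mul_assoc, ← mul_assoc, mul_inv_cancel₀ hV0, one_mul]
  refine mul_left_cancel₀ hG0 ?_
  linear_combination (-(A * B * (p : ℂ))) * hchar' + (p : ℂ) * Nat.card V * Z * (B * J) * hA +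
    (p : ℂ) * Nat.card V * Z * (Nat.card G : ℂ) * hB

/-- With a self-centralizing subgroup all inverting conjugates form one orbit. -/
theorem inverters_eq (hp : 2 < p) (hV : Nat.card V = 1) {y : P} (hy : y ≠ 1) {i : G}
    (hi : i * y * i⁻¹ = (y : G)⁻¹) : inverters (y : G) i = p := by
  have hC : Nat.card (Subgroup.centralizer (P : Set G)) = p := by
    rw [card_centralizer K, hV, mul_one]
  refine le_antisymm ?_ ?_
  · have hmem : ∀ x : {x : G // IsConj i x ∧ x * y * x⁻¹ = (y : G)⁻¹},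
        (x : G)⁻¹ * i ∈ Subgroup.centralizer (P : Set G) := by
      rintro ⟨x, -, hx⟩
      rw [centralizer_P K y.2 (fun h => hy (Subtype.ext h)), Subgroup.mem_centralizer_singleton_iff]
      refine mul_inv_eq_iff_eq_mul.1 ?_
      calc x⁻¹ * i * y * (x⁻¹ * i)⁻¹ = x⁻¹ * (i * y * i⁻¹) * x := by group
        _ = x⁻¹ * (x * y * x⁻¹) * x := by rw [hi, hx]
        _ = y := by group
    refine (Nat.card_le_card_of_injective (fun x => (⟨_, hmem x⟩ : Subgroup.centralizer (P : Set G)))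
      fun x x' h => ?_).trans_eq hC
    have := congrArg Subtype.val h
    simp only [mul_left_inj, inv_inj] at this
    exact Subtype.ext this
  · refine le_of_eq_of_le K.hP.symm (Nat.card_le_card_of_injective (fun q : P =>
      (⟨(q : G) * i * (q : G)⁻¹, isConj_iff.2 ⟨q, rfl⟩, conj_mem_inverters K hi q⟩ :
        {x : G // IsConj i x ∧ x * y * x⁻¹ = (y : G)⁻¹})) fun q q' h => ?_)
    have h1 : (q : G) * i * (q : G)⁻¹ = (q' : G) * i * (q' : G)⁻¹ := congrArg Subtype.val h
    set r : P := q'⁻¹ * q with hr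
    have h2 : (r : G) * i * (r : G)⁻¹ = i := by
      calc (r : G) * i * (r : G)⁻¹ = (q' : G)⁻¹ * ((q : G) * i * (q : G)⁻¹) * q' := by
            rw [hr, Subgroup.coe_mul, Subgroup.coe_inv]; group
        _ = i := by rw [h1]; group
    have h3 : i * r * i⁻¹ = (r : G) := mul_inv_eq_iff_eq_mul.2 (mul_inv_eq_iff_eq_mul.1 h2).symm
    rw [inverts_all K hy hi r] at h3
    have h4 : r = 1 := by
      have h5 : r ^ 2 = 1 := Subtype.ext (by
        rw [pow_two, Subgroup.coe_mul, OneMemClass.coe_one]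
        nth_rw 1 [← h3]
        exact inv_mul_cancel _)
      have h6 : orderOf r ∣ 1 := by
        have hco : Nat.Coprime 2 (Nat.card P) := by
          rw [K.hP]; exact (Nat.coprime_primes Nat.prime_two K.hp).2 (by omega)
        rw [← hco.gcd_eq_one]
        exact Nat.dvd_gcd (orderOf_dvd_of_pow_eq_one h5) (orderOf_dvd_natCard r)
      exact orderOf_eq_one_iff.1 (Nat.dvd_one.1 h6)
    exact (inv_mul_eq_one.1 h4).symm

/-- An involution of the normalizer inverting `y`. -/
theorem exists_inverter (he : 2 ∣ e) (hp : 2 < p) (hV : Nat.card V = 1) {y : P} (hy : y ≠ 1) :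
    ∃ i : G, orderOf i = 2 ∧ i * y * i⁻¹ = (y : G)⁻¹ := by
  haveI : Fact (Nat.Prime 2) := ⟨Nat.prime_two⟩
  obtain ⟨i, hi⟩ := exists_prime_orderOf_dvd_card' (G := N) 2 (by
    rw [K.D.hcard]; exact Dvd.dvd.mul_right he _)
  have hi2 : orderOf (i : G) = 2 := by rw [Subgroup.orderOf_coe, hi]
  refine ⟨i, hi2, ?_⟩
  have hii : (i : G) * i = 1 := by rw [← pow_two, ← hi2, pow_orderOf_eq_one]
  have hiy : (i : G) * y * (i : G)⁻¹ ∈ P := K.D.hNP _ i.2 _ y.2
  set z := (y : G) * ((i : G) * y * (i : G)⁻¹)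
  have hz : z ∈ P := P.mul_mem y.2 hiy
  by_cases hz1 : z = 1
  · exact eq_inv_of_mul_eq_one_right hz1
  exfalso
  have hfix : (i : G) * z * (i : G)⁻¹ = z := by
    calc (i : G) * z * (i : G)⁻¹ = ((i : G) * y * (i : G)⁻¹) * (((i : G) * i) * y * ((i : G) * i)⁻¹) := by
          simp only [z]; group
      _ = z := by rw [hii, one_mul, inv_one, mul_one, K.D.comm _ hiy _ y.2]
  have hc := K.D.hsemi _ i.2 z hz hz1 hfix _ y.2
  have : (i : G) ∈ Subgroup.centralizer (P : Set G) := by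
    rw [centralizer_P K y.2 (fun h => hy (Subtype.ext h)), Subgroup.mem_centralizer_singleton_iff]
    exact mul_inv_eq_iff_eq_mul.1 hc
  have h := Subgroup.orderOf_dvd_natCard _ this
  rw [hi2, card_centralizer K, hV, mul_one] at h
  exact absurd ((Nat.prime_dvd_prime_iff_eq Nat.prime_two K.hp).1 h) (by omega)

end Cfsg.Agent.M23Order
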