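import Cfsg.Agent.Lib.M23Order.DegTwentyThree
import Cfsg.Agent.Lib.M23Order.ElevenData
import Cfsg.Agent.Lib.M23Order.Square

/-!
A simple group of order 10200960: the centralizer of an element of order eleven is of order eleven and
its normalizer of order 55.
-/

set_option linter.unusedSectionVars false
set_option linter.style.haveILetI false

namespace Cfsg.Agent.M23Order

open Cfsg Cfsg.Agent.Char Cfsg.Agent.Blocks Cfsg.Agent.CCSylow Cfsg.Agent.DefOne

universe u

variable {G : Type u} [Group G] [Fintype G] [IsSimpleGroup G] (hG : Nat.card G = 10200960)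

include hG

/-- The centralizer of an element of order twenty-three. -/
theorem cent23 {x : G} (hx : orderOf x = 23) : Nat.card (Subgroup.centralizer ({x} : Set G)) = 23 := by
  haveI : Fact (Nat.Prime 23) := ⟨by norm_num⟩
  obtain ⟨P, V, K, hV⟩ := twentyThree hG
  rw [M22Uniq.cent_card K hx, hV]

/-- The residues of all degrees modulo twenty-three. -/
theorem deg_res23 (χ : IrrCharacter G) : res23 (charDegree (χ : G → ℂ)) = true := by
  haveI : Fact (Nat.Prime 23) := ⟨by norm_num⟩
  obtain ⟨P, V, K, hV⟩ := twentyThree hG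
  haveI : Fintype (P : Subgroup G) := Fintype.ofFinite _
  haveI : Fintype V := Fintype.ofFinite _
  haveI : Fintype (Subgroup.normalizer ((P : Subgroup G) : Set G)) := Fintype.ofFinite _
  haveI : Fintype ((P : Subgroup G) →* ℂˣ) := Fintype.ofFinite _
  obtain ⟨M, hM⟩ := exists_isPModular_witness 23
  haveI := IsPModular.isPrime hM
  have h := deg_mod hG K hV hM χ
  simp only [res23, Bool.or_eq_true, Nat.beq_eq]
  simp only [List.mem_cons, List.not_mem_nil, or_false] at h
  omega

omit hG in
theorem fact3 : (10200960 : ℕ).factorization 3 = 2 := by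
  rw [show (10200960 : ℕ) = 3 ^ 2 * 1133440 from rfl, Nat.factorization_mul (by norm_num) (by norm_num),
    Finsupp.add_apply, Nat.Prime.factorization_pow Nat.prime_three, Finsupp.single_eq_same,
    Nat.factorization_eq_zero_of_not_dvd (by norm_num)]

omit hG in
theorem fact7 : (10200960 : ℕ).factorization 7 = 1 := by
  rw [show (10200960 : ℕ) = 7 ^ 1 * 1457280 from rfl, Nat.factorization_mul (by norm_num) (by norm_num),
    Finsupp.add_apply, Nat.Prime.factorization_pow (by norm_num : Nat.Prime 7), Finsupp.single_eq_same,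
    Nat.factorization_eq_zero_of_not_dvd (by norm_num)]

/-- A full seven or three in a degree. -/
theorem full_part {q : ℕ} (hq : q.Prime) {χ : IrrCharacter G}
    (h : q ^ (10200960 : ℕ).factorization q ∣ charDegree (χ : G → ℂ)) :
    (charDegree (χ : G → ℂ)).factorization q = (Nat.card G).factorization q := by
  rw [hG]
  refine le_antisymm ?_ ((hq.pow_dvd_iff_le_factorization (charDegree_pos χ).ne').1 h)
  exact (Nat.factorization_le_iff_dvd (charDegree_pos χ).ne' (by norm_num)).2 (deg_facts hG χ).2 q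

omit hG in
/-- The row of degree 45 is unique. -/
theorem unique_45 {α : Type u} [DecidableEq α] (T : Finset α) (f : α → ℕ) (c : α → ℤ) (hT : T.card ≤ 23)
    (h : (23 : ℤ) ∣ 1 + ∑ x ∈ T, c x * f x) (hf : ∀ x ∈ T, 23 ∣ f x ∨ (f x = 45 ∧ c x = 1)) :
    ∃ x ∈ T, f x = 45 ∧ ∀ y ∈ T, f y = 45 → y = x := by
  classical
  have h1 : (23 : ℤ) ∣ ∑ x ∈ T, (c x * f x + if f x = 45 then 1 else 0) := Finset.dvd_sum fun x hx => by
    rcases hf x hx with h' | ⟨h', h''⟩
    · rw [if_neg (fun e => by rw [e] at h'; norm_num at h'), add_zero]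
      exact Dvd.dvd.mul_left (by exact_mod_cast h') _
    · rw [if_pos h', h', h'']; norm_num
  rw [Finset.sum_add_distrib, Finset.sum_boole] at h1
  set m := (T.filter fun x => f x = 45).card with hm
  have h2 : (23 : ℤ) ∣ (m : ℤ) - 1 := by
    have := dvd_sub h1 h
    rwa [show ∑ x ∈ T, c x * (f x : ℤ) + ((m : ℕ) : ℤ) - (1 + ∑ x ∈ T, c x * (f x : ℤ)) = (m : ℤ) - 1 by ring]
      at this
  have hm23 : m ≤ 23 := le_trans (Finset.card_filter_le _ _) hT
  have hm1 : m = 1 := by obtain ⟨z, hz⟩ := h2; omega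
  obtain ⟨x, hx⟩ := Finset.card_eq_one.1 (hm ▸ hm1)
  have hxm : x ∈ T.filter fun x => f x = 45 := by rw [hx]; exact Finset.mem_singleton_self _
  obtain ⟨hx1, hx2⟩ := Finset.mem_filter.1 hxm
  refine ⟨x, hx1, hx2, fun y hy hy' => ?_⟩
  have : y ∈ T.filter fun x => f x = 45 := Finset.mem_filter.2 ⟨hy, hy'⟩
  rwa [hx, Finset.mem_singleton] at this

omit hG in
/-- The exceptional degree from the check. -/
theorem tCheck_sound {ds ts : List ℕ} {ok : ℕ → Bool} (h : tCheck ds ts ok = true) {g : ℕ} (hg : g ∈ ts)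
    (l : List ℕ) (hl : l.length = 4) (hds : ∀ a ∈ l, a ∈ ds)
    (hrel : 1 + (l.map fun a : ℕ => sgP 11 a * (a : ℤ)).sum + excP 11 5 g * (g : ℤ) = 0) : ok g = true := by
  match l, hl with
  | [a, b, c, d], _ =>
    simp only [tCheck, List.all_eq_true, Bool.or_eq_true] at h
    refine (h g hg).resolve_right fun h' => ?_
    have := h' a (hds a (by simp)) b (hds b (by simp)) c (hds c (by simp)) d (hds d (by simp))
    simp only [Bool.not_eq_true', decide_eq_false_iff_not] at this
    simp only [List.map_cons, List.map_nil, List.sum_cons, List.sum_nil, add_zero] at hrel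
    exact this hrel

section Config

variable {P V N : Subgroup G} {e : ℕ} (K : Conf 11 P V N e)
  [Fintype P] [Fintype V] [Fintype N] [Fintype (P →* ℂˣ)] {M : Ideal AlgInt} [M.IsPrime]
  (hM : IsPModular 11 M) {k : ℕ} {S : Finset (IrrCharacter G)} {c : IrrCharacter G → ℤ}
  {t : IrrCharacter G} (R : Rows 11 e k P V M S c t)

include K hM R

/-- An only row of its degree bounds the primes of the complement. -/
theorem deg_bound {χ : IrrCharacter G} (hχ : χ ∈ S)
    (hu : ∀ ψ ∈ S, charDegree (ψ : G → ℂ) = charDegree (χ : G → ℂ) → ψ = χ)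
    (hk : charDegree (t : G → ℂ) ≠ charDegree (χ : G → ℂ) ∨ k = 1) (h7 : 7 ∣ Nat.card V) :
    66 ≤ charDegree (χ : G → ℂ) := by
  have hnp : charDegree (χ : G → ℂ) ≠ 1 := fun h => R.ne_one (eq_principal hG h ▸ hχ)
  have hd1 : charDegree (principal G : G → ℂ) = 1 := Cfsg.Agent.CharX.charDegree_one
  refine small_deg_prime K hM (R.block χ hχ) (fun ψ hψ hd => ?_)
    (fun g hg => norm_ne hG (fun e : χ = principal G => R.ne_one (e ▸ hχ)) hg) (q := 7) (by norm_num) h7
  rcases hk with hk | hk
  · rcases R.cases ψ hψ with h1 | h1 | ⟨σ, -, h1⟩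
    · rw [h1, hd1] at hd; exact absurd hd.symm hnp
    · exact hu ψ h1 hd
    · have h2 := DefOne.galT_one σ t
      rw [h1, irr_one_eq_charDegree, irr_one_eq_charDegree] at h2
      have h3 : charDegree (ψ : G → ℂ) = charDegree (t : G → ℂ) := by exact_mod_cast h2
      exact absurd (h3.symm.trans hd) hk
  · rcases R.single hk ψ hψ with h1 | h1
    · rw [h1, hd1] at hd; exact absurd hd.symm hnp
    · exact hu ψ h1 hd

/-- Rows above twenty-two when the complement has an involution. -/
theorem deg_large (h2 : 2 ∣ Nat.card V) {χ : IrrCharacter G} (hχ : χ ∈ S) :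
    22 < charDegree (χ : G → ℂ) := by
  haveI : Fact (Nat.Prime 2) := ⟨Nat.prime_two⟩
  obtain ⟨v, hv⟩ := exists_prime_orderOf_dvd_card' 2 h2
  obtain ⟨a, -, ha, hlt⟩ := value_at hG K hM R hχ v.2 (i := (v : G)) (by rw [Subgroup.orderOf_coe, hv])
    (by norm_num)
  rw [abs_lt] at hlt
  obtain ⟨z, hz⟩ := ha
  omega

/-- A full part of a prime in a degree avoids the complement. -/
theorem no_full {q : ℕ} (hq : q.Prime) {χ : IrrCharacter G} (hχ : χ ∈ S) (hqV : q ∣ Nat.card V) :
    ¬ q ^ (10200960 : ℕ).factorization q ∣ charDegree (χ : G → ℂ) := fun h =>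
  not_dvd_V K hM (R.block χ hχ) hq (full_part hG hq h) hqV

end Config

set_option maxHeartbeats 1000000 in
/-- The centralizer and the normalizer at eleven. -/
theorem eleven : ∃ (P : Sylow 11 G) (V : Subgroup G),
    Conf 11 (P : Subgroup G) V (Subgroup.normalizer ((P : Subgroup G) : Set G)) 5 ∧ Nat.card V = 1 := by
  classical
  haveI : Fact (Nat.Prime 11) := ⟨by norm_num⟩
  obtain ⟨P, V, e, K, he, n, hn1, hn11, hn⟩ := exists_config hG (p := 11) (by norm_num) (by norm_num)
  haveI : Fintype (P : Subgroup G) := Fintype.ofFinite _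
  haveI : Fintype V := Fintype.ofFinite _
  haveI : Fintype (Subgroup.normalizer ((P : Subgroup G) : Set G)) := Fintype.ofFinite _
  haveI : Fintype ((P : Subgroup G) →* ℂˣ) := Fintype.ofFinite _
  have hn' : n * (e * Nat.card V) = 927360 := by
    have : 11 * (n * (e * Nat.card V)) = 11 * 927360 := by linear_combination hn
    omega
  have he1 := e_ne_one hG (by norm_num) K
  have he' : e = 2 ∨ e = 5 ∨ e = 10 := by
    have := Nat.le_of_dvd (by norm_num) he
    interval_cases e <;> first | omega | norm_num at he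
  obtain ⟨M, hM⟩ := exists_isPModular_witness 11
  haveI := IsPModular.isPrime hM
  obtain ⟨k, S, c, t, R⟩ := exists_rows hM (by norm_num) K
  have hk : k * e = 10 := R.ek
  have h23 : ¬ 23 ∣ Nat.card V := not_dvd_other K (by norm_num) fun x hx => cent23 hG hx
  have hnot1 : ∀ χ ∈ S, charDegree (χ : G → ℂ) ≠ 1 := fun χ h h1 => R.ne_one (eq_principal hG h1 ▸ h)
  have hdiv : 927360 / (n * e) = Nat.card V :=
    Nat.div_eq_of_eq_mul_right (Nat.mul_pos (by omega) (by omega)) (by rw [← hn']; ring)
  have hnmem : n ∈ allDivs := mem_allDivs ⟨11 * (e * Nat.card V), by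
    rw [show (10200960 : ℕ) = 11 * 927360 from rfl, ← hn']; ring⟩
  have hne0 : 927360 % (n * e) = 0 :=
    Nat.mod_eq_zero_of_dvd ⟨Nat.card V, by rw [← hn']; ring⟩
  have hmem : ∀ χ ∈ S, ∀ (r : ℕ) (Q : ℕ → Bool), (charDegree (χ : G → ℂ) % 11 = r ∨
      charDegree (χ : G → ℂ) % 11 = 11 - r) → 22 < charDegree (χ : G → ℂ) →
      Q (charDegree (χ : G → ℂ)) = true → charDegree (χ : G → ℂ) ∈ degs11 r Q := by
    intro χ _ r Q hr h22 hQ
    obtain ⟨hle, hdvd⟩ := deg_facts hG χ
    refine List.mem_filter.2 ⟨mem_allDivs hdvd, ?_⟩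
    simp only [Bool.and_eq_true, Bool.or_eq_true, Nat.ble_eq, Nat.beq_eq, Nat.blt_eq]
    exact ⟨⟨by omega, hle⟩, ⟨⟨hr, deg_res23 hG χ⟩, h22⟩, hQ⟩
  have hres1 : ∀ χ ∈ S, χ ≠ t → (charDegree (χ : G → ℂ) % 11 = 1 ∧ c χ = 1) ∨
      (charDegree (χ : G → ℂ) % 11 = 10 ∧ c χ = -1) := fun χ h hne => by
    have h1 := R.congr χ h hne
    rw [Int.ModEq] at h1
    rcases R.sign χ h with s | s <;> rw [s] at h1 ⊢ <;> omega
  have hrel : 1 + ∑ χ ∈ S, c χ * (charDegree (χ : G → ℂ) : ℤ) = 0 := by
    have h := R.relation 1 (by simp)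
    simp only [irr_one_eq_charDegree] at h
    exact_mod_cast h
  have htm := R.congr_t
  rw [Int.ModEq] at htm
  rcases he' with rfl | rfl | rfl
  · -- an action of order two
    exfalso
    obtain ⟨χ, hχ⟩ := Finset.card_eq_one.1
      (by rw [Finset.card_erase_of_mem R.mem_t, R.card] : (S.erase t).card = 1)
    have hχe : χ ∈ S.erase t := by rw [hχ]; exact Finset.mem_singleton_self _
    obtain ⟨hne, hχS⟩ := Finset.mem_erase.1 hχe
    rw [← Finset.add_sum_erase _ _ R.mem_t, hχ, Finset.sum_singleton] at hrel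
    have hs1 := hres1 χ hχS hne
    obtain ⟨hfle, hfd⟩ := deg_facts hG χ
    obtain ⟨hgle, hgd⟩ := deg_facts hG t
    have hf1 := hnot1 χ hχS
    have hg1 := hnot1 t R.mem_t
    have hf0 := charDegree_pos χ
    have hg0 := charDegree_pos t
    have hct : (charDegree (t : G → ℂ) % 11 = 9 ∧ c t = 1) ∨
        (charDegree (t : G → ℂ) % 11 = 2 ∧ c t = -1) := by
      rcases R.sign t R.mem_t with s | s <;> rw [s] at htm ⊢ <;> omega
    have h := List.all_eq_true.1 two_pairs (charDegree (χ : G → ℂ)) (List.mem_filter.2 ⟨mem_allDivs hfd, by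
      simp only [Bool.and_eq_true, Bool.or_eq_true, Nat.ble_eq, Nat.beq_eq]
      exact ⟨⟨by omega, hfle⟩, by omega, deg_res23 hG χ⟩⟩)
    have h := List.all_eq_true.1 h (charDegree (t : G → ℂ)) (List.mem_filter.2 ⟨mem_allDivs hgd, by
      simp only [Bool.and_eq_true, Bool.or_eq_true, Nat.ble_eq, Nat.beq_eq]
      exact ⟨⟨by omega, hgle⟩, by omega, deg_res23 hG t⟩⟩)
    have hsχ : sgP 11 (charDegree (χ : G → ℂ)) = c χ := by
      simp only [sgP]; split_ifs <;> omega
    have hst : excP 11 2 (charDegree (t : G → ℂ)) = c t := by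
      simp only [excP]; split_ifs <;> omega
    simp only [Bool.or_eq_true, Bool.not_eq_true', decide_eq_false_iff_not, Bool.and_eq_true, Nat.beq_eq,
      hsχ, hst] at h
    rw [or_assoc] at h
    have hfg := h.resolve_left (fun h' => h' (by linarith))
    have hc1 : c χ = 1 ∧ c t = -1 ∧
        charDegree (t : G → ℂ) = charDegree (χ : G → ℂ) + 1 ∧ charDegree (χ : G → ℂ) ≤ 45 := by omega
    have hsq := square_of_two hG K R (by norm_num) hχ hc1.1 hc1.2.1 hc1.2.2.1
    have h := List.all_eq_true.1 two_square (charDegree (χ : G → ℂ), charDegree (t : G → ℂ)) (by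
      rcases hfg with ⟨a, b⟩ | ⟨a, b⟩ <;> rw [a, b] <;> simp)
    have h := List.all_eq_true.1 h n hnmem
    obtain ⟨r, hr⟩ := hsq
    simp only [Bool.or_eq_true, Bool.not_eq_true', ← Bool.not_eq_true, Nat.beq_eq, hdiv,
      not_not, (Nat.exists_mul_self _).1 ⟨r, hr.symm⟩, hn11, hne0, not_true_eq_false, or_false,
      false_or] at h
    have h7 : 7 ∣ Nat.card V := by
      rcases h with (h | h) | h
      · omega
      · exact absurd (Nat.dvd_of_mod_eq_zero h) h23
      · exact Nat.dvd_of_mod_eq_zero h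
    have := deg_bound hG K hM R hχS (fun ψ hψ hd => by
      by_contra hne'
      by_cases hψt : ψ = t
      · rw [hψt] at hd; omega
      · have : ψ ∈ S.erase t := Finset.mem_erase.2 ⟨hψt, hψ⟩
        rw [hχ, Finset.mem_singleton] at this
        exact hne' this) (Or.inl (by omega)) h7
    omega
  · -- the true case
    obtain rfl : k = 2 := by omega
    have h := List.all_eq_true.1 (List.all_eq_true.1 shape11 5 (by simp)) n hnmem
    simp only [Bool.or_eq_true, Bool.and_eq_true, Bool.not_eq_true', ← Bool.not_eq_true, Nat.beq_eq, hdiv,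
      hn11, hne0, not_true_eq_false, false_or, or_false, true_and] at h
    have hev : Nat.card V = 1 ∨ (2 ∣ Nat.card V ∧ (3 ∣ Nat.card V ∨ 7 ∣ Nat.card V)) := by
      rcases h with (((h | h) | h) | h) | h
      · omega
      · exact absurd (Nat.dvd_of_mod_eq_zero h) h23
      · norm_num at h
      · exact Or.inl h
      · exact Or.inr ⟨Nat.dvd_of_mod_eq_zero h.1, h.2.imp Nat.dvd_of_mod_eq_zero Nat.dvd_of_mod_eq_zero⟩
    rcases hev with hv | ⟨h2, h37⟩
    · exact ⟨P, V, K, hv⟩
    exfalso
    have htres : charDegree (t : G → ℂ) % 11 = 5 ∨ charDegree (t : G → ℂ) % 11 = 11 - 5 := by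
      rcases R.sign t R.mem_t with s | s <;> rw [s] at htm <;> omega
    have hds : ∀ Q : ℕ → Bool, ∀ χ ∈ S, χ ≠ t → Q (charDegree (χ : G → ℂ)) = true →
        charDegree (χ : G → ℂ) ∈ degs11 1 Q := fun Q χ h hne hQ =>
      hmem χ h 1 Q (by have := hres1 χ h hne; omega) (deg_large hG K hM R h2 h) hQ
    have hts : ∀ Q : ℕ → Bool, Q (charDegree (t : G → ℂ)) = true → charDegree (t : G → ℂ) ∈ degs11 5 Q :=
      fun Q hQ => hmem t R.mem_t 5 Q htres (deg_large hG K hM R h2 R.mem_t) hQ
    have hMu : Even 5 → Nat.card V ∣ 1 := fun h => absurd h (by decide)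
    have hcheck : ∀ (Q ok : ℕ → Bool), tCheck (degs11 1 Q) (degs11 5 Q) ok = true →
        (∀ χ ∈ S, Q (charDegree (χ : G → ℂ)) = true) → ok (charDegree (t : G → ℂ)) = true := by
      intro Q ok hc hQ
      refine tCheck_sound hc (hts Q (hQ t R.mem_t))
        ((S.erase t).toList.map fun χ : IrrCharacter G => charDegree (χ : G → ℂ))
        (by rw [List.length_map, Finset.length_toList, Finset.card_erase_of_mem R.mem_t, R.card]) ?_ ?_
      · intro a ha
        obtain ⟨χ, hχ, rfl⟩ := List.mem_map.1 ha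
        obtain ⟨hne, hχS⟩ := Finset.mem_erase.1 (Finset.mem_toList.1 hχ)
        exact hds Q χ hχS hne (hQ χ hχS)
      · rw [← Finset.add_sum_erase _ _ R.mem_t] at hrel
        rw [List.map_map, Finset.sum_map_toList, Finset.sum_congr rfl fun χ hχ => show
          ((fun a : ℕ => sgP 11 a * (a : ℤ)) ∘ fun χ : IrrCharacter G => charDegree (χ : G → ℂ)) χ =
            c χ * (charDegree (χ : G → ℂ) : ℤ) from ?_,
          show excP 11 5 (charDegree (t : G → ℂ)) = c t from ?_]
        · linarith
        · simp only [excP]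
          rcases R.sign t R.mem_t with s | s <;> rw [s] at htm ⊢ <;> split_ifs <;> omega
        · obtain ⟨hne, hχS⟩ := Finset.mem_erase.1 hχ
          have := hres1 χ hχS hne
          simp only [Function.comp, sgP]
          congr 1
          split_ifs <;> omega
    by_cases h3 : 3 ∣ Nat.card V
    · have hQ : ∀ χ ∈ S, no3 (charDegree (χ : G → ℂ)) = true := fun χ h => by
        have := no_full hG K hM R Nat.prime_three h h3
        rw [show (10200960 : ℕ).factorization 3 = 2 from fact3] at this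
        simp only [no3, Bool.not_eq_true', ← Bool.not_eq_true, Nat.beq_eq]
        exact fun h' => this (Nat.dvd_of_mod_eq_zero h')
      have ht := hcheck no3 _ five_t_three hQ
      rw [Nat.beq_eq] at ht
      exact no_involution hG K hM R (by norm_num) (by norm_num) hMu _ _
        (fun χ h hne => hds _ χ h hne (hQ χ h)) (by simp [ht]) five_dead_three h2
    have h7 : 7 ∣ Nat.card V := h37.resolve_left h3
    have hQ : ∀ χ ∈ S, no7 (charDegree (χ : G → ℂ)) = true := fun χ h => by
      have := no_full hG K hM R (q := 7) (by norm_num) h h7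
      rw [show (10200960 : ℕ).factorization 7 = 1 from fact7, pow_one] at this
      simp only [no7, Bool.not_eq_true', ← Bool.not_eq_true, Nat.beq_eq]
      exact fun h' => this (Nat.dvd_of_mod_eq_zero h')
    have ht := hcheck no7 _ five_t_seven hQ
    simp only [Bool.or_eq_true, Nat.beq_eq] at ht
    rcases ht with ht | ht23
    · exact no_involution hG K hM R (by norm_num) (by norm_num) hMu _ _
        (fun χ h hne => hds _ χ h hne (hQ χ h)) (by simp [ht]) five_dead_seven h2
    rw [← Finset.add_sum_erase _ _ R.mem_t] at hrel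
    obtain ⟨χ, hχe, hf, hu⟩ := unique_45 (S.erase t) (fun χ : IrrCharacter G => charDegree (χ : G → ℂ)) c
      (by rw [Finset.card_erase_of_mem R.mem_t, R.card]; norm_num) (by
        have h1 : (23 : ℤ) ∣ c t * (charDegree (t : G → ℂ) : ℤ) :=
          Dvd.dvd.mul_left (by exact_mod_cast Nat.dvd_of_mod_eq_zero ht23) _
        have h2 := dvd_sub (dvd_zero (23 : ℤ)) h1
        rwa [show (0 : ℤ) - c t * (charDegree (t : G → ℂ) : ℤ) =
          1 + ∑ χ ∈ S.erase t, c χ * (charDegree (χ : G → ℂ) : ℤ) by linarith] at h2)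
      (fun χ hχ => by
        obtain ⟨hne, hχS⟩ := Finset.mem_erase.1 hχ
        have h := List.all_eq_true.1 ten_seven _ (hds _ χ hχS hne (hQ χ hχS))
        simp only [Bool.or_eq_true, Nat.beq_eq] at h
        rcases h with h | h
        · exact Or.inl (Nat.dvd_of_mod_eq_zero h)
        · exact Or.inr ⟨h, by have := hres1 χ hχS hne; omega⟩)
    obtain ⟨hne, hχS⟩ := Finset.mem_erase.1 hχe
    have := deg_bound hG K hM R hχS (fun ψ hψ hd => by
      by_cases hψt : ψ = t
      · rw [hψt, hf] at hd; omega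
      · exact hu ψ (Finset.mem_erase.2 ⟨hψt, hψ⟩) (hd.trans hf)) (Or.inl (by omega)) h7
    omega
  · -- a full action
    exfalso
    obtain rfl : k = 1 := by omega
    have h := List.all_eq_true.1 (List.all_eq_true.1 shape11 10 (by simp)) n hnmem
    simp only [Bool.or_eq_true, Bool.and_eq_true, Bool.not_eq_true', ← Bool.not_eq_true, Nat.beq_eq, hdiv,
      hn11, hne0, not_true_eq_false, false_or, or_false] at h
    have hev : 2 ∣ Nat.card V ∧ (3 ∣ Nat.card V ∨ 7 ∣ Nat.card V) := by
      rcases h with (((h | h) | h) | h) | h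
      · omega
      · exact absurd (Nat.dvd_of_mod_eq_zero h) h23
      · norm_num at h
      · norm_num at h
      · exact ⟨Nat.dvd_of_mod_eq_zero h.1, h.2.imp Nat.dvd_of_mod_eq_zero Nat.dvd_of_mod_eq_zero⟩
    obtain ⟨h2, h37⟩ := hev
    have hres : ∀ χ ∈ S, (charDegree (χ : G → ℂ) % 11 = 1 ∧ c χ = 1) ∨
        (charDegree (χ : G → ℂ) % 11 = 10 ∧ c χ = -1) := fun χ h => by
      by_cases hne : χ = t
      · subst hne
        rcases R.sign χ h with s | s <;> rw [s] at htm ⊢ <;> omega
      · exact hres1 χ h hne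
    have hds : ∀ Q : ℕ → Bool, ∀ χ ∈ S, Q (charDegree (χ : G → ℂ)) = true →
        charDegree (χ : G → ℂ) ∈ degs11 1 Q := fun Q χ h hQ =>
      hmem χ h 1 Q (by have := hres χ h; omega) (deg_large hG K hM R h2 h) hQ
    by_cases h3 : 3 ∣ Nat.card V
    · have h1 : (23 : ℤ) ∣ ∑ χ ∈ S, c χ * (charDegree (χ : G → ℂ) : ℤ) := Finset.dvd_sum fun χ h => by
        have := no_full hG K hM R Nat.prime_three h h3
        rw [show (10200960 : ℕ).factorization 3 = 2 from fact3] at this
        have h' := List.all_eq_true.1 ten_three _ (hds no3 χ h (by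
          simp only [no3, Bool.not_eq_true', ← Bool.not_eq_true, Nat.beq_eq]
          exact fun h' => this (Nat.dvd_of_mod_eq_zero h')))
        rw [Nat.beq_eq] at h'
        exact Dvd.dvd.mul_left (by exact_mod_cast Nat.dvd_of_mod_eq_zero h') _
      rw [show ∑ χ ∈ S, c χ * (charDegree (χ : G → ℂ) : ℤ) = -1 by linarith] at h1
      norm_num at h1
    have h7 : 7 ∣ Nat.card V := h37.resolve_left h3
    obtain ⟨χ, hχS, hf, hu⟩ := unique_45 S (fun χ : IrrCharacter G => charDegree (χ : G → ℂ)) c
      (by rw [R.card]; norm_num) (by rw [hrel]; exact dvd_zero _) (fun χ h => by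
        have := no_full hG K hM R (q := 7) (by norm_num) h h7
        rw [show (10200960 : ℕ).factorization 7 = 1 from fact7, pow_one] at this
        have h' := List.all_eq_true.1 ten_seven _ (hds no7 χ h (by
          simp only [no7, Bool.not_eq_true', ← Bool.not_eq_true, Nat.beq_eq]
          exact fun h' => this (Nat.dvd_of_mod_eq_zero h')))
        simp only [Bool.or_eq_true, Nat.beq_eq] at h'
        rcases h' with h' | h'
        · exact Or.inl (Nat.dvd_of_mod_eq_zero h')
        · exact Or.inr ⟨h', by have := hres χ h; omega⟩)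
    have := deg_bound hG K hM R hχS (fun ψ hψ hd => hu ψ hψ (hd.trans hf)) (Or.inr rfl) h7
    omega

/-- The centralizer of an element of order eleven. -/
theorem cent11 {x : G} (hx : orderOf x = 11) : Nat.card (Subgroup.centralizer ({x} : Set G)) = 11 := by
  haveI : Fact (Nat.Prime 11) := ⟨by norm_num⟩
  obtain ⟨P, V, K, hV⟩ := eleven hG
  rw [M22Uniq.cent_card K hx, hV]

end Cfsg.Agent.M23Order
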