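import Cfsg.Agent.Lib.M23Order.SevenThree

/-!
A simple group of order 10200960: the centralizer and the normalizer at seven.
-/

set_option linter.unusedSectionVars false
set_option linter.style.haveILetI false

namespace Cfsg.Agent.M23Order

open Cfsg Cfsg.Agent.Char Cfsg.Agent.Blocks Cfsg.Agent.CCSylow Cfsg.Agent.DefOne

universe u

variable {G : Type u} [Group G] [Fintype G] [IsSimpleGroup G]

/-- The principal rows at five give what the seven case uses. -/
theorem Seven.five_of_rows {e k : ℕ} {P V : Subgroup G} [Fintype V] {M : Ideal AlgInt} [M.IsPrime]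
    {S : Finset (IrrCharacter G)} {c : IrrCharacter G → ℤ} {t : IrrCharacter G}
    (R : Rows 5 e k P V M S c t)
    (hdeg : S.val.map (fun χ : IrrCharacter G => charDegree (χ : G → ℂ)) = {231, 896, 896, 2024})
    (hc : ∀ χ ∈ S, c χ = if charDegree (χ : G → ℂ) % 5 = 1 then 1 else -1) : Seven.Five G := by
  classical
  have hcount : ∀ f : ℕ, (S.filter fun χ : IrrCharacter G => charDegree (χ : G → ℂ) = f).card =
      Multiset.count f ({231, 896, 896, 2024} : Multiset ℕ) := by
    intro f
    rw [← hdeg, Multiset.count_map, Finset.card_def, Finset.filter_val]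
    congr 1
    refine Multiset.filter_congr ?_
    intro χ _
    exact eq_comm
  obtain ⟨a, ha⟩ := Finset.card_eq_one.1 ((hcount 231).trans (by decide))
  obtain ⟨b, b', hbb, hb⟩ := Finset.card_eq_two.1 ((hcount 896).trans (by decide))
  obtain ⟨d, hd⟩ := Finset.card_eq_one.1 ((hcount 2024).trans (by decide))
  have ha' := Finset.mem_filter.1 (ha.symm ▸ Finset.mem_singleton_self a)
  have hd' := Finset.mem_filter.1 (hd.symm ▸ Finset.mem_singleton_self d)
  have hb1 := Finset.mem_filter.1 (hb.symm ▸ Finset.mem_insert_self b {b'})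
  have hb2 := Finset.mem_filter.1 (hb.symm ▸ Finset.mem_insert_of_mem (Finset.mem_singleton_self b'))
  refine ⟨a, b, b', d, hbb, ha'.2, hb1.2, hb2.2, hd'.2, fun g hg => ?_⟩
  have hS : S = {a, b, b', d} := by
    ext χ
    simp only [Finset.mem_insert, Finset.mem_singleton]
    refine ⟨fun h => ?_, ?_⟩
    · have hm : charDegree (χ : G → ℂ) ∈ ({231, 896, 896, 2024} : Multiset ℕ) := by
        rw [← hdeg]; exact Multiset.mem_map_of_mem _ h
      simp only [Multiset.insert_eq_cons, Multiset.mem_cons, Multiset.mem_singleton] at hm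
      rcases hm with e | e | e | e
      · left
        exact Finset.mem_singleton.1 (ha ▸ Finset.mem_filter.2 ⟨h, e⟩)
      · have := hb ▸ Finset.mem_filter.2 ⟨h, e⟩
        simp only [Finset.mem_insert, Finset.mem_singleton] at this
        rcases this with e | e <;> simp [e]
      · have := hb ▸ Finset.mem_filter.2 ⟨h, e⟩
        simp only [Finset.mem_insert, Finset.mem_singleton] at this
        rcases this with e | e <;> simp [e]
      · right; right; right
        exact Finset.mem_singleton.1 (hd ▸ Finset.mem_filter.2 ⟨h, e⟩)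
    · rintro (rfl | rfl | rfl | rfl)
      exacts [ha'.1, hb1.1, hb2.1, hd'.1]
  have hne : ∀ {χ ψ : IrrCharacter G},
      charDegree (χ : G → ℂ) ≠ charDegree (ψ : G → ℂ) → χ ≠ ψ := fun h e => h (e ▸ rfl)
  have h := R.relation g hg
  rw [hS, Finset.sum_insert (by
      simp [hne (show charDegree (a : G → ℂ) ≠ charDegree (b : G → ℂ) by rw [ha'.2, hb1.2]; norm_num),
        hne (show charDegree (a : G → ℂ) ≠ charDegree (b' : G → ℂ) by rw [ha'.2, hb2.2]; norm_num),
        hne (show charDegree (a : G → ℂ) ≠ charDegree (d : G → ℂ) by rw [ha'.2, hd'.2]; norm_num)]),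
    Finset.sum_insert (by
      simp [hbb, hne (show charDegree (b : G → ℂ) ≠ charDegree (d : G → ℂ) by rw [hb1.2, hd'.2]; norm_num)]),
    Finset.sum_pair (hne (show charDegree (b' : G → ℂ) ≠ charDegree (d : G → ℂ) by rw [hb2.2, hd'.2]; norm_num)),
    hc a ha'.1, hc b hb1.1, hc b' hb2.1, hc d hd'.1, ha'.2, hb1.2, hb2.2, hd'.2] at h
  norm_num at h
  linear_combination h

variable (hG : Nat.card G = 10200960)

include hG

/-- The centralizer and the normalizer at seven. -/
theorem seven (h23 : ∀ x : G, orderOf x = 23 → Nat.card (Subgroup.centralizer ({x} : Set G)) = 23)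
    (h11 : ∀ x : G, orderOf x = 11 → Nat.card (Subgroup.centralizer ({x} : Set G)) = 11)
    (h5 : ∀ x : G, orderOf x = 5 → Nat.card (Subgroup.centralizer ({x} : Set G)) = 15)
    (hfive : Seven.Five G) :
    (∀ x : G, orderOf x = 7 → Nat.card (Subgroup.centralizer ({x} : Set G)) = 14) ∧
      ∀ Q : Sylow 7 G, Nat.card (Subgroup.normalizer ((Q : Subgroup G) : Set G)) = 42 := by
  classical
  haveI : Fact (Nat.Prime 7) := ⟨by norm_num⟩
  have hS := Seven.slots hG h23 h11
  obtain ⟨P, V, e, K, hv, hcases⟩ := Seven.conf_seven hG h23 h11 h5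
  have main : e = 3 ∧ Nat.card V = 2 := by
    rcases hcases with he | he | ⟨he, hV⟩ | ⟨rfl, hV⟩
    · have := (Seven.small_cases hG hS hfive P V e K hv (Or.inl he)).1; omega
    · have := (Seven.small_cases hG hS hfive P V e K hv (Or.inr (Or.inl he))).1; omega
    · obtain ⟨-, h⟩ := Seven.small_cases hG hS hfive P V e K hv (Or.inr (Or.inr he))
      exact ⟨he, hV.resolve_right h⟩
    · exact (Seven.not_six hG hS h23 h11 h5 hfive P V K hV).elim
  obtain ⟨rfl, hV2⟩ := main
  refine ⟨fun x hx => by rw [M22Uniq.cent_card K hx, hV2], fun Q => ?_⟩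
  have hN : Nat.card (Subgroup.normalizer ((P : Subgroup G) : Set G)) = 42 := by
    rw [K.D.hcard, K.hP, hV2]
  have h1 := Subgroup.index_mul_card (Subgroup.normalizer ((P : Subgroup G) : Set G))
  have h2 := Subgroup.index_mul_card (Subgroup.normalizer ((Q : Subgroup G) : Set G))
  have e1 : Nat.card (Sylow 7 G) = (Subgroup.normalizer ((P : Subgroup G) : Set G)).index :=
    P.card_eq_index_normalizer
  have e2 : Nat.card (Sylow 7 G) = (Subgroup.normalizer ((Q : Subgroup G) : Set G)).index :=
    Q.card_eq_index_normalizer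
  rw [← e1, hN, hG] at h1
  rw [← e2, hG] at h2
  have hs : Nat.card (Sylow 7 G) = 242880 := by omega
  rw [hs] at h2
  omega

end Cfsg.Agent.M23Order
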