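import Cfsg.Agent.Lib.M23Order.FiveBase
import Cfsg.Agent.Lib.M23Order.Seven

/-!
A simple group of order 10200960: the centralizer of an element of order five is of order fifteen and
its normalizer of order 60; the principal rows at five.
-/

set_option linter.unusedSectionVars false
set_option linter.style.haveILetI false

namespace Cfsg.Agent.M23Order

open Cfsg Cfsg.Agent.Char Cfsg.Agent.Blocks Cfsg.Agent.CCSylow Cfsg.Agent.DefOne

universe u

variable {G : Type u} [Group G] [Fintype G] [IsSimpleGroup G] (hG : Nat.card G = 10200960)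

include hG

set_option maxHeartbeats 1000000 in
/-- The centralizer, the normalizer and the rows at five. -/
theorem five : ∃ (P : Sylow 5 G) (V : Subgroup G),
    Conf 5 (P : Subgroup G) V (Subgroup.normalizer ((P : Subgroup G) : Set G)) 4 ∧ Nat.card V = 3 ∧
      Seven.Five G := by
  classical
  haveI : Fact (Nat.Prime 5) := ⟨by norm_num⟩
  haveI : Fact (Nat.Prime 11) := ⟨by norm_num⟩
  haveI : Fact (Nat.Prime 23) := ⟨by norm_num⟩
  obtain ⟨P, V, e, K, he, n, hn1, hn5, hn⟩ := exists_config hG (p := 5) (by norm_num) (by norm_num)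
  haveI : Fintype (P : Subgroup G) := Fintype.ofFinite _
  haveI : Fintype V := Fintype.ofFinite _
  haveI : Fintype (Subgroup.normalizer ((P : Subgroup G) : Set G)) := Fintype.ofFinite _
  haveI : Fintype ((P : Subgroup G) →* ℂˣ) := Fintype.ofFinite _
  have hn' : n * (e * Nat.card V) = 2040192 := by
    have : 5 * (n * (e * Nat.card V)) = 5 * 2040192 := by linear_combination hn
    omega
  have he1 := e_ne_one hG (by norm_num) K
  have he' : e = 2 ∨ e = 4 := by
    have := Nat.le_of_dvd (by norm_num) he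
    interval_cases e <;> first | omega | norm_num at he
  obtain ⟨M, hM⟩ := exists_isPModular_witness 5
  haveI := IsPModular.isPrime hM
  obtain ⟨k, S, c, t, R⟩ := exists_rows hM (by norm_num) K
  have hk : k * e = 4 := R.ek
  have hnot1 : ∀ χ ∈ S, charDegree (χ : G → ℂ) ≠ 1 := fun χ h h1 => R.ne_one (eq_principal hG h1 ▸ h)
  have hmem : ∀ χ ∈ S, ∀ r : ℕ, (charDegree (χ : G → ℂ) % 5 = r ∨ charDegree (χ : G → ℂ) % 5 = 5 - r) →
      charDegree (χ : G → ℂ) ∈ degs5 r := by
    intro χ h r hr
    obtain ⟨hle, hdvd⟩ := deg_facts hG χ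
    refine List.mem_filter.2 ⟨mem_allDivs hdvd, ?_⟩
    have := hnot1 χ h
    have := charDegree_pos χ
    simp only [Bool.and_eq_true, Bool.or_eq_true, Nat.ble_eq, Nat.beq_eq]
    exact ⟨⟨by omega, hle⟩, hr, fine_deg hG χ⟩
  have hrel : 1 + ∑ χ ∈ S, c χ * (charDegree (χ : G → ℂ) : ℤ) = 0 := by
    have h := R.relation 1 (by simp)
    simp only [irr_one_eq_charDegree] at h
    exact_mod_cast h
  have htm := R.congr_t
  rw [Int.ModEq] at htm
  have hres1 : ∀ χ ∈ S, χ ≠ t → (charDegree (χ : G → ℂ) % 5 = 1 ∧ c χ = 1) ∨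
      (charDegree (χ : G → ℂ) % 5 = 4 ∧ c χ = -1) := fun χ h hne => by
    have h1 := R.congr χ h hne
    rw [Int.ModEq] at h1
    rcases R.sign χ h with s | s <;> rw [s] at h1 ⊢ <;> omega
  rcases he' with rfl | rfl
  · exfalso
    obtain ⟨χ, hχ⟩ := Finset.card_eq_one.1
      (by rw [Finset.card_erase_of_mem R.mem_t, R.card] : (S.erase t).card = 1)
    obtain ⟨hne, hχS⟩ := Finset.mem_erase.1 (show χ ∈ S.erase t by rw [hχ]; exact Finset.mem_singleton_self _)
    rw [← Finset.add_sum_erase _ _ R.mem_t, hχ, Finset.sum_singleton] at hrel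
    have hs1 := hres1 χ hχS hne
    have hct : (charDegree (t : G → ℂ) % 5 = 3 ∧ c t = 1) ∨ (charDegree (t : G → ℂ) % 5 = 2 ∧ c t = -1) := by
      rcases R.sign t R.mem_t with s | s <;> rw [s] at htm ⊢ <;> omega
    have h := List.all_eq_true.1 (List.all_eq_true.1 five_two _ (hmem χ hχS 1 (by omega))) _
      (hmem t R.mem_t 2 (by omega))
    rw [show sgP 5 (charDegree (χ : G → ℂ)) = c χ by simp only [sgP]; split_ifs <;> omega,
      show excP 5 2 (charDegree (t : G → ℂ)) = c t by simp only [excP]; split_ifs <;> omega] at h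
    simp only [Bool.not_eq_true', decide_eq_false_iff_not] at h
    exact h (by linarith)
  obtain rfl : k = 1 := by omega
  have hres : ∀ χ ∈ S, (charDegree (χ : G → ℂ) % 5 = 1 ∧ c χ = 1) ∨
      (charDegree (χ : G → ℂ) % 5 = 4 ∧ c χ = -1) := fun χ h => by
    by_cases hne : χ = t
    · subst hne
      rcases R.sign χ h with s | s <;> rw [s] at htm ⊢ <;> omega
    · exact hres1 χ h hne
  have hsg : ∀ χ ∈ S, c χ = sgP 5 (charDegree (χ : G → ℂ)) := fun χ h => by
    have := hres χ h
    simp only [sgP]; split_ifs <;> omega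
  -- the degrees
  have hdeg : S.val.map (fun χ : IrrCharacter G => charDegree (χ : G → ℂ)) = {231, 896, 896, 2024} := by
    have hl : (S.toList.map fun χ : IrrCharacter G => charDegree (χ : G → ℂ)).length = 4 := by
      rw [List.length_map, Finset.length_toList, R.card]
    have hsum : 1 + (S.toList.map fun χ : IrrCharacter G =>
        sgP 5 (charDegree (χ : G → ℂ)) * (charDegree (χ : G → ℂ) : ℤ)).sum = 0 := by
      rw [Finset.sum_map_toList, Finset.sum_congr rfl fun χ h => by rw [← hsg χ h]]
      exact hrel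
    have hin : ∀ x ∈ S.toList.map fun χ : IrrCharacter G => charDegree (χ : G → ℂ), x ∈ degs5 1 := by
      intro x hx
      obtain ⟨χ, hχ, rfl⟩ := List.mem_map.1 hx
      have h := Finset.mem_toList.1 hχ
      exact hmem χ h 1 (by have := hres χ h; omega)
    have hone : ∀ exc : ℕ → Bool, (∀ χ ψ : IrrCharacter G, exc (charDegree (χ : G → ℂ)) = true →
        exc (charDegree (ψ : G → ℂ)) = true → charDegree (χ : G → ℂ) = charDegree (ψ : G → ℂ)) →
        oneDeg (S.toList.map fun χ : IrrCharacter G => charDegree (χ : G → ℂ)) exc = true := by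
      intro exc hexc
      simp only [oneDeg, List.all_eq_true, List.mem_map, Bool.or_eq_true, Bool.not_eq_true', Nat.beq_eq]
      rintro _ ⟨χ, -, rfl⟩ _ ⟨ψ, -, rfl⟩
      by_cases h1 : exc (charDegree (χ : G → ℂ)) = true
      · by_cases h2 : exc (charDegree (ψ : G → ℂ)) = true
        · exact Or.inr (hexc χ ψ h1 h2)
        · exact Or.inl (Or.inr (Bool.eq_false_iff.2 h2))
      · exact Or.inl (Or.inl (Bool.eq_false_iff.2 h1))
    have h23 := hone exc23 fun χ ψ => exc23_eq hG
    have h11 := hone exc11 fun χ ψ => exc11_eq hG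
    have hsum' : 1 + ((S.toList.map fun χ : IrrCharacter G => charDegree (χ : G → ℂ)).map
        fun d : ℕ => sgP 5 d * (d : ℤ)).sum = 0 := by
      rw [List.map_map]; exact hsum
    clear hsum
    rw [show S.val = (S.toList : Multiset (IrrCharacter G)) from (Finset.coe_toList S).symm, Multiset.map_coe]
    generalize S.toList.map (fun χ : IrrCharacter G => charDegree (χ : G → ℂ)) = l at *
    match l, hl with
    | [a, b, x, d], _ =>
      have h := List.all_eq_true.1 (List.all_eq_true.1 (List.all_eq_true.1 (List.all_eq_true.1 five_four a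
        (hin a (by simp))) b (hin b (by simp))) x (hin x (by simp))) d (hin d (by simp))
      rw [h23, h11] at h
      simp only [Bool.or_eq_true, Bool.not_eq_true', decide_eq_false_iff_not, List.isPerm_iff,
        Bool.not_true, Bool.false_eq_true, or_false] at h
      simp only [List.map_cons, List.map_nil, List.sum_cons, List.sum_nil, add_zero] at hsum'
      exact Multiset.coe_eq_coe.2 (h.resolve_left fun h' => h' hsum')
  have hdegmem : ∀ χ ∈ S, charDegree (χ : G → ℂ) ∈ [231, 896, 2024] := fun χ h => by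
    have := Multiset.mem_map_of_mem (fun χ : IrrCharacter G => charDegree (χ : G → ℂ)) h
    rw [hdeg] at this
    simp only [Multiset.insert_eq_cons, Multiset.mem_cons, Multiset.mem_singleton] at this
    simp only [List.mem_cons, List.not_mem_nil, or_false]
    omega
  -- the complement
  have h23 : ¬ 23 ∣ Nat.card V := not_dvd_of_cent (fun x hx => cent23 hG hx) K (by norm_num)
  have h11 : ¬ 11 ∣ Nat.card V := not_dvd_of_cent (fun x hx => cent11 hG hx) K (by norm_num)
  have h7 : ¬ 7 ∣ Nat.card V := fun h7 => by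
    have : (231 : ℕ) ∈ S.val.map (fun χ : IrrCharacter G => charDegree (χ : G → ℂ)) := by
      rw [hdeg]; simp
    obtain ⟨χ, hχ, hd⟩ := Multiset.mem_map.1 this
    refine not_dvd_V K hM (R.block χ hχ) (q := 7) (by norm_num) (full_part hG (by norm_num) ?_) h7
    rw [fact7, pow_one, hd]; norm_num
  have hdiv : 2040192 / (n * 4) = Nat.card V :=
    Nat.div_eq_of_eq_mul_right (Nat.mul_pos (by omega) (by omega)) (by rw [← hn']; ring)
  have hodd : ¬ 2 ∣ Nat.card V := by
    intro h2
    haveI : Fact (Nat.Prime 2) := ⟨Nat.prime_two⟩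
    obtain ⟨vv, hvv⟩ := exists_prime_orderOf_dvd_card' 2 h2
    set i : G := (vv : G) with hi
    have hio : orderOf i = 2 := by rw [hi, Subgroup.orderOf_coe, hvv]
    obtain ⟨y, hy⟩ := exists_ne_one_P K
    have hy1 : (y : G) ≠ 1 := fun h => hy (Subtype.ext h)
    have hcomm : Commute (y : G) i := K.D.pv _ y.2 _ vv.2
    have hmemC : (y : G) * i ∈ Subgroup.centralizer ({i} : Set G) := by
      rw [Subgroup.mem_centralizer_singleton_iff, ← mul_assoc, ← hcomm.eq]
    have h10 := Subgroup.orderOf_dvd_natCard _ hmemC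
    rw [hcomm.orderOf_mul_eq_mul_orderOf_of_coprime (by
      rw [DefOne.orderOf_P K y.2 hy1, hio]; norm_num), DefOne.orderOf_P K y.2 hy1, hio] at h10
    refine no_involution_if hG K hM R (by norm_num) (Mu := 510048) (by norm_num)
      (fun _ => ⟨n, by linarith⟩) [231, 896, 2024] [231, 896, 2024]
      (fun χ h _ => hdegmem χ h) (hdegmem t R.mem_t) vv.2 hio ?_ five_dead
    simp only [Bool.and_eq_true, Nat.beq_eq, Bool.not_eq_true', ← Bool.not_eq_true]
    refine ⟨Nat.mod_eq_zero_of_dvd h10, fun h11' => ?_⟩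
    obtain ⟨w, hw⟩ := exists_prime_orderOf_dvd_card' 11 (Nat.dvd_of_mod_eq_zero h11')
    have hwo : orderOf (w : G) = 11 := by rw [Subgroup.orderOf_coe, hw]
    have hmemw : i ∈ Subgroup.centralizer ({(w : G)} : Set G) :=
      Subgroup.mem_centralizer_singleton_iff.2 (Subgroup.mem_centralizer_singleton_iff.1 w.2).symm
    have := Subgroup.orderOf_dvd_natCard _ hmemw
    rw [hio, cent11 hG hwo] at this
    norm_num at this
  have hv3 : Nat.card V = 3 := by
    have h := List.all_eq_true.1 shape5 n (mem_allDivs ⟨5 * (4 * Nat.card V), by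
      rw [show (10200960 : ℕ) = 5 * 2040192 from rfl, ← hn']; ring⟩)
    have h0 : 2040192 % (n * 4) = 0 := Nat.mod_eq_zero_of_dvd ⟨Nat.card V, by rw [← hn']; ring⟩
    simp only [Bool.or_eq_true, Bool.not_eq_true', ← Bool.not_eq_true, Nat.beq_eq, hdiv, hn5, h0,
      not_true_eq_false, false_or, or_false] at h
    omega
  refine ⟨P, V, K, hv3, Seven.five_of_rows R hdeg fun χ h => ?_⟩
  rw [hsg χ h]
  rfl

/-- The centralizer of an element of order five. -/
theorem cent5 {x : G} (hx : orderOf x = 5) : Nat.card (Subgroup.centralizer ({x} : Set G)) = 15 := by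
  haveI : Fact (Nat.Prime 5) := ⟨by norm_num⟩
  obtain ⟨P, V, K, hV, -⟩ := five hG
  rw [M22Uniq.cent_card K hx, hV]

end Cfsg.Agent.M23Order
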