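import Cfsg.Agent.Lib.M23Order.Lists

/-!
The searches at five.
-/

namespace Cfsg.Agent.M23Order

/-- A degree in an exceptional class modulo twenty-three. -/
def exc23 (d : ℕ) : Bool := Nat.beq (d % 23) 11 || Nat.beq (d % 23) 12

/-- A degree in an exceptional class modulo eleven. -/
def exc11 (d : ℕ) : Bool := Nat.beq (d % 11) 5 || Nat.beq (d % 11) 6

/-- The degrees compatible with the primes twenty-three and eleven. -/
def fine (d : ℕ) : Bool :=
  (Nat.beq (d % 23) 0 || Nat.beq (d % 23) 1 || Nat.beq (d % 23) 22 || exc23 d) &&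
    (Nat.beq (d % 11) 0 || Nat.beq (d % 11) 1 || Nat.beq (d % 11) 10 || exc11 d) &&
    !(exc23 d && exc11 d) && !(Nat.beq d 11)

/-- The degrees congruent to `r` or `-r` modulo five. -/
def degs5 (r : ℕ) : List ℕ := degList fun d => (Nat.beq (d % 5) r || Nat.beq (d % 5) (5 - r)) && fine d

/-- The exceptional degree is single. -/
def oneDeg (l : List ℕ) (exc : ℕ → Bool) : Bool :=
  l.all fun a => l.all fun b => !(exc a) || !(exc b) || Nat.beq a b

/-- No rows for an action of order two. -/
theorem five_two : (degs5 1).all (fun f => (degs5 2).all fun g =>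
    !(decide (1 + sgP 5 f * (f : ℤ) + excP 5 2 g * (g : ℤ) = 0))) = true := by
  decide +kernel

set_option maxRecDepth 10000 in
/-- The rows for an action of order four. -/
theorem five_four : (degs5 1).all (fun a => (degs5 1).all fun b => (degs5 1).all fun c => (degs5 1).all fun d =>
    !(decide (1 + (sgP 5 a * (a : ℤ) + (sgP 5 b * (b : ℤ) + (sgP 5 c * (c : ℤ) + sgP 5 d * (d : ℤ)))) = 0)) ||
      !(oneDeg [a, b, c, d] exc23) || !(oneDeg [a, b, c, d] exc11) ||
      List.isPerm [a, b, c, d] [231, 896, 896, 2024]) = true := by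
  decide +kernel

set_option maxRecDepth 10000 in
/-- No involution in the complement. -/
theorem five_dead : deadIf (fun C => Nat.beq (C % 10) 0 && !(Nat.beq (C % 11) 0)) 5 4 1 510048
    [231, 896, 2024] [231, 896, 2024] = true := by
  decide +kernel

/-- The orders of the complement. -/
theorem shape5 : allDivs.all (fun n =>
    !(Nat.beq (n % 5) 1) || Nat.beq n 1 || !(Nat.beq (2040192 % (n * 4)) 0) ||
      Nat.beq (2040192 / (n * 4) % 23) 0 || Nat.beq (2040192 / (n * 4) % 11) 0 ||
      Nat.beq (2040192 / (n * 4) % 7) 0 || Nat.beq (2040192 / (n * 4) % 2) 0 ||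
      Nat.beq (2040192 / (n * 4)) 3) = true := by
  decide +kernel

/-- No small degree is one modulo twenty-three. -/
theorem small23 : (degList fun d => Nat.beq (d % 23) 1 && fine d && Nat.blt d 122) = [] := by decide +kernel

end Cfsg.Agent.M23Order
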