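import Cfsg.Agent.Lib.M23Order.Eleven
import Cfsg.Agent.Lib.M23Order.FiveData
import Cfsg.Agent.Lib.M23Uniq.Blocks

/-!
A simple group of order 10200960: the exceptional families at twenty-three and eleven.
-/

set_option linter.unusedSectionVars false
set_option linter.style.haveILetI false

namespace Cfsg.Agent.M23Order

open Cfsg Cfsg.Agent.Char Cfsg.Agent.Blocks Cfsg.Agent.CCSylow Cfsg.Agent.DefOne
open Cfsg.Agent.M23Uniq (PFam tsum' sgn)

open scoped ComplexConjugate

universe u

variable {G : Type u} [Group G] [Fintype G]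

/-- A prime with self-centralizing elements avoids the complements at other primes. -/
theorem not_dvd_of_cent {q : ℕ} [Fact q.Prime]
    (hq : ∀ x : G, orderOf x = q → Nat.card (Subgroup.centralizer ({x} : Set G)) = q)
    {p : ℕ} {P V N : Subgroup G} {e : ℕ} (K : Conf p P V N e) (hp : p ≠ q) : ¬ q ∣ Nat.card V := by
  classical
  intro hd
  haveI : Fintype P := Fintype.ofFinite _
  haveI : Fintype (P →* ℂˣ) := Fintype.ofFinite _
  haveI := Fact.mk K.hp
  obtain ⟨u, hu⟩ := exists_prime_orderOf_dvd_card' q hd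
  have huo : orderOf (u : G) = q := by rw [Subgroup.orderOf_coe, hu]
  obtain ⟨z, hz⟩ := exists_ne_one_P K
  have hz1 : (z : G) ≠ 1 := fun h => hz (Subtype.ext h)
  have hmem : (z : G) ∈ Subgroup.centralizer ({(u : G)} : Set G) :=
    Subgroup.mem_centralizer_singleton_iff.2 (K.D.pv _ z.2 _ u.2)
  have := Subgroup.orderOf_dvd_natCard _ hmem
  rw [DefOne.orderOf_P K z.2 hz1, hq _ huo] at this
  exact hp ((Nat.prime_dvd_prime_iff_eq K.hp (Fact.out)).1 this)

/-- The families at a self-centralizing prime, with everything else divisible. -/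
theorem fam {p e : ℕ} {P V N : Subgroup G} (K : Conf p P V N e) (hV : Nat.card V = 1) (hp : 2 < p) [Fintype P] :
    ∃ (X Y : Finset (IrrCharacter G)) (δ : ℤ), PFam p e P X Y δ ∧
      (∀ χ : IrrCharacter G, ¬ p ∣ charDegree (χ : G → ℂ) → χ ∈ X ∨ χ ∈ Y) ∧
      ∀ χ : IrrCharacter G, p ∣ charDegree (χ : G → ℂ) → tsum' P χ = 0 := by
  classical
  haveI : Fintype V := Fintype.ofFinite _
  haveI : Fintype N := Fintype.ofFinite _
  haveI : Fintype (P →* ℂˣ) := Fintype.ofFinite _
  haveI := Fact.mk K.hp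
  obtain ⟨M, hM⟩ := exists_isPModular_witness p
  haveI := IsPModular.isPrime hM
  obtain ⟨X, Y, δ, F, hmem⟩ := M23Uniq.exists_pfam hM K hp
  exact ⟨X, Y, δ, F, fun χ h => (hmem χ).1 (M23Uniq.mem_principal_of_self_centralizing hM K hV h),
    fun χ h => M23Uniq.tsum'_of_dvd hM K h⟩

variable [IsSimpleGroup G] (hG : Nat.card G = 10200960)

include hG

/-- The exceptional degree modulo twenty-three is single. -/
theorem exc23_eq {χ ψ : IrrCharacter G} (h1 : exc23 (charDegree (χ : G → ℂ)) = true)
    (h2 : exc23 (charDegree (ψ : G → ℂ)) = true) : charDegree (χ : G → ℂ) = charDegree (ψ : G → ℂ) := by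
  classical
  haveI : Fact (Nat.Prime 23) := ⟨by norm_num⟩
  obtain ⟨P, V, K, hV⟩ := twentyThree hG
  haveI : Fintype (P : Subgroup G) := Fintype.ofFinite _
  obtain ⟨X, Y, δ, F, hall, -⟩ := fam K hV (by norm_num)
  simp only [exc23, Bool.or_eq_true, Nat.beq_eq] at h1 h2
  have hY : ∀ θ : IrrCharacter G, charDegree (θ : G → ℂ) % 23 = 11 ∨ charDegree (θ : G → ℂ) % 23 = 12 → θ ∈ Y :=
    fun θ hθ => (hall θ fun h => by have := Nat.mod_eq_zero_of_dvd h; omega).resolve_left fun h => by
      have := F.degX θ h; omega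
  exact F.eqY χ (hY χ h1) ψ (hY ψ h2)

/-- The exceptional degree modulo eleven is single. -/
theorem exc11_eq {χ ψ : IrrCharacter G} (h1 : exc11 (charDegree (χ : G → ℂ)) = true)
    (h2 : exc11 (charDegree (ψ : G → ℂ)) = true) : charDegree (χ : G → ℂ) = charDegree (ψ : G → ℂ) := by
  classical
  haveI : Fact (Nat.Prime 11) := ⟨by norm_num⟩
  obtain ⟨P, V, K, hV⟩ := eleven hG
  haveI : Fintype (P : Subgroup G) := Fintype.ofFinite _
  obtain ⟨X, Y, δ, F, hall, -⟩ := fam K hV (by norm_num)
  simp only [exc11, Bool.or_eq_true, Nat.beq_eq] at h1 h2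
  have hY : ∀ θ : IrrCharacter G, charDegree (θ : G → ℂ) % 11 = 5 ∨ charDegree (θ : G → ℂ) % 11 = 6 → θ ∈ Y :=
    fun θ hθ => (hall θ fun h => by have := Nat.mod_eq_zero_of_dvd h; omega).resolve_left fun h => by
      have := F.degX θ h; omega
  exact F.eqY χ (hY χ h1) ψ (hY ψ h2)

/-- The residues modulo eleven. -/
theorem deg_res11 (χ : IrrCharacter G) :
    charDegree (χ : G → ℂ) % 11 = 0 ∨ charDegree (χ : G → ℂ) % 11 = 1 ∨ charDegree (χ : G → ℂ) % 11 = 10 ∨
      charDegree (χ : G → ℂ) % 11 = 5 ∨ charDegree (χ : G → ℂ) % 11 = 6 := by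
  classical
  haveI : Fact (Nat.Prime 11) := ⟨by norm_num⟩
  obtain ⟨P, V, K, hV⟩ := eleven hG
  haveI : Fintype (P : Subgroup G) := Fintype.ofFinite _
  obtain ⟨X, Y, δ, F, hall, -⟩ := fam K hV (by norm_num)
  by_cases h : 11 ∣ charDegree (χ : G → ℂ)
  · exact Or.inl (Nat.mod_eq_zero_of_dvd h)
  rcases hall χ h with h' | h'
  · have := F.degX χ h'; omega
  · have := F.degY χ h'
    rw [Int.ModEq] at this
    rcases F.sign with s | s <;> rw [s] at this <;> omega

/-- No element has an order divisible by eleven and twenty-three. -/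
theorem not_order_253 (g : G) (h11 : 11 ∣ orderOf g) (h23 : 23 ∣ orderOf g) : False := by
  have hpos : orderOf g ≠ 0 := (orderOf_pos g).ne'
  have ha : orderOf (g ^ (orderOf g / 11)) = 11 := orderOf_pow_orderOf_div hpos h11
  have hb : orderOf (g ^ (orderOf g / 23)) = 23 := orderOf_pow_orderOf_div hpos h23
  have hmem : g ^ (orderOf g / 11) ∈ Subgroup.centralizer ({g ^ (orderOf g / 23)} : Set G) :=
    Subgroup.mem_centralizer_singleton_iff.2 ((Commute.pow_pow_self g _ _).eq)
  have := Subgroup.orderOf_dvd_natCard _ hmem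
  rw [ha, cent23 hG hb] at this
  norm_num at this

/-- No degree is exceptional at both primes. -/
theorem not_both (χ : IrrCharacter G) (h1 : exc23 (charDegree (χ : G → ℂ)) = true)
    (h2 : exc11 (charDegree (χ : G → ℂ)) = true) : False := by
  classical
  haveI : Fact (Nat.Prime 23) := ⟨by norm_num⟩
  haveI : Fact (Nat.Prime 11) := ⟨by norm_num⟩
  obtain ⟨P, V, K, hV⟩ := twentyThree hG
  obtain ⟨P', V', K', hV'⟩ := eleven hG
  haveI : Fintype (P : Subgroup G) := Fintype.ofFinite _
  haveI : Fintype (P' : Subgroup G) := Fintype.ofFinite _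
  obtain ⟨X, Y, δ, F, hall, -⟩ := fam K hV (by norm_num)
  obtain ⟨X', Y', δ', F', hall', -⟩ := fam K' hV' (by norm_num)
  simp only [exc23, exc11, Bool.or_eq_true, Nat.beq_eq] at h1 h2
  have hχ : χ ∈ Y := (hall χ fun h => by have := Nat.mod_eq_zero_of_dvd h; omega).resolve_left fun h => by
    have := F.degX χ h; omega
  have hYc : Y.card = 2 := by have := F.cardY; omega
  obtain ⟨a, b, hab, hY⟩ := Finset.card_eq_two.1 hYc
  have hin : ∀ θ ∈ Y, θ ∈ Y' := fun θ hθ => by
    have e := F.eqY θ hθ χ hχ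
    refine (hall' θ fun h => ?_).resolve_left fun h => ?_
    · have := Nat.mod_eq_zero_of_dvd h; omega
    · have := F'.degX θ h; omega
  have haY : a ∈ Y := by rw [hY]; exact Finset.mem_insert_self _ _
  have hbY : b ∈ Y := by rw [hY]; exact Finset.mem_insert_of_mem (Finset.mem_singleton_self _)
  refine hab (Subtype.ext (funext fun g => ?_))
  by_cases hg : 23 ∣ orderOf g
  · have hg' : ¬ 11 ∣ orderOf g := fun h => not_order_253 hG g h hg
    have hd : (δ' : ℂ) ≠ 0 := by rcases F'.sign with h | h <;> simp [h]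
    exact mul_left_cancel₀ hd
      (by linear_combination F'.rel a (hin a haY) g hg' - F'.rel b (hin b hbY) g hg')
  · have hd : (δ : ℂ) ≠ 0 := by rcases F.sign with h | h <;> simp [h]
    exact mul_left_cancel₀ hd (by linear_combination F.rel a haY g hg - F.rel b hbY g hg)

/-- No character has degree eleven. -/
theorem no_eleven (a : IrrCharacter G) : charDegree (a : G → ℂ) ≠ 11 := by
  classical
  intro ha
  haveI : Fact (Nat.Prime 23) := ⟨by norm_num⟩
  obtain ⟨P, V, K, hV⟩ := twentyThree hG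
  haveI : Fintype (P : Subgroup G) := Fintype.ofFinite _
  obtain ⟨X, Y, δ, F, hall, hzero⟩ := fam K hV (by norm_num)
  have haY : a ∈ Y := (hall a (by rw [ha]; norm_num)).resolve_left fun h => by
    have := F.degX a h; rw [ha] at this; omega
  have hδ : δ = -1 := by
    have h := F.degY a haY
    rw [ha, Int.ModEq] at h
    rcases F.sign with s | s
    · rw [s] at h; norm_num at h
    · exact s
  -- the square of the absolute value decomposes
  obtain ⟨m, hm⟩ := IsCharacter.exists_decomp
    (IsCharacter.mul (IsIrrCharacter.isCharacter a.2) (IsCharacter.conj (IsIrrCharacter.isCharacter a.2)))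
  have hval : ∀ g : G, (a : G → ℂ) g * conj ((a : G → ℂ) g) = ∑ ψ : IrrCharacter G, (m ψ : ℂ) * (ψ : G → ℂ) g :=
    fun g => by
      have := congrFun hm g
      simpa [Finset.sum_apply] using this
  have hone : m (principal G) = 1 := by
    have h : (m (principal G) : ℂ) = 1 := by
      rw [← classInner_combination (fun ψ => (m ψ : ℂ)) (principal G), ← hm, ← classInner_self_irr a.2]
      simp [Cfsg.classInner, principal]
    exact_mod_cast h
  have hdeg : ∑ ψ : IrrCharacter G, m ψ * charDegree (ψ : G → ℂ) = 121 := by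
    have h := hval 1
    simp only [irr_one_eq_charDegree, map_natCast, ha] at h
    have h' : ((∑ ψ : IrrCharacter G, m ψ * charDegree (ψ : G → ℂ) : ℕ) : ℂ) = ((121 : ℕ) : ℂ) := by
      push_cast
      rw [← h]; norm_num
    exact_mod_cast h'
  -- the sums over the subgroup of order twenty-three
  have hts : ∀ ψ : IrrCharacter G, ∃ z : ℤ, tsum' (P : Subgroup G) ψ = z ∧
      (ψ = principal G → z ≤ 22) ∧ (ψ ≠ principal G → m ψ ≠ 0 → z ≤ 0) := by
    intro ψ
    by_cases h : 23 ∣ charDegree (ψ : G → ℂ)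
    · exact ⟨0, by rw [hzero ψ h]; simp, fun _ => by norm_num, fun _ _ => le_rfl⟩
    rcases hall ψ h with hX | hY
    · refine ⟨_, F.tX ψ hX, fun _ => ?_, fun hne hm0 => ?_⟩
      · simp only [sgn]; split_ifs <;> norm_num
      · have hle : charDegree (ψ : G → ℂ) ≤ 121 := by
          rw [← hdeg]
          exact le_trans (Nat.le_mul_of_pos_left _ (Nat.pos_of_ne_zero hm0))
            (Finset.single_le_sum (f := fun χ : IrrCharacter G => m χ * charDegree (χ : G → ℂ))
              (fun _ _ => Nat.zero_le _) (Finset.mem_univ ψ))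
        have hnot : charDegree (ψ : G → ℂ) % 23 ≠ 1 := by
          intro h1
          obtain ⟨hb, hd⟩ := deg_facts hG ψ
          have hne1 : charDegree (ψ : G → ℂ) ≠ 1 := fun e => hne (eq_principal hG e)
          have hpos := charDegree_pos ψ
          have hmem : charDegree (ψ : G → ℂ) ∈
              degList fun d => Nat.beq (d % 23) 1 && fine d && Nat.blt d 122 := by
            refine List.mem_filter.2 ⟨mem_allDivs hd, ?_⟩
            simp only [Bool.and_eq_true, Nat.ble_eq, Nat.beq_eq, Nat.blt_eq, fine, exc23, exc11,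
              Bool.or_eq_true, Bool.not_eq_true', Bool.or_eq_false_iff, Bool.and_eq_false_iff,
              ← Bool.not_eq_true]
            have h11 := deg_res11 hG ψ
            omega
          rw [small23] at hmem
          exact absurd hmem List.not_mem_nil
        simp only [sgn, if_neg hnot]; norm_num
    · have : tsum' (P : Subgroup G) ψ = (((-1 : ℤ) * 11 : ℤ) : ℂ) := by rw [F.tY ψ hY, hδ]; norm_num
      exact ⟨_, this, fun _ => by norm_num, fun _ _ => by norm_num⟩
  choose z hz hz1 hz2 using hts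
  have hnorm : ((∑ u : (P : Subgroup G), (if u = 1 then 0 else Complex.normSq ((a : G → ℂ) u)) : ℝ) : ℂ) =
      ((∑ ψ : IrrCharacter G, (m ψ : ℤ) * z ψ : ℤ) : ℂ) := by
    push_cast
    have h1 : ∀ u : (P : Subgroup G), ((if u = 1 then 0 else Complex.normSq ((a : G → ℂ) u) : ℝ) : ℂ) =
        ∑ ψ : IrrCharacter G, (m ψ : ℂ) * (if u = 1 then 0 else (ψ : G → ℂ) u) := by
      intro u
      split_ifs with hu
      · simp
      · rw [← hval, Complex.mul_conj]
    rw [Finset.sum_congr rfl fun u _ => h1 u, Finset.sum_comm]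
    refine Finset.sum_congr rfl fun ψ _ => ?_
    rw [← hz ψ, ← Finset.mul_sum, M23Uniq.tsum'_eq]
    congr 1
    rw [← Finset.add_sum_erase _ _ (Finset.mem_univ (1 : (P : Subgroup G))), if_pos rfl, zero_add]
    exact Finset.sum_congr rfl fun u hu => if_neg (Finset.ne_of_mem_erase hu)
  have hle : ∑ ψ : IrrCharacter G, (m ψ : ℤ) * z ψ ≤ 22 := by
    rw [← Finset.add_sum_erase _ _ (Finset.mem_univ (principal G)), hone, Nat.cast_one, one_mul]
    have : ∑ ψ ∈ (Finset.univ : Finset (IrrCharacter G)).erase (principal G), (m ψ : ℤ) * z ψ ≤ 0 :=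
      Finset.sum_nonpos fun ψ hψ => by
        by_cases h0 : m ψ = 0
        · simp [h0]
        · exact mul_nonpos_of_nonneg_of_nonpos (by positivity) (hz2 ψ (Finset.ne_of_mem_erase hψ) h0)
    have := hz1 _ (rfl : principal G = principal G)
    linarith
  have hlow := (DefectZero.restrict_bound (p := 23) (IsIrrCharacter.isCharacter a.2)
    (irr_one_eq_charDegree a) (P : Subgroup G) K.hP 1 one_ne_zero (Nat.coprime_one_left 23) (fun u _ => by
      rw [Nat.cast_one, div_one]
      exact IsCharacter.isIntegral (IsIrrCharacter.isCharacter a.2) (u : G))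
    (r := 11) (by norm_num) (by rw [ha])).1
  have h' : (∑ u : (P : Subgroup G), (if u = 1 then 0 else Complex.normSq ((a : G → ℂ) u)) : ℝ) =
      ((∑ ψ : IrrCharacter G, (m ψ : ℤ) * z ψ : ℤ) : ℝ) := by exact_mod_cast hnorm
  rw [h'] at hlow
  have : (132 : ℤ) ≤ ∑ ψ : IrrCharacter G, (m ψ : ℤ) * z ψ := by
    have h2 : (((1 ^ 2 * (11 * (23 - 11)) : ℕ) : ℤ) : ℝ) ≤ ((∑ ψ : IrrCharacter G, (m ψ : ℤ) * z ψ : ℤ) : ℝ) := by
      push_cast at hlow ⊢; linarith
    exact_mod_cast h2
  omega

/-- The degrees. -/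
theorem fine_deg (χ : IrrCharacter G) : fine (charDegree (χ : G → ℂ)) = true := by
  have h23 := deg_res23 hG χ
  have h11 := deg_res11 hG χ
  have hb : ¬ (exc23 (charDegree (χ : G → ℂ)) = true ∧ exc11 (charDegree (χ : G → ℂ)) = true) :=
    fun h => not_both hG χ h.1 h.2
  have he := no_eleven hG χ
  simp only [res23, fine, exc23, exc11, Bool.and_eq_true, Bool.or_eq_true, Nat.beq_eq, Bool.not_eq_true',
    ← Bool.not_eq_true] at *
  omega

end Cfsg.Agent.M23Order
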