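import Cfsg.Agent.Lib.M23Order.Setup

/-!
A prime of the complement with a normal Sylow subgroup there: arithmetic of the Sylow numbers.
-/

set_option linter.unusedSectionVars false
set_option linter.style.haveILetI false

namespace Cfsg.Agent.M23Order

open Cfsg Cfsg.Agent.Char Cfsg.Agent.Blocks Cfsg.Agent.CCSylow Cfsg.Agent.DefOne

universe u

variable {G : Type u} [Group G] [Fintype G]

/-- The number of Sylow `q`-subgroups divided out of the index of the normalizer at `p`. -/
theorem frattini_arith [IsSimpleGroup G] {p q : ℕ} [Fact p.Prime] [Fact q.Prime] {V : Subgroup G} {e : ℕ}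
    {P : Sylow p G} (K : Conf p (P : Subgroup G) V (Subgroup.normalizer ((P : Subgroup G) : Set G)) e)
    (hq : q ∣ Nat.card V) (hq2 : ¬ q ^ 2 ∣ Nat.card G) (hlt : q < Nat.card G)
    (hone : ∀ d, d ∣ Nat.card V / q → d % q = 1 → d = 1) :
    ∃ a b : ℕ, a * b = (Subgroup.normalizer ((P : Subgroup G) : Set G)).index ∧ a % p = 1 ∧ b % q = 1 ∧
      1 < b := by
  classical
  set N := Subgroup.normalizer ((P : Subgroup G) : Set G) with hN
  haveI : Fintype N := Fintype.ofFinite _
  obtain ⟨U⟩ : Nonempty (Sylow q V) := inferInstance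
  -- the Sylow subgroup of `V` is normal
  have hfac : (Nat.card V).factorization q = 1 := by
    have h1 := ((Fact.out : q.Prime).dvd_iff_one_le_factorization Nat.card_pos.ne').1 hq
    have h2 : ¬ 2 ≤ (Nat.card V).factorization q := fun h => hq2 (dvd_trans
      (((Fact.out : q.Prime).pow_dvd_iff_le_factorization Nat.card_pos.ne').2 h) (Subgroup.card_subgroup_dvd_card V))
    omega
  have hUc : Nat.card U = q := by rw [U.card_eq_multiplicity, hfac, pow_one]
  haveI hsub : Subsingleton (Sylow q V) := by
    refine (Nat.card_eq_one_iff_unique.1 (hone _ ?_ ?_)).1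
    · have h := U.card_dvd_index
      have h2 := (U : Subgroup V).card_mul_index
      rw [show Nat.card (U : Subgroup V) = q from hUc] at h2
      rwa [Nat.div_eq_of_eq_mul_right (Fact.out : q.Prime).pos h2.symm]
    · rw [card_sylow_modEq_one q V]
      exact Nat.one_mod_eq_one.mpr (Fact.out : q.Prime).ne_one
  set R : Subgroup G := (U : Subgroup V).map V.subtype with hR
  have hRc : Nat.card R = q := by rw [hR, Subgroup.card_map_of_injective V.subtype_injective]; exact hUc
  have hNR : N ≤ Subgroup.normalizer (R : Set G) := by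
    intro w hw
    have hle : ∀ w ∈ N, ∀ x ∈ R, w * x * w⁻¹ ∈ R := by
      intro w hw x hx
      obtain ⟨z, hz, rfl⟩ := Subgroup.mem_map.1 hx
      have hwV : w * (z : G) * w⁻¹ ∈ V := K.D.hNV w hw _ z.2
      refine Subgroup.mem_map.2 ⟨⟨_, hwV⟩, ?_, rfl⟩
      by_cases h1 : z = 1
      · have : (⟨_, hwV⟩ : V) = 1 := Subtype.ext (by simp [h1])
        rw [this]; exact one_mem _
      have hzo : orderOf z = q := ((Nat.dvd_prime Fact.out).1 (hUc ▸ Subgroup.orderOf_dvd_natCard _ hz)).resolve_left
        (by rw [orderOf_eq_one_iff]; exact h1)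
      have hwo : orderOf (⟨_, hwV⟩ : V) = q := by
        rw [Subgroup.orderOf_mk, show w * (z : G) * w⁻¹ = MulAut.conj w (z : G) from rfl, MulEquiv.orderOf_eq,
          Subgroup.orderOf_coe, hzo]
      obtain ⟨Q, hQ⟩ := (IsPGroup.of_card (n := 1) (by rw [Nat.card_zpowers, hwo, pow_one]) :
        IsPGroup q (Subgroup.zpowers (⟨_, hwV⟩ : V))).exists_le_sylow
      rw [Subsingleton.elim U Q]
      exact hQ (Subgroup.mem_zpowers _)
    rw [Subgroup.mem_normalizer_iff]
    intro x
    refine ⟨hle w hw x, fun h => ?_⟩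
    have := hle w⁻¹ (inv_mem hw) _ h
    simpa [mul_assoc] using this
  set M := Subgroup.normalizer (R : Set G) with hM
  let S : Sylow q G := Sylow.ofCard R (by
    rw [hRc]
    have h1 := ((Fact.out : q.Prime).dvd_iff_one_le_factorization (n := Nat.card G) Nat.card_pos.ne').1
      (hq.trans (Subgroup.card_subgroup_dvd_card V))
    have h2 : ¬ 2 ≤ (Nat.card G).factorization q := fun h =>
      hq2 (((Fact.out : q.Prime).pow_dvd_iff_le_factorization Nat.card_pos.ne').2 h)
    rw [show (Nat.card G).factorization q = 1 by omega, pow_one])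
  have hSR : (S : Subgroup G) = R := Sylow.coe_ofCard _ _
  refine ⟨N.relIndex M, M.index, Subgroup.relIndex_mul_index hNR, ?_, ?_, ?_⟩
  · have hPM : (P : Subgroup G) ≤ M := le_trans Subgroup.le_normalizer hNR
    have h := card_sylow_modEq_one p M
    rw [(P.subtype hPM).card_eq_index_normalizer] at h
    have e1 : Subgroup.normalizer (((P.subtype hPM : Sylow p M) : Subgroup M) : Set M) = N.subgroupOf M := by
      rw [hN, Subgroup.subgroupOf_normalizer_eq hPM, Sylow.coe_subtype]
    change (Subgroup.normalizer (((P.subtype hPM : Sylow p M) : Subgroup M) : Set M)).index ≡ 1 [MOD p] at h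
    rw [e1] at h
    exact Nat.mod_eq_of_modEq h (Fact.out : p.Prime).one_lt
  · have h := card_sylow_modEq_one q G
    rw [S.card_eq_index_normalizer] at h
    change (Subgroup.normalizer ((S : Subgroup G) : Set G)).index ≡ 1 [MOD q] at h
    rw [hSR] at h
    exact Nat.mod_eq_of_modEq h (Fact.out : q.Prime).one_lt
  · refine lt_of_le_of_ne (Nat.one_le_iff_ne_zero.2 Subgroup.index_ne_zero_of_finite) fun h => ?_
    rcases (Subgroup.normalizer_eq_top_iff.1 (Subgroup.index_eq_one.1 h.symm)).eq_bot_or_eq_top with e' | e'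
    · rw [e', Subgroup.card_bot] at hRc; exact (Fact.out : q.Prime).ne_one hRc.symm
    · rw [e', Subgroup.card_top] at hRc; omega

end Cfsg.Agent.M23Order
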