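import Cfsg.Agent.Lib.M23Order.Five
import Cfsg.Agent.Lib.M23Uniq.Locals

/-!
The local data of a simple group of order 10200960.
-/

set_option linter.unusedSectionVars false
set_option linter.style.haveILetI false

namespace Cfsg.Agent.M23Order

open Cfsg Cfsg.Agent.Char Cfsg.Agent.Blocks Cfsg.Agent.CCSylow Cfsg.Agent.DefOne

universe u

variable {G : Type u} [Group G] [Fintype G]

/-- Every Sylow normalizer has the order of one of them. -/
theorem card_normalizer_eq {p : ℕ} [Fact p.Prime] (P Q : Sylow p G) :
    Nat.card (Subgroup.normalizer ((Q : Subgroup G) : Set G)) =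
      Nat.card (Subgroup.normalizer ((P : Subgroup G) : Set G)) := by
  have h1 := Subgroup.index_mul_card (Subgroup.normalizer ((P : Subgroup G) : Set G))
  have h2 := Subgroup.index_mul_card (Subgroup.normalizer ((Q : Subgroup G) : Set G))
  have e1 : Nat.card (Sylow p G) = (Subgroup.normalizer ((P : Subgroup G) : Set G)).index :=
    P.card_eq_index_normalizer
  have e2 : Nat.card (Sylow p G) = (Subgroup.normalizer ((Q : Subgroup G) : Set G)).index :=
    Q.card_eq_index_normalizer
  rw [← e2] at h2
  rw [← e1, ← h2] at h1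
  exact (Nat.eq_of_mul_eq_mul_left Nat.card_pos h1).symm

/-- The local data. -/
theorem locals [IsSimpleGroup G] (hG : Nat.card G = 10200960) : M23Uniq.Locals G := by
  classical
  have h23 : ∀ x : G, orderOf x = 23 → Nat.card (Subgroup.centralizer ({x} : Set G)) = 23 :=
    fun x hx => cent23 hG hx
  have h11 : ∀ x : G, orderOf x = 11 → Nat.card (Subgroup.centralizer ({x} : Set G)) = 11 :=
    fun x hx => cent11 hG hx
  have h5 : ∀ x : G, orderOf x = 5 → Nat.card (Subgroup.centralizer ({x} : Set G)) = 15 :=
    fun x hx => cent5 hG hx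
  haveI : Fact (Nat.Prime 23) := ⟨by norm_num⟩
  haveI : Fact (Nat.Prime 11) := ⟨by norm_num⟩
  haveI : Fact (Nat.Prime 5) := ⟨by norm_num⟩
  obtain ⟨P23, V23, K23, hV23⟩ := twentyThree hG
  obtain ⟨P11, V11, K11, hV11⟩ := eleven hG
  obtain ⟨P5, V5, K5, hV5, hfive⟩ := five hG
  obtain ⟨h7, hN7⟩ := seven hG h23 h11 h5 hfive
  refine
    { card := hG
      simple := inferInstance
      c23 := h23
      c11 := h11
      c7 := h7
      c5 := h5
      n23 := fun Q => ?_
      n11 := fun Q => ?_
      n7 := hN7
      n5 := fun Q => ?_ }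
  · rw [card_normalizer_eq P23 Q, K23.D.hcard, K23.hP, hV23]
  · rw [card_normalizer_eq P11 Q, K11.D.hcard, K11.hP, hV11]
  · rw [card_normalizer_eq P5 Q, K5.D.hcard, K5.hP, hV5]

/-- The local data, from the order. -/
theorem locals_of_card (G : Type u) [Group G] [Finite G] [IsSimpleGroup G] (hG : Nat.card G = 10200960) :
    M23Uniq.Locals G := by
  haveI : Fintype G := Fintype.ofFinite G
  exact locals hG

end Cfsg.Agent.M23Order
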