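import Cfsg.Agent.Lib.M12Uniq.Congr
import Cfsg.Agent.Lib.M12Uniq.Setup
import Cfsg.Agent.Lib.DefOne.General

/-!
Values of principal block characters on the complement of a Sylow subgroup of prime order:
characters of defect zero for another prime, congruences, rationality and column orthogonality.
-/

set_option linter.unusedSectionVars false
set_option linter.style.haveILetI false

namespace Cfsg.Agent.M23Order

open Cfsg Cfsg.Agent.Char Cfsg.Agent.Blocks Cfsg.Agent.CCSylow Cfsg.Agent.DefOne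

open scoped ComplexConjugate

universe u

variable {G : Type u} [Group G] [Fintype G]

/-- A character of defect zero vanishes on the singular elements. -/
theorem vanish_singular {q : ℕ} (hq : q.Prime) {χ : IrrCharacter G}
    (hdeg : (charDegree (χ : G → ℂ)).factorization q = (Nat.card G).factorization q)
    {g : G} (hg : q ∣ orderOf g) : (χ : G → ℂ) g = 0 := by
  classical
  haveI := Fact.mk hq
  obtain ⟨M, hM⟩ := exists_isPModular_witness q
  haveI := IsPModular.isPrime hM
  have hB : IsPBlock M ({χ} : Set (IrrCharacter G)) :=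
    blockOf_eq_singleton hM χ hdeg ▸ isPBlock_blockOf χ
  obtain ⟨x, hx⟩ := exists_isPPart hq g
  have hz := blockPair_eq_zero_of_pPart hM hB
    ((isPPart_one_iff hq).2 (by simpa using hq.ne_one) : IsPPart q (1 : G) 1) hx
    fun hc => (isPPart_one_iff hq).1 ((isConj_one_right.1 hc) ▸ hx) hg
  rw [blockPair_eq_finsum, finsum_mem_singleton] at hz
  exact (map_eq_zero (starRingEnd ℂ)).1 ((mul_eq_zero.1 hz).resolve_left (irr_one_ne_zero χ))

/-- An integer value at an element of prime order forces a nonnegative average. -/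
theorem deg_add_nonneg {q : ℕ} (hq : q.Prime) {χ : G → ℂ} (hχ : IsCharacter G χ) {d : ℕ} (hd : χ 1 = d)
    {u : G} (hu : orderOf u = q) {a : ℤ} (ha : χ u = a) : 0 ≤ (d : ℤ) + ((q : ℤ) - 1) * a := by
  classical
  set U := Subgroup.zpowers u
  haveI : Fintype U := Fintype.ofFinite _
  have hcard : Nat.card U = q := by rw [Nat.card_zpowers, hu]
  have hχU : IsCharacter U (fun x : U => χ x) := IsCharacter.restrict hχ U
  obtain ⟨m, hm⟩ := M12Uniq.sum_eq_nat_mul hχU
  have hall : ∀ x : U, x ≠ 1 → χ (x : G) = a := by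
    intro x hx
    obtain ⟨k, hk⟩ := (IsOfFinOrder.mem_zpowers_iff_mem_range_orderOf (isOfFinOrder_of_finite u)).1 x.2
      |> Finset.mem_image.1
    obtain ⟨hk1, hk2⟩ := hk
    rw [Finset.mem_range, hu] at hk1
    have hk0 : k ≠ 0 := fun h => hx (Subtype.ext (by rw [← hk2, h, pow_zero]; rfl))
    have hcop : k.Coprime q := ((Nat.Prime.coprime_iff_not_dvd hq).2 fun h =>
      absurd (Nat.le_of_dvd (Nat.pos_of_ne_zero hk0) h) (by omega)).symm
    obtain ⟨σ, hσ⟩ := CharGalois.exists_galoisAut hq.ne_zero hcop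
    have h := CharGalois.map_char hχU σ.toRingHom (k := k) (fun z hz => hσ z (hcard ▸ hz))
      ⟨u, Subgroup.mem_zpowers u⟩
    simp only [RingEquiv.toRingHom_eq_coe, RingHom.coe_coe, ha, map_intCast, SubmonoidClass.coe_pow] at h
    rw [← hk2]; exact h.symm
  rw [← Finset.add_sum_erase _ _ (Finset.mem_univ (1 : U)),
    Finset.sum_congr rfl fun x hx => hall x (Finset.ne_of_mem_erase hx), Finset.sum_const,
    Finset.card_erase_of_mem (Finset.mem_univ _), Finset.card_univ, ← Nat.card_eq_fintype_card, hcard,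
    OneMemClass.coe_one, hd, nsmul_eq_mul, Nat.cast_sub hq.pos, Nat.cast_one] at hm
  have h' : ((d : ℤ) + ((q : ℤ) - 1) * a) = (q : ℤ) * m := by
    have : (((d : ℤ) + ((q : ℤ) - 1) * a : ℤ) : ℂ) = (((q : ℤ) * m : ℤ) : ℂ) := by
      push_cast; exact hm
    exact_mod_cast this
  rw [h']; positivity

variable {p : ℕ} {P V N : Subgroup G} {e : ℕ} (K : Conf p P V N e)
  [Fintype P] [Fintype V] [Fintype N] [Fintype (P →* ℂˣ)] {M : Ideal AlgInt} [M.IsPrime]
  (hM : IsPModular p M)

include K hM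

/-- A prime whose full power divides the degree of a principal block character avoids `V`. -/
theorem not_dvd_V {χ : IrrCharacter G} (hχ : χ ∈ principalBlock M G) {q : ℕ} (hq : q.Prime)
    (hdeg : (charDegree (χ : G → ℂ)).factorization q = (Nat.card G).factorization q) :
    ¬ q ∣ Nat.card V := by
  intro hqV
  haveI := Fact.mk hq
  obtain ⟨u, hu⟩ := exists_prime_orderOf_dvd_card' q hqV
  obtain ⟨y, hy⟩ := exists_ne_one_P K
  have hy1 : (y : G) ≠ 1 := fun h => hy (Subtype.ext h)
  refine value_ne_zero K hM hχ y.2 hy1 ?_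
  rw [← section_const K hM hχ y.2 hy1 u.2]
  refine vanish_singular hq hdeg ?_
  have hc : Commute (y : G) (u : G) := K.D.pv _ y.2 _ u.2
  have hco : Nat.Coprime (orderOf (y : G)) (orderOf (u : G)) := by
    rw [DefOne.orderOf_P K y.2 hy1, Subgroup.orderOf_coe, hu]
    exact (Nat.coprime_primes K.hp hq).2 fun h => K.hV (h ▸ hqV)
  rw [hc.orderOf_mul_eq_mul_orderOf_of_coprime hco, Subgroup.orderOf_coe u, hu]
  exact dvd_mul_left q _

/-- An integer value on `V` is congruent to the degree modulo `p`. -/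
theorem dvd_sub_value {χ : IrrCharacter G} (hχ : χ ∈ principalBlock M G) {u : G} (hu : u ∈ V) {a : ℤ}
    (ha : (χ : G → ℂ) u = a) : (p : ℤ) ∣ (charDegree (χ : G → ℂ) : ℤ) - a := by
  classical
  obtain ⟨ψ, hψ, hψv⟩ := M12Uniq.exists_fixed_character (IsIrrCharacter.isCharacter χ.2) P V K.D.pv
  have e1 : ∀ w : V, (χ : G → ℂ) (w : G) + ∑ y ∈ Finset.univ.erase (1 : P), (χ : G → ℂ) y =
      (p : ℂ) * ψ w := by
    intro w
    have h := hψv w
    rw [K.hP, ← Finset.add_sum_erase _ _ (Finset.mem_univ (1 : P)), OneMemClass.coe_one, one_mul,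
      Finset.sum_congr rfl fun y hy => section_const K hM hχ y.2
        (fun h => Finset.ne_of_mem_erase hy (Subtype.ext h)) w.2] at h
    exact h
  have h0 := e1 1
  have h1 := e1 ⟨u, hu⟩
  rw [OneMemClass.coe_one, irr_one_eq_charDegree] at h0
  rw [ha] at h1
  have hrat : ψ 1 - ψ ⟨u, hu⟩ = ((((charDegree (χ : G → ℂ) : ℤ) - a : ℤ) : ℚ) / p : ℚ) := by
    push_cast
    field_simp [Nat.cast_ne_zero.2 K.hp.ne_zero]
    linear_combination h1 - h0
  have hint := (IsCharacter.isIntegral hψ 1).sub (IsCharacter.isIntegral hψ ⟨u, hu⟩)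
  rw [hrat] at hint
  obtain ⟨z, hz⟩ := exists_int_of_isIntegral hint
  refine ⟨z, ?_⟩
  have hp0 : ((p : ℤ) : ℚ) ≠ 0 := by exact_mod_cast K.hp.ne_zero
  have : (((charDegree (χ : G → ℂ) : ℤ) - a : ℤ) : ℚ) = (((p : ℤ) * z : ℤ) : ℚ) := by
    rw [Int.cast_mul, ← hz, Int.cast_natCast, mul_div_cancel₀ _ (by exact_mod_cast K.hp.ne_zero : (p : ℚ) ≠ 0)]
  exact_mod_cast this

/-- A member of the principal block which is the only one of its degree there has integer values. -/
theorem exists_int_of_unique_deg {χ : IrrCharacter G} (hχ : χ ∈ principalBlock M G)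
    (h : ∀ ψ ∈ principalBlock M G, charDegree (ψ : G → ℂ) = charDegree (χ : G → ℂ) → ψ = χ) (g : G) :
    ∃ a : ℤ, (χ : G → ℂ) g = a := by
  have hfix : ∀ σ : ℂ ≃+* ℂ, galT σ χ = χ := by
    intro σ
    refine h _ ?_ ?_
    · obtain ⟨y, hy⟩ := exists_ne_one_P K
      have hy1 : (y : G) ≠ 1 := fun h => hy (Subtype.ext h)
      by_contra hn
      have h0 := phi_not_principal K hM hn hy
      have e : phi (galT σ χ : G → ℂ) (trivB V) y = σ (phi (χ : G → ℂ) (trivB V) y) := by
        rw [phi, phi, map_mul, map_inv₀, map_natCast, map_sum]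
        congr 1
        refine Finset.sum_congr rfl fun v _ => ?_
        rw [map_mul, galT_apply, show (trivB V : V → ℂ) v = 1 from rfl, map_one, map_one]
      rw [e, phi_principal K hM hχ hy, EmbeddingLike.map_eq_zero_iff] at h0
      exact value_ne_zero K hM hχ y.2 hy1 h0
    · have e1 := DefOne.galT_one σ χ
      rw [irr_one_eq_charDegree, irr_one_eq_charDegree] at e1
      exact_mod_cast e1
  obtain ⟨q, hq⟩ := CharGalois.eq_rat_of_fixed (irr_isIntegral χ g) fun σ => by
    rw [← galT_apply σ χ g, hfix σ]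
  obtain ⟨a, ha⟩ := exists_int_of_isIntegral (q := q) (hq ▸ irr_isIntegral χ g)
  exact ⟨a, by rw [hq, ha]; push_cast; rfl⟩

/-- A small rational member of the first family bounds the primes of `V`. -/
theorem small_deg_prime {χ : IrrCharacter G} (hχ : χ ∈ principalBlock M G)
    (h : ∀ ψ ∈ principalBlock M G, charDegree (ψ : G → ℂ) = charDegree (χ : G → ℂ) → ψ = χ)
    (hn : ∀ g : G, g ≠ 1 → ‖(χ : G → ℂ) g‖ ≠ (charDegree (χ : G → ℂ) : ℝ))
    {q : ℕ} (hq : q.Prime) (hqV : q ∣ Nat.card V) : p * (q - 1) ≤ charDegree (χ : G → ℂ) := by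
  haveI := Fact.mk hq
  obtain ⟨u, hu⟩ := exists_prime_orderOf_dvd_card' q hqV
  have huo : orderOf (u : G) = q := by rw [Subgroup.orderOf_coe, hu]
  obtain ⟨a, ha⟩ := exists_int_of_unique_deg K hM hχ h (u : G)
  have hd : (χ : G → ℂ) 1 = (charDegree (χ : G → ℂ) : ℕ) := irr_one_eq_charDegree χ
  have h1 := dvd_sub_value K hM hχ u.2 ha
  have h2 := M12Uniq.dvd_sub_deg (IsIrrCharacter.isCharacter χ.2) hd (k := 1) (by rw [pow_one, huo]) ha
  have h3 := deg_add_nonneg hq (IsIrrCharacter.isCharacter χ.2) hd huo ha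
  set f := charDegree (χ : G → ℂ)
  have hne : a ≠ (f : ℤ) := fun e => by
    refine hn (u : G) (fun h0 => hq.ne_one (by rw [← huo, h0, orderOf_one])) ?_
    rw [ha, e, Int.cast_natCast, Complex.norm_natCast]
  have hle : a ≤ (f : ℤ) := by
    obtain ⟨n, ρ, hρ⟩ := IsIrrCharacter.isCharacter χ.2
    have h4 := Cfsg.Agent.Char.norm_char_le ρ (u : G)
    have hn' := hd
    rw [← hρ, Representation.char_one] at hn'
    rw [show Module.finrank ℂ (Fin n → ℂ) = f by exact_mod_cast hn', congrFun hρ (u : G)] at h4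
    rw [ha, Complex.norm_intCast] at h4
    have h5 : (a : ℝ) ≤ (f : ℝ) := le_trans (le_abs_self _) h4
    exact_mod_cast h5
  have hpq : ((p : ℤ) * q) ∣ (f : ℤ) - a := Int.natCast_mul p q ▸ Int.natCast_dvd.2
    (Nat.Coprime.mul_dvd_of_dvd_of_dvd ((Nat.coprime_primes K.hp hq).2 fun e => K.hV (e ▸ hqV))
      (Int.natCast_dvd.1 h1) (Int.natCast_dvd.1 h2))
  have hge := Int.le_of_dvd (by omega) hpq
  have hq2 := hq.two_le
  have key : ((p : ℤ) * q) * ((q : ℤ) - 1) ≤ (f : ℤ) * q := by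
    have := mul_le_mul_of_nonneg_right hge (show (0 : ℤ) ≤ (q : ℤ) - 1 by omega)
    nlinarith [h3]
  have : ((p * (q - 1) : ℕ) : ℤ) ≤ (f : ℤ) := by
    push_cast [Nat.cast_sub hq.pos]
    refine le_of_mul_le_mul_right ?_ (show (0 : ℤ) < q by omega)
    linarith
  exact_mod_cast this

omit hM in
/-- Averaged columns at two primes are orthogonal. -/
theorem phi_orth {p' : ℕ} {P' V' N' : Subgroup G} {e' : ℕ} (K' : Conf p' P' V' N' e')
    [Fintype P'] [Fintype V'] [Fintype N'] [Fintype (P' →* ℂˣ)] (hne : p ≠ p')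
    (hpV : ¬ p ∣ Nat.card V') {y : P} (hy : y ≠ 1) (y' : P') :
    ∑ χ : IrrCharacter G, phi (χ : G → ℂ) (trivB V) y * conj (phi (χ : G → ℂ) (trivB V') y') = 0 := by
  classical
  simp only [phi, map_mul, map_inv₀, map_natCast, map_sum, Complex.conj_conj]
  simp only [show ∀ w : V, (trivB V : V → ℂ) w = 1 from fun _ => rfl,
    show ∀ w : V', (trivB V' : V' → ℂ) w = 1 from fun _ => rfl, map_one, mul_one]
  simp only [Finset.mul_sum, Finset.sum_mul]
  rw [Finset.sum_comm]
  refine Finset.sum_eq_zero fun w' _ => ?_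
  rw [Finset.sum_comm]
  refine Finset.sum_eq_zero fun w _ => ?_
  have hy1 : (y : G) ≠ 1 := fun h => hy (Subtype.ext h)
  have hnc : ¬ IsConj ((y : G) * w) ((y' : G) * w') := by
    intro hc
    obtain ⟨c, hc'⟩ := isConj_iff.1 hc
    have ho : orderOf ((y : G) * w) = orderOf ((y' : G) * w') := by
      rw [← hc', ← MulAut.conj_apply, MulEquiv.orderOf_eq]
    have h1 : p ∣ orderOf ((y : G) * w) := by
      have hcomm : Commute (y : G) (w : G) := K.D.pv _ y.2 _ w.2
      have hco : Nat.Coprime (orderOf (y : G)) (orderOf (w : G)) := by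
        rw [DefOne.orderOf_P K y.2 hy1]
        exact K.hp.coprime_iff_not_dvd.2 fun h => K.hV (h.trans (Subgroup.orderOf_dvd_natCard V w.2))
      rw [hcomm.orderOf_mul_eq_mul_orderOf_of_coprime hco, DefOne.orderOf_P K y.2 hy1]
      exact dvd_mul_right p _
    rw [ho] at h1
    have hcomm' : Commute (y' : G) (w' : G) := K'.D.pv _ y'.2 _ w'.2
    have h2 := h1.trans hcomm'.orderOf_mul_dvd_lcm
    rcases (K.hp.dvd_mul).1 (h2.trans (Nat.lcm_dvd_mul _ _)) with h | h
    · have h3 := h.trans (Subgroup.orderOf_dvd_natCard P' y'.2)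
      rw [show Nat.card P' = p' from K'.hP] at h3
      exact hne ((Nat.prime_dvd_prime_iff_eq K.hp K'.hp).1 h3)
    · exact hpV (h.trans (Subgroup.orderOf_dvd_natCard V' w'.2))
  calc ∑ χ : IrrCharacter G, (Nat.card V : ℂ)⁻¹ * (χ : G → ℂ) ((y : G) * w) *
        ((Nat.card V' : ℂ)⁻¹ * conj ((χ : G → ℂ) ((y' : G) * w')))
      = (Nat.card V : ℂ)⁻¹ * (Nat.card V' : ℂ)⁻¹ *
          ∑ χ : IrrCharacter G, (χ : G → ℂ) ((y : G) * w) * conj ((χ : G → ℂ) ((y' : G) * w')) := by
        rw [Finset.mul_sum]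
        exact Finset.sum_congr rfl fun χ _ => by ring
    _ = 0 := by rw [column_orth_of_not_isConj hnc, mul_zero]

end Cfsg.Agent.M23Order
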