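import Cfsg.Agent.Lib.M22Uniq.Setup
import Cfsg.Agent.Lib.M23Order.Tools

/-!
A simple group of order 10200960: generalities.
-/

set_option linter.unusedSectionVars false
set_option linter.style.haveILetI false

namespace Cfsg.Agent.M23Order

open Cfsg Cfsg.Agent.Char Cfsg.Agent.Blocks Cfsg.Agent.CCSylow Cfsg.Agent.DefOne

open scoped ComplexConjugate

universe u

variable {G : Type u} [Group G] [Fintype G]

section Order

variable [IsSimpleGroup G] (hG : Nat.card G = 10200960)

include hG

theorem not_prime : ¬ (Nat.card G).Prime := by rw [hG]; norm_num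

theorem perfect (f : G →* ℂˣ) : f = 1 := DefOne.Order7920.hom_eq_one (not_prime hG) f

theorem deg_facts (χ : IrrCharacter G) :
    charDegree (χ : G → ℂ) ≤ 3193 ∧ charDegree (χ : G → ℂ) ∣ 10200960 := by
  classical
  refine ⟨?_, hG ▸ charDegree_dvd_card χ⟩
  have h := Finset.single_le_sum (f := fun χ : IrrCharacter G => charDegree (χ : G → ℂ) ^ 2)
    (fun _ _ => Nat.zero_le _) (Finset.mem_univ χ)
  rw [Cfsg.Agent.CharX.sum_deg_sq, hG] at h
  nlinarith

theorem eq_principal {χ : IrrCharacter G} (h : charDegree (χ : G → ℂ) = 1) : χ = principal G :=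
  DefOne.Order7920.eq_principal_of_deg_one (not_prime hG) h

theorem norm_ne {χ : IrrCharacter G} (hne : χ ≠ principal G) {g : G} (hg : g ≠ 1) :
    ‖(χ : G → ℂ) g‖ ≠ (charDegree (χ : G → ℂ) : ℝ) := DefOne.Order7920.norm_ne (not_prime hG) hne hg

/-- The value of a nontrivial character at an involution. -/
theorem involution_range {χ : IrrCharacter G} (hne : χ ≠ principal G) {t : G} (ht : orderOf t = 2) :
    ∃ a : ℤ, (χ : G → ℂ) t = a ∧ (4 : ℤ) ∣ (charDegree (χ : G → ℂ) : ℤ) - a ∧
      |a| < (charDegree (χ : G → ℂ) : ℤ) := by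
  have htt : t * t = 1 := by rw [← pow_two, ← ht, pow_orderOf_eq_one]
  have ht1 : t ≠ 1 := fun h => by rw [h, orderOf_one] at ht; omega
  obtain ⟨a, ha, h4, hle⟩ := M12Uniq.involution_mod_four (perfect hG) (IsIrrCharacter.isCharacter χ.2)
    (irr_one_eq_charDegree χ) htt
  refine ⟨a, ha, h4, lt_of_le_of_ne hle fun he => ?_⟩
  have h := norm_ne hG hne ht1
  rw [ha, Complex.norm_intCast, ← Int.cast_abs, he, Int.cast_natCast] at h
  exact h rfl

/-- A Sylow configuration at a prime dividing the order once. -/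
theorem exists_config {p : ℕ} [Fact p.Prime] (h1 : p ∣ 10200960) (h2 : ¬ p ^ 2 ∣ 10200960) :
    ∃ (P : Sylow p G) (V : Subgroup G) (e : ℕ),
      Conf p (P : Subgroup G) V (Subgroup.normalizer ((P : Subgroup G) : Set G)) e ∧
      e ∣ p - 1 ∧ ∃ n, 1 < n ∧ n % p = 1 ∧ n * (e * (p * Nat.card V)) = 10200960 := by
  have hp : p.Prime := Fact.out
  obtain ⟨P⟩ : Nonempty (Sylow p G) := inferInstance
  have hfac : (Nat.card G).factorization p = 1 := by
    rw [hG]
    have a1 := (hp.dvd_iff_one_le_factorization (by norm_num : (10200960 : ℕ) ≠ 0)).1 h1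
    have a2 : ¬ 2 ≤ (10200960 : ℕ).factorization p := fun h =>
      h2 ((hp.pow_dvd_iff_le_factorization (by norm_num)).2 h)
    omega
  have hP : Nat.card P = p := by rw [Sylow.card_eq_multiplicity, hfac, pow_one]
  obtain ⟨V, e, K, -⟩ := exists_conf hp P hP
  refine ⟨P, V, e, K, ?_, (Subgroup.normalizer ((P : Subgroup G) : Set G)).index, ?_, ?_, ?_⟩
  · haveI : Fintype ((P : Subgroup G) →* ℂˣ) := Fintype.ofFinite _
    have := dvd_card_sub_one K.D
    rwa [K.hP] at this
  · have h0 : (Subgroup.normalizer ((P : Subgroup G) : Set G)).index ≠ 0 :=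
      Subgroup.index_ne_zero_of_finite
    refine lt_of_le_of_ne (Nat.one_le_iff_ne_zero.2 h0) fun h => ?_
    have hn : (P : Subgroup G).Normal :=
      Subgroup.normalizer_eq_top_iff.1 (Subgroup.index_eq_one.1 h.symm)
    rcases hn.eq_bot_or_eq_top with e' | e'
    · rw [e', Subgroup.card_bot] at hP; exact hp.ne_one hP.symm
    · rw [e', Subgroup.card_top, hG] at hP; subst hP; norm_num at hp
  · have h := card_sylow_modEq_one p G
    rw [P.card_eq_index_normalizer] at h
    exact Nat.mod_eq_of_modEq h hp.one_lt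
  · have h := (Subgroup.normalizer ((P : Subgroup G) : Set G)).index_mul_card
    rwa [K.D.hcard, K.hP, hG] at h

/-- The number of pairs of involutions with a given product is a natural number. -/
theorem natural_count {s g : G} {C : ℕ} (hC : Nat.card (Subgroup.centralizer ({s} : Set G)) = C) {w : ℚ}
    (hw : ∑ χ : IrrCharacter G, (χ : G → ℂ) s * (χ : G → ℂ) s * conj ((χ : G → ℂ) g) / (χ : G → ℂ) 1 = (w : ℂ)) :
    ∃ n : ℕ, (n : ℚ) * ((C : ℚ) * C) = 10200960 * w := by
  obtain ⟨n, hn⟩ := M12Uniq.structure_count s s g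
  refine ⟨n, ?_⟩
  rw [hw, hC, hG] at hn
  have h : (((n : ℚ) * ((C : ℚ) * C) : ℚ) : ℂ) = ((10200960 * w : ℚ) : ℂ) := by
    push_cast
    linear_combination hn
  exact_mod_cast h

end Order

end Cfsg.Agent.M23Order
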