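import Cfsg.Agent.Lib.M23Order.Rows
import Cfsg.Agent.Lib.M23Order.Setup
import Cfsg.Agent.Lib.M23Uniq.Blocks
import Cfsg.Agent.Lib.DefOne.General

/-!
A simple group of order 10200960, the seven case: degrees, the five rows, the configuration.
-/

set_option linter.unusedSectionVars false
set_option linter.style.haveILetI false

namespace Cfsg.Agent.M23Order.Seven

open Cfsg Cfsg.Agent.Char Cfsg.Agent.Blocks Cfsg.Agent.CCSylow Cfsg.Agent.DefOne

open scoped ComplexConjugate

universe u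

variable {G : Type u} [Group G] [Fintype G]

/-- The degree. -/
noncomputable abbrev dg (χ : IrrCharacter G) : ℕ := charDegree (χ : G → ℂ)

/-- What is used from the principal block at five. -/
def Five (G : Type u) [Group G] [Fintype G] : Prop :=
  ∃ a b b' d : IrrCharacter G, b ≠ b' ∧ dg a = 231 ∧ dg b = 896 ∧ dg b' = 896 ∧ dg d = 2024 ∧
    ∀ g : G, ¬ 5 ∣ orderOf g →
      1 + (a : G → ℂ) g + (b : G → ℂ) g + (b' : G → ℂ) g - (d : G → ℂ) g = 0

/-- The restrictions from the primes 23 and 11. -/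
structure Slots (G : Type u) [Group G] [Fintype G] : Prop where
  res : ∀ χ : IrrCharacter G,
    (dg χ % 23 = 0 ∨ dg χ % 23 = 1 ∨ dg χ % 23 = 22 ∨ dg χ % 23 = 11 ∨ dg χ % 23 = 12) ∧
      (dg χ % 11 = 0 ∨ dg χ % 11 = 1 ∨ dg χ % 11 = 10 ∨ dg χ % 11 = 5 ∨ dg χ % 11 = 6)
  two23 : ∀ T : Finset (IrrCharacter G), (∀ χ ∈ T, dg χ % 23 = 11 ∨ dg χ % 23 = 12) → T.card ≤ 2
  two11 : ∀ T : Finset (IrrCharacter G), (∀ χ ∈ T, dg χ % 11 = 5 ∨ dg χ % 11 = 6) → T.card ≤ 2
  five11 : ∀ T : Finset (IrrCharacter G), (∀ χ ∈ T, dg χ % 11 = 1 ∨ dg χ % 11 = 10) → T.card ≤ 5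

theorem residue_cases {q d e : ℕ} {s : ℤ} (hs : s = 1 ∨ s = -1) (he : e < q) (he0 : 0 < e)
    (h : (d : ℤ) ≡ s * e [ZMOD q]) : d % q = e ∨ d % q = q - e := by
  rcases hs with rfl | rfl
  · left
    rw [one_mul] at h
    have := (Int.natCast_modEq_iff.1 h)
    rwa [Nat.ModEq, Nat.mod_eq_of_lt he] at this
  · right
    have h' : (d : ℤ) ≡ ((q - e : ℕ) : ℤ) [ZMOD q] := by
      refine h.trans ?_
      rw [Int.modEq_iff_dvd, Nat.cast_sub he.le]
      exact ⟨1, by ring⟩
    have := (Int.natCast_modEq_iff.1 h')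
    rwa [Nat.ModEq, Nat.mod_eq_of_lt (Nat.sub_lt (by omega) he0)] at this

section Order

variable [IsSimpleGroup G] (hG : Nat.card G = 10200960)

include hG

/-- The families at a self-centralizing prime. -/
theorem slots_at {q e k : ℕ} [Fact q.Prime] (h1 : q ∣ 10200960) (h2 : ¬ q ^ 2 ∣ 10200960) (hq : 2 < q)
    (hc : ∀ x : G, orderOf x = q → Nat.card (Subgroup.centralizer ({x} : Set G)) = q)
    (he : ∀ e' n, e' ∣ q - 1 → n % q = 1 → n * (e' * (q * 1)) = 10200960 → e' = e)
    (hk : k * e = q - 1) (he1 : e < q) :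
    ∃ X Y : Finset (IrrCharacter G), X.card = e ∧ Y.card = k ∧
      (∀ χ ∈ X, dg χ % q = 1 ∨ dg χ % q = q - 1) ∧ (∀ θ ∈ Y, dg θ % q = e ∨ dg θ % q = q - e) ∧
      ∀ χ : IrrCharacter G, dg χ % q = 0 ∨ χ ∈ X ∨ χ ∈ Y := by
  classical
  obtain ⟨P, V, e', K, hed, n, -, hn1, hn⟩ := exists_config hG h1 h2
  haveI : Fintype ((P : Subgroup G) →* ℂˣ) := Fintype.ofFinite _
  haveI : Fintype (P : Subgroup G) := Fintype.ofFinite _
  haveI : Fintype V := Fintype.ofFinite _
  haveI : Fintype (Subgroup.normalizer ((P : Subgroup G) : Set G)) := Fintype.ofFinite _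
  obtain ⟨y, hy⟩ := exists_ne_one_P K
  have hy1 : (y : G) ≠ 1 := fun h => hy (Subtype.ext h)
  have hv : Nat.card V = 1 := by
    have h := M22Uniq.cent_card K (DefOne.orderOf_P K y.2 hy1)
    rw [hc _ (DefOne.orderOf_P K y.2 hy1)] at h
    exact (Nat.eq_of_mul_eq_mul_left K.hp.pos (h.symm.trans (mul_one q).symm))
  rw [hv] at hn
  obtain rfl := he e' n hed hn1 hn
  obtain ⟨M, hM⟩ := exists_isPModular_witness q
  haveI := IsPModular.isPrime hM
  obtain ⟨X, Y, δ, F, hmem⟩ := M23Uniq.exists_pfam hM K hq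
  have he0 : 0 < e' := CCSylow.e_pos K.D
  have hY : Y.card = k := Nat.eq_of_mul_eq_mul_right he0 (F.cardY.trans hk.symm)
  refine ⟨X, Y, F.cardX, hY, F.degX, fun θ hθ => residue_cases (s := -δ) ?_ he1 he0 ?_, fun χ => ?_⟩
  · rcases F.sign with h | h <;> simp [h]
  · exact F.degY θ hθ
  · by_cases h : dg χ % q = 0
    · exact Or.inl h
    · exact Or.inr ((hmem χ).1 (M23Uniq.mem_principal_of_self_centralizing hM K hv
        fun hd => h (Nat.mod_eq_zero_of_dvd hd)))

theorem slots (h23 : ∀ x : G, orderOf x = 23 → Nat.card (Subgroup.centralizer ({x} : Set G)) = 23)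
    (h11 : ∀ x : G, orderOf x = 11 → Nat.card (Subgroup.centralizer ({x} : Set G)) = 11) : Slots G := by
  classical
  haveI : Fact (Nat.Prime 23) := ⟨by norm_num⟩
  haveI : Fact (Nat.Prime 11) := ⟨by norm_num⟩
  obtain ⟨X, Y, -, hY, hX1, hY1, hall⟩ := slots_at hG (q := 23) (e := 11) (k := 2) (by norm_num)
    (by norm_num) (by norm_num) h23 (fun e' n h hn hn' => by
      have : e' ∈ Nat.divisors 22 := Nat.mem_divisors.2 ⟨h, by norm_num⟩
      rw [show Nat.divisors 22 = {1, 2, 11, 22} by rfl] at this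
      simp only [Finset.mem_insert, Finset.mem_singleton] at this
      rcases this with rfl | rfl | rfl | rfl <;> omega) rfl (by norm_num)
  obtain ⟨X', Y', hX'c, hY', hX1', hY1', hall'⟩ := slots_at hG (q := 11) (e := 5) (k := 2) (by norm_num)
    (by norm_num) (by norm_num) h11 (fun e' n h hn hn' => by
      have : e' ∈ Nat.divisors 10 := Nat.mem_divisors.2 ⟨h, by norm_num⟩
      rw [show Nat.divisors 10 = {1, 2, 5, 10} by rfl] at this
      simp only [Finset.mem_insert, Finset.mem_singleton] at this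
      rcases this with rfl | rfl | rfl | rfl <;> omega) rfl (by norm_num)
  refine ⟨fun χ => ⟨?_, ?_⟩, fun T hT => ?_, fun T hT => ?_, fun T hT => ?_⟩
  · rcases hall χ with h | h | h
    · omega
    · have := hX1 χ h; omega
    · have := hY1 χ h; omega
  · rcases hall' χ with h | h | h
    · omega
    · have := hX1' χ h; omega
    · have := hY1' χ h; omega
  · refine hY ▸ Finset.card_le_card fun χ hχ => ?_
    have := hT χ hχ
    rcases hall χ with h | h | h
    · omega
    · have := hX1 χ h; omega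
    · exact h
  · refine hY' ▸ Finset.card_le_card fun χ hχ => ?_
    have := hT χ hχ
    rcases hall' χ with h | h | h
    · omega
    · have := hX1' χ h; omega
    · exact h
  · refine hX'c ▸ Finset.card_le_card fun χ hχ => ?_
    have := hT χ hχ
    rcases hall' χ with h | h | h
    · omega
    · exact h
    · have := hY1' χ h; omega

end Order

/-- The possible degrees. -/
def degs : List ℕ := [1, 11, 12, 22, 23, 45, 115, 126, 138, 160, 230, 231, 252, 253, 264, 276, 368, 483,
  495, 506, 528, 644, 736, 759, 770, 896, 990, 1012, 1035, 1265, 1288, 1380, 1518, 1540, 1656, 1760,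
  1771, 1920, 2024, 2277, 2415, 2530, 2760, 2772, 2898, 3036]

theorem degs_check : (List.range 3194).all (fun d => !(decide (d ≠ 0) && decide (10200960 % d = 0) &&
    decide (d % 23 = 0 ∨ d % 23 = 1 ∨ d % 23 = 22 ∨ d % 23 = 11 ∨ d % 23 = 12) &&
    decide (d % 11 = 0 ∨ d % 11 = 1 ∨ d % 11 = 10 ∨ d % 11 = 5 ∨ d % 11 = 6)) || degs.contains d) = true := by
  decide +kernel

theorem Slots.dg_mem [IsSimpleGroup G] (hS : Slots G) (hG : Nat.card G = 10200960) (χ : IrrCharacter G) :
    dg χ ∈ degs := by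
  obtain ⟨h1, h2⟩ := deg_facts hG χ
  have h := List.all_eq_true.1 degs_check (dg χ) (List.mem_range.2 (Nat.lt_succ_of_le h1))
  obtain ⟨h3, h4⟩ := hS.res χ
  have hd0 : dg χ ≠ 0 := (charDegree_pos χ).ne'
  have hmod : 10200960 % dg χ = 0 := Nat.mod_eq_zero_of_dvd h2
  simpa [hd0, hmod, h3, h4] using h

section Conf

variable {P V N : Subgroup G} {e : ℕ} (K : Conf 7 P V N e)
  [Fintype P] [Fintype V] [Fintype N] [Fintype (P →* ℂˣ)] {M : Ideal AlgInt} [M.IsPrime]
  (hM : IsPModular 7 M)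

include K hM

/-- The row of degree 2024. -/
theorem d_row (hv5 : ¬ 5 ∣ Nat.card V) {a b b' d : IrrCharacter G} (ha : dg a = 231) (hb : dg b = 896)
    (hb' : dg b' = 896)
    (hrel : ∀ g : G, ¬ 5 ∣ orderOf g →
      1 + (a : G → ℂ) g + (b : G → ℂ) g + (b' : G → ℂ) g - (d : G → ℂ) g = 0) :
    d ∈ principalBlock M G ∧ ∀ y : P, y ≠ 1 → phi (d : G → ℂ) (trivB V) y = 1 := by
  classical
  have hval : ∀ (y : P), y ≠ 1 → ∀ w : V, (d : G → ℂ) ((y : G) * w) = 1 := by
    intro y hy w
    have hmem : (y : G) * w ∈ Subgroup.centralizer (P : Set G) := (K.hC _).2 ⟨y, y.2, w, w.2, rfl⟩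
    have hord : ¬ 5 ∣ orderOf ((y : G) * w) := fun h => by
      have h' := h.trans (Subgroup.orderOf_dvd_natCard _ hmem)
      rw [card_centralizer K] at h'
      exact hv5 ((show Nat.Coprime 5 7 by norm_num).dvd_of_dvd_mul_left h')
    have h := hrel _ hord
    rw [section_zero_of_dvd K hM (χ := a) (by change 7 ∣ dg a; rw [ha]; norm_num) hy w,
      section_zero_of_dvd K hM (χ := b) (by change 7 ∣ dg b; rw [hb]; norm_num) hy w,
      section_zero_of_dvd K hM (χ := b') (by change 7 ∣ dg b'; rw [hb']; norm_num) hy w] at h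
    linear_combination -h
  have hphi : ∀ y : P, y ≠ 1 → phi (d : G → ℂ) (trivB V) y = 1 := by
    intro y hy
    rw [phi, Finset.sum_congr rfl fun w _ => show _ = (1 : ℂ) by
      rw [hval y hy w, one_mul]; exact map_one _]
    simp [Finset.card_univ, ← Nat.card_eq_fintype_card, Nat.card_pos.ne']
  refine ⟨?_, hphi⟩
  by_contra hn
  obtain ⟨y, hy⟩ := exists_ne_one_P K
  have := hphi y hy
  rw [phi_not_principal K hM hn hy] at this
  exact zero_ne_one this

end Conf

section Cases

variable {p : ℕ} {P V N : Subgroup G} {e : ℕ} (K : Conf p P V N e)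
  [Fintype P] [Fintype V] [Fintype N] [Fintype (P →* ℂˣ)]

include K

/-- The norm of the averaged column. -/
theorem phi_self {y : P} (hy : y ≠ 1) :
    ∑ χ : IrrCharacter G, phi (χ : G → ℂ) (trivB V) y * conj (phi (χ : G → ℂ) (trivB V) y) = (p : ℂ) := by
  classical
  have hy1 : (y : G) ≠ 1 := fun h => hy (Subtype.ext h)
  rw [phi_gram K (trivB V) hy]
  have hcard : (Finset.univ.filter fun x : N => (x : G) ∈ stabB K (trivB V) ∧
      (x : G) * y * (x : G)⁻¹ = y).card = p * Nat.card V := by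
    rw [← card_centralizer K, ← Nat.card_eq_finsetCard]
    refine Nat.card_congr
      { toFun := fun x => ⟨(x.1 : G), ?_⟩
        invFun := fun c => ⟨⟨(c : G), K.hN ▸ Subgroup.centralizer_le_normalizer _ c.2⟩, ?_⟩
        left_inv := fun x => rfl
        right_inv := fun c => rfl }
    · rw [centralizer_P K y.2 hy1, Subgroup.mem_centralizer_singleton_iff]
      exact (mul_inv_eq_iff_eq_mul.1 (Finset.mem_filter.1 x.2).2.2)
    · refine Finset.mem_filter.2 ⟨Finset.mem_univ _, ?_, ?_⟩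
      · rw [stabB_triv K]; exact K.hN ▸ Subgroup.centralizer_le_normalizer _ c.2
      · show (c : G) * y * (c : G)⁻¹ = y
        rw [← Subgroup.mem_centralizer_iff.1 c.2 y y.2, mul_inv_cancel_right]
  rw [hcard, Nat.cast_mul, mul_comm (p : ℂ), inv_mul_cancel_left₀
    (Nat.cast_ne_zero.2 Nat.card_pos.ne')]

/-- With one exceptional row the principal block is the trivial character and the rows. -/
theorem cases_one {M : Ideal AlgInt} [M.IsPrime] {S : Finset (IrrCharacter G)}
    {c : IrrCharacter G → ℤ} {t : IrrCharacter G} (R : M23Order.Rows p e 1 P V M S c t)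
    {ψ : IrrCharacter G} (hψ : ψ ∈ principalBlock M G) : ψ = principal G ∨ ψ ∈ S := by
  classical
  rcases R.cases ψ hψ with h | h | ⟨σ, hσ, he⟩
  · exact Or.inl h
  · exact Or.inr h
  by_contra hn
  push Not at hn
  obtain ⟨hn1, hn2⟩ := hn
  obtain ⟨y, hy⟩ := exists_ne_one_P K
  have hψv : phi (ψ : G → ℂ) (trivB V) y = (c t : ℂ) := by
    rw [← he, show phi (galT σ t : G → ℂ) (trivB V) y = σ (phi (t : G → ℂ) (trivB V) y) by
      rw [phi, phi, map_mul, map_inv₀, map_natCast, map_sum]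
      congr 1
      refine Finset.sum_congr rfl fun v _ => ?_
      rw [map_mul, galT_apply, show (trivB V : V → ℂ) v = 1 from rfl, map_one, map_one],
      R.phi_eq t R.mem_t (Or.inr rfl) y hy, map_intCast]
  have h1 : phi (principal G : G → ℂ) (trivB V) y = 1 := by
    simp [phi, trivB, principal, Finset.card_univ, ← Nat.card_eq_fintype_card, Nat.card_pos.ne']
  have hsum := phi_self K hy
  simp only [Complex.mul_conj, ← Complex.ofReal_sum] at hsum
  have hsum' : ∑ χ : IrrCharacter G, Complex.normSq (phi (χ : G → ℂ) (trivB V) y) = (p : ℝ) := by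
    exact_mod_cast hsum
  have hsub : ∑ χ ∈ insert (principal G) (insert ψ S), Complex.normSq (phi (χ : G → ℂ) (trivB V) y) ≤
      (p : ℝ) := hsum' ▸ Finset.sum_le_sum_of_subset_of_nonneg (Finset.subset_univ _)
        fun χ _ _ => Complex.normSq_nonneg _
  rw [Finset.sum_insert (by simp [R.ne_one, Ne.symm hn1]), Finset.sum_insert hn2, h1, hψv,
    Finset.sum_congr rfl fun χ hχ => show _ = (1 : ℝ) by
      rw [R.phi_eq χ hχ (Or.inr rfl) y hy, Complex.normSq_intCast]
      rcases R.sign χ hχ with h | h <;> simp [h],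
    Finset.sum_const, R.card, Complex.normSq_intCast] at hsub
  have hc : ((c t : ℝ)) * (c t : ℝ) = 1 := by rcases R.sign t R.mem_t with h | h <;> simp [h]
  have hk : e = p - 1 := (one_mul e).symm.trans R.ek
  rw [hc, map_one, nsmul_eq_mul, mul_one, hk, Nat.cast_sub K.hp.pos] at hsub
  push_cast at hsub
  linarith

end Cases

section Sylow

variable [IsSimpleGroup G] (hG : Nat.card G = 10200960)

include hG

/-- The configuration at seven. -/
theorem conf_seven (h23 : ∀ x : G, orderOf x = 23 → Nat.card (Subgroup.centralizer ({x} : Set G)) = 23)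
    (h11 : ∀ x : G, orderOf x = 11 → Nat.card (Subgroup.centralizer ({x} : Set G)) = 11)
    (h5 : ∀ x : G, orderOf x = 5 → Nat.card (Subgroup.centralizer ({x} : Set G)) = 15) :
    haveI : Fact (Nat.Prime 7) := ⟨by norm_num⟩
    ∃ (P : Sylow 7 G) (V : Subgroup G) (e : ℕ),
      Conf 7 (P : Subgroup G) V (Subgroup.normalizer ((P : Subgroup G) : Set G)) e ∧
      Nat.card V ∣ 1152 ∧
      (e = 1 ∨ e = 2 ∨ e = 3 ∧ (Nat.card V = 2 ∨ Nat.card V = 16 ∨ Nat.card V = 128) ∨
        e = 6 ∧ (Nat.card V = 1 ∨ Nat.card V = 8 ∨ Nat.card V = 64)) := by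
  classical
  haveI : Fact (Nat.Prime 7) := ⟨by norm_num⟩
  obtain ⟨P, V, e, K, hed, n, -, hn1, hn⟩ := exists_config hG (p := 7) (by norm_num) (by norm_num)
  haveI : Fintype ((P : Subgroup G) →* ℂˣ) := Fintype.ofFinite _
  haveI : Fintype (P : Subgroup G) := Fintype.ofFinite _
  haveI : Fintype V := Fintype.ofFinite _
  haveI : Fintype (Subgroup.normalizer ((P : Subgroup G) : Set G)) := Fintype.ofFinite _
  obtain ⟨y, hy⟩ := exists_ne_one_P K
  have hy1 : (y : G) ≠ 1 := fun h => hy (Subtype.ext h)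
  have hnd : ∀ q : ℕ, q.Prime → ∀ c : ℕ, ¬ 7 ∣ c →
      (∀ x : G, orderOf x = q → Nat.card (Subgroup.centralizer ({x} : Set G)) = c) →
      ¬ q ∣ Nat.card V := by
    intro q hq c hc hcq hqV
    haveI := Fact.mk hq
    obtain ⟨u, hu⟩ := exists_prime_orderOf_dvd_card' (G := V) q hqV
    refine hc (hcq (u : G) (by rw [Subgroup.orderOf_coe, hu]) ▸ ?_)
    rw [← DefOne.orderOf_P K y.2 hy1]
    exact Subgroup.orderOf_dvd_natCard _
      (Subgroup.mem_centralizer_singleton_iff.2 (K.D.pv _ y.2 _ u.2))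
  have hcop : Nat.Coprime (Nat.card V) 1265 := by
    rw [show (1265 : ℕ) = 5 * 11 * 23 by norm_num]
    refine ((Nat.Coprime.mul_right ?_ ?_).mul_right ?_) <;> rw [Nat.coprime_comm]
    · exact (Nat.Prime.coprime_iff_not_dvd (by norm_num)).2 (hnd 5 (by norm_num) 15 (by norm_num) h5)
    · exact (Nat.Prime.coprime_iff_not_dvd (by norm_num)).2 (hnd 11 (by norm_num) 11 (by norm_num) h11)
    · exact (Nat.Prime.coprime_iff_not_dvd (by norm_num)).2 (hnd 23 (by norm_num) 23 (by norm_num) h23)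
  have hn' : n * (e * Nat.card V) = 1457280 := by
    have : n * (e * Nat.card V) * 7 = 1457280 * 7 := by rw [show (1457280 : ℕ) * 7 = 10200960 by norm_num, ← hn]; ring
    omega
  have hv : Nat.card V ∣ 1152 := hcop.dvd_of_dvd_mul_right ⟨n * e, by rw [show (1152 : ℕ) * 1265 = 1457280 by norm_num, ← hn']; ring⟩
  refine ⟨P, V, e, K, hv, ?_⟩
  have he : e ∈ Nat.divisors 6 := Nat.mem_divisors.2 ⟨hed, by norm_num⟩
  rw [show Nat.divisors 6 = {1, 2, 3, 6} by rfl] at he
  simp only [Finset.mem_insert, Finset.mem_singleton] at he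
  have hd : Nat.card V ∈ Nat.divisors 1152 := Nat.mem_divisors.2 ⟨hv, by norm_num⟩
  rw [show Nat.divisors 1152 = {1, 2, 3, 4, 6, 8, 9, 12, 16, 18, 24, 32, 36, 48, 64, 72, 96, 128, 144,
    192, 288, 384, 576, 1152} by decide +kernel] at hd
  simp only [Finset.mem_insert, Finset.mem_singleton] at hd
  rcases he with rfl | rfl | rfl | rfl
  · exact Or.inl rfl
  · exact Or.inr (Or.inl rfl)
  · refine Or.inr (Or.inr (Or.inl ⟨rfl, ?_⟩))
    rcases hd with h | h | h | h | h | h | h | h | h | h | h | h | h | h | h | h | h | h | h | h | h | h |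
      h | h <;> rw [h] at hn' <;> omega
  · refine Or.inr (Or.inr (Or.inr ⟨rfl, ?_⟩))
    rcases hd with h | h | h | h | h | h | h | h | h | h | h | h | h | h | h | h | h | h | h | h | h | h |
      h | h <;> rw [h] at hn' <;> omega

end Sylow

end Cfsg.Agent.M23Order.Seven
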