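import Mathlib.Data.List.Range
import Mathlib.Tactic.IntervalCases
import Mathlib.Tactic.Linarith

/-!
The finite searches in the seven case for the order 10200960.
-/

namespace Cfsg.Agent.M23Order.Seven

/-- The sign of a degree congruent to `1` or `-1` modulo seven. -/
def sg7 (f : ℕ) : ℤ := if f % 7 = 1 then 1 else -1

/-- Candidate values at an involution of a character of degree `f`. -/
def vals (C m f : ℕ) : List ℤ :=
  ((List.range 181).map fun j : ℕ => (j : ℤ) - 90).filter fun a =>
    decide (a * a ≤ C) && decide (-(f : ℤ) < a) && decide (a < (f : ℤ)) &&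
      decide (((f : ℤ) - a) % m = 0) && decide (((10200960 / C : ℕ) : ℤ) * a % (f : ℤ) = 0)

theorem mem_vals {C m f : ℕ} {a : ℤ} (hC : C ≤ 8064) (h1 : a * a ≤ C) (h2 : |a| < (f : ℤ))
    (h3 : (m : ℤ) ∣ (f : ℤ) - a) (h4 : (f : ℤ) ∣ ((10200960 / C : ℕ) : ℤ) * a) : a ∈ vals C m f := by
  have hC' : (C : ℤ) ≤ 8064 := by exact_mod_cast hC
  have hb : -90 ≤ a ∧ a ≤ 90 := ⟨by nlinarith, by nlinarith⟩
  obtain ⟨h2a, h2b⟩ := abs_lt.1 h2
  refine List.mem_filter.2 ⟨List.mem_map.2 ⟨(a + 90).toNat, List.mem_range.2 ?_, ?_⟩, ?_⟩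
  · omega
  · omega
  simp only [Bool.and_eq_true, decide_eq_true_eq]
  exact ⟨⟨⟨⟨h1, h2a⟩, h2b⟩, Int.emod_eq_zero_of_dvd h3⟩, Int.emod_eq_zero_of_dvd h4⟩

/-- The final test: `W` gives a square number of pairs. -/
def alive (v C : ℕ) (W : ℤ) : Bool :=
  if v = 1 then decide (W = 7 * ((C : ℤ) * C)) else
    decide (0 ≤ W) && decide (7 * v * W % ((C : ℤ) * C) = 0) &&
      (List.range (7 * v + 1)).any fun J => decide (((J : ℤ) * J) * ((C : ℤ) * C) = 7 * v * W)

theorem alive_of {v C J : ℕ} {W : ℤ} (hJ : J ≤ 7 * v) (hv1 : v = 1 → J = 7) (hv0 : 0 < v)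
    (h : ((J : ℤ) * J) * ((C : ℤ) * C) = 7 * v * W) : alive v C W = true := by
  unfold alive
  split
  · rename_i h1
    rw [decide_eq_true_eq]
    rw [hv1 h1, h1] at h
    push_cast at h
    linarith
  · simp only [Bool.and_eq_true, decide_eq_true_eq, List.any_eq_true]
    refine ⟨⟨?_, ?_⟩, J, List.mem_range.2 (by omega), h⟩
    · have h7 : (0 : ℤ) < 7 * v := by omega
      by_contra hW
      have h0 : (0 : ℤ) ≤ ((J : ℤ) * J) * ((C : ℤ) * C) := by positivity
      nlinarith [mul_neg_of_pos_of_neg h7 (lt_of_not_ge hW)]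
    · rw [← h, Int.mul_emod_left]

theorem sqs_nonneg : ∀ as : List ℤ, 0 ≤ (as.map fun a => a * a).sum
  | [] => le_rfl
  | a :: as => by
    rw [List.map_cons, List.sum_cons]
    exact add_nonneg (mul_self_nonneg a) (sqs_nonneg as)

/-- A row: sign, `N / f` and candidate values. -/
abbrev Row := ℤ × ℤ × List ℤ

/-- All completions die. -/
def go (v C : ℕ) : List Row → ℤ → ℤ → ℤ → Bool
  | [], _, L, W => !(decide (L = 0) && alive v C W)
  | [(c, w, vs)], q, L, W =>
    let a := -(L * c)
    !(vs.contains a) || decide ((C : ℤ) < q + a * a) || !(alive v C (W + c * w * (a * a)))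
  | (c, w, vs) :: r :: rs, q, L, W =>
    vs.all fun a => decide ((C : ℤ) < q + a * a) ||
      go v C (r :: rs) (q + a * a) (L + c * a) (W + c * w * (a * a))

theorem go_sound (v C : ℕ) : ∀ (rows : List Row) (as : List ℤ) (q L W : ℤ),
    List.Forall₂ (fun r a => (r.1 = 1 ∨ r.1 = -1) ∧ a ∈ r.2.2) rows as →
    q + (as.map fun a => a * a).sum ≤ C →
    L + ((List.zip rows as).map fun x => x.1.1 * x.2).sum = 0 →
    alive v C (W + ((List.zip rows as).map fun x => x.1.1 * x.1.2.1 * (x.2 * x.2)).sum) = true →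
    go v C rows q L W = false := by
  intro rows
  induction rows with
  | nil =>
    intro as q L W h hq hL hW
    cases h
    simp only [List.zip_nil_left, List.map_nil, List.sum_nil, add_zero] at hL hW
    simp [go, hL, hW]
  | cons r rs ih =>
    intro as q L W h hq hL hW
    obtain ⟨c, w, vs⟩ := r
    cases h with
    | cons h0 h' =>
      rename_i a as'
      obtain ⟨hc, ha⟩ := h0
      simp only [List.zip_cons_cons, List.map_cons, List.sum_cons] at hq hL hW
      have hsq := sqs_nonneg as'
      match rs, h' with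
      | [], .nil =>
        simp only [List.zip_nil_left, List.map_nil, List.sum_nil, add_zero] at hL hW hq
        have e : -(L * c) = a := by rcases hc with rfl | rfl <;> linarith
        simp only [go, e, Bool.or_eq_false_iff, Bool.not_eq_false', decide_eq_false_iff_not, not_lt]
        exact ⟨⟨List.contains_iff_mem.2 ha, by linarith⟩, hW⟩
      | r' :: rs', h' =>
        simp only [go, List.all_eq_false]
        refine ⟨a, ha, ?_⟩
        rw [Bool.not_eq_true, Bool.or_eq_false_iff, decide_eq_false_iff_not, not_lt]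
        refine ⟨by linarith, ih as' (q + a * a) (L + c * a) (W + c * w * (a * a)) h' ?_ ?_ ?_⟩
        · linarith
        · rw [add_assoc]; exact hL
        · rw [add_assoc]; exact hW

/-- The three patterns of five degrees. -/
def patterns : List (List ℕ) :=
  [[22, 230, 253, 1035, 1035], [22, 230, 736, 1035, 1518], [22, 253, 253, 1035, 1518]]

def cands (one : Bool) : List ℕ :=
  (List.range 8065).filter fun C => decide (C ≠ 0) && decide (8064 % C = 0) && decide (C % 2 = 0) &&
    (if one then decide (C % 7 ≠ 0) else decide (C % 7 = 0))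

/-- One configuration: pattern, centraliser order, value of the degree 2024 row. -/
def dead (v : ℕ) (P : List ℕ) (C : ℕ) (d : ℤ) : Bool :=
  let m := if v = 1 then 4 else 28
  !((vals C 4 231).contains (d - 1)) || decide ((C : ℤ) < 1 + d * d + (d - 1) * (d - 1)) ||
    go v C (P.map fun f => (sg7 f, ((10200960 / f : ℕ) : ℤ), vals C m f))
      (1 + d * d + (d - 1) * (d - 1)) (1 + d) (10200960 + 5040 * (d * d))

def sweep (v : ℕ) : Bool :=
  patterns.all fun P => (cands (v == 1)).all fun C =>
    (vals C (if v = 1 then 4 else 28) 2024).all fun d => dead v P C d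

theorem sweep_one : sweep 1 = true := by decide +kernel
theorem sweep_eight : sweep 8 = true := by decide +kernel
theorem sweep_sixty_four : sweep 64 = true := by decide +kernel

theorem no_survivor {v C : ℕ} {P : List ℕ} {d : ℤ} {as : List ℤ} (hv : v = 1 ∨ v = 8 ∨ v = 64)
    (hP : P ∈ patterns) (hC : C ∈ cands (v == 1)) (hd : d ∈ vals C (if v = 1 then 4 else 28) 2024)
    (ha : d - 1 ∈ vals C 4 231)
    (has : List.Forall₂ (fun f a => a ∈ vals C (if v = 1 then 4 else 28) f) P as)
    (hq : 1 + d * d + (d - 1) * (d - 1) + (as.map fun a => a * a).sum ≤ C)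
    (hL : 1 + d + ((List.zip P as).map fun x => sg7 x.1 * x.2).sum = 0)
    {J : ℕ} (hJ : J ≤ 7 * v) (hv1 : v = 1 → J = 7)
    (hW : ((J : ℤ) * J) * ((C : ℤ) * C) = 7 * v * (10200960 + 5040 * (d * d) +
      ((List.zip P as).map fun x => sg7 x.1 * ((10200960 / x.1 : ℕ) : ℤ) * (x.2 * x.2)).sum)) : False := by
  have hs : sweep v = true := by
    rcases hv with rfl | rfl | rfl
    exacts [sweep_one, sweep_eight, sweep_sixty_four]
  have hv0 : 0 < v := by omega
  have h1 := List.all_eq_true.1 (List.all_eq_true.1 (List.all_eq_true.1 hs P hP) C hC) d hd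
  have hsq := sqs_nonneg as
  simp only [dead, Bool.or_eq_true, Bool.not_eq_true', decide_eq_true_eq] at h1
  rcases h1 with (h1 | h1) | h1
  · rw [List.contains_iff_mem.2 ha] at h1; exact Bool.noConfusion h1
  · linarith
  rw [go_sound v C _ as _ _ _ ?_ hq ?_ ?_] at h1
  · exact Bool.noConfusion h1
  · rw [List.forall₂_map_left_iff]
    refine has.imp fun f a h => ⟨?_, h⟩
    unfold sg7
    split <;> simp
  · rw [List.zip_map_left, List.map_map]
    exact hL
  · rw [List.zip_map_left, List.map_map]
    exact alive_of hJ hv1 hv0 hW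

end Cfsg.Agent.M23Order.Seven
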