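import Cfsg.Agent.Lib.M23Order.SevenBase
import Cfsg.Agent.Lib.M23Order.SevenSearch
import Cfsg.Agent.Lib.M23Order.Pairs
import Mathlib.Data.List.Sort

/-!
A simple group of order 10200960: no normalizer quotient of order six at seven.
-/

set_option linter.unusedSectionVars false
set_option linter.style.haveILetI false

namespace Cfsg.Agent.M23Order.Seven

open Cfsg Cfsg.Agent.Char Cfsg.Agent.Blocks Cfsg.Agent.CCSylow Cfsg.Agent.DefOne

open scoped ComplexConjugate

universe u

/-- The degrees congruent to `1` or `-1` modulo seven. -/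
def X7 : List ℕ := degs.filter fun f => decide (f ≠ 1) && decide (f % 7 = 1 ∨ f % 7 = 6)

theorem patterns_check : X7.all (fun a => X7.all fun b => X7.all fun c => X7.all fun d => X7.all fun e =>
    !(decide (a ≤ b) && decide (b ≤ c) && decide (c ≤ d) && decide (d ≤ e) &&
      decide (2025 + (sg7 a * a + (sg7 b * b + (sg7 c * c + (sg7 d * d + sg7 e * e)))) = (0 : ℤ)) &&
      decide (1 + 2024 * 2024 + 53361 + 1605632 + (a * a + (b * b + (c * c + (d * d + e * e)))) ≤ 10200960)) ||
      patterns.contains [a, b, c, d, e]) = true := by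
  decide +kernel

theorem pattern_mem {l : List ℕ} (hlen : l.length = 5) (hs : l.Pairwise (· ≤ ·)) (hm : ∀ f ∈ l, f ∈ X7)
    (hrel : 2025 + (l.map fun f => sg7 f * (f : ℤ)).sum = 0)
    (hsq : 1 + 2024 * 2024 + 53361 + 1605632 + (l.map fun f => f * f).sum ≤ 10200960) : l ∈ patterns := by
  match l, hlen with
  | [a, b, c, d, e], _ =>
    simp only [List.mem_cons, List.not_mem_nil, or_false, forall_eq_or_imp, forall_eq] at hm
    obtain ⟨ha, hb, hc, hd, he⟩ := hm
    simp only [List.pairwise_cons, List.mem_cons, List.not_mem_nil, or_false, forall_eq_or_imp, forall_eq]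
      at hs
    obtain ⟨⟨hab, -⟩, ⟨hbc, -⟩, ⟨hcd, -⟩, hde, -⟩ := hs
    simp only [List.map_cons, List.map_nil, List.sum_cons, List.sum_nil, add_zero] at hrel hsq
    have h := List.all_eq_true.1 (List.all_eq_true.1 (List.all_eq_true.1 (List.all_eq_true.1
      (List.all_eq_true.1 patterns_check a ha) b hb) c hc) d hd) e he
    simpa [hab, hbc, hcd, hde, hrel, hsq] using h

variable {G : Type u} [Group G] [Fintype G]

/-- The inverting conjugates lie in one coset of the centralizer. -/
theorem inverters_le {p : ℕ} {P V N : Subgroup G} {e : ℕ} (K : Conf p P V N e)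
    [Fintype P] [Fintype V] [Fintype N] [Fintype (P →* ℂˣ)] {y : P} (hy : y ≠ 1) (a : G) :
    inverters (y : G) a ≤ p * Nat.card V := by
  rcases isEmpty_or_nonempty {x : G // IsConj a x ∧ x * y * x⁻¹ = (y : G)⁻¹} with h | ⟨⟨x₀, -, hx₀⟩⟩
  · rw [inverters, Nat.card_of_isEmpty]; exact Nat.zero_le _
  have hmem : ∀ x : {x : G // IsConj a x ∧ x * y * x⁻¹ = (y : G)⁻¹},
      (x : G)⁻¹ * x₀ ∈ Subgroup.centralizer (P : Set G) := by
    rintro ⟨x, -, hx⟩
    rw [centralizer_P K y.2 (fun h => hy (Subtype.ext h)), Subgroup.mem_centralizer_singleton_iff]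
    refine mul_inv_eq_iff_eq_mul.1 ?_
    calc x⁻¹ * x₀ * y * (x⁻¹ * x₀)⁻¹ = x⁻¹ * (x₀ * y * x₀⁻¹) * x := by group
      _ = x⁻¹ * (x * y * x⁻¹) * x := by rw [hx₀, hx]
      _ = y := by group
  refine (Nat.card_le_card_of_injective (fun x => (⟨_, hmem x⟩ : Subgroup.centralizer (P : Set G)))
    fun x x' h => ?_).trans_eq (card_centralizer K)
  have := congrArg Subtype.val h
  simp only [mul_left_inj, inv_inj] at this
  exact Subtype.ext this

theorem factorization_two {m : ℕ} (h : ¬ 2 ∣ m) : (128 * m).factorization 2 = 7 := by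
  have hm : m ≠ 0 := fun e => h (e ▸ dvd_zero 2)
  rw [show (128 : ℕ) = 2 ^ 7 by norm_num, Nat.factorization_mul (by norm_num) hm, Finsupp.add_apply,
    Nat.prime_two.factorization_pow, Nat.factorization_eq_zero_of_not_dvd h]
  simp

variable [IsSimpleGroup G] (hG : Nat.card G = 10200960)

include hG

/-- Characters of degree `896` vanish at involutions. -/
theorem vanish_896 {χ : IrrCharacter G} (h : dg χ = 896) {i : G} (hi : orderOf i = 2) :
    (χ : G → ℂ) i = 0 := by
  refine vanish_singular Nat.prime_two ?_ (by rw [hi])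
  show (dg χ).factorization 2 = _
  rw [h, hG, show (896 : ℕ) = 128 * 7 by norm_num, show (10200960 : ℕ) = 128 * 79695 by norm_num,
    factorization_two (by norm_num), factorization_two (by norm_num)]

theorem not_six (hS : Slots G)
    (h23 : ∀ x : G, orderOf x = 23 → Nat.card (Subgroup.centralizer ({x} : Set G)) = 23)
    (h11 : ∀ x : G, orderOf x = 11 → Nat.card (Subgroup.centralizer ({x} : Set G)) = 11)
    (h5 : ∀ x : G, orderOf x = 5 → Nat.card (Subgroup.centralizer ({x} : Set G)) = 15)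
    (hfive : Five G) [Fact (Nat.Prime 7)] (P : Sylow 7 G) (V : Subgroup G)
    (K : Conf 7 (P : Subgroup G) V (Subgroup.normalizer ((P : Subgroup G) : Set G)) 6)
    (hv : Nat.card V = 1 ∨ Nat.card V = 8 ∨ Nat.card V = 64) : False := by
  classical
  haveI : Fintype ((P : Subgroup G) →* ℂˣ) := Fintype.ofFinite _
  haveI : Fintype (P : Subgroup G) := Fintype.ofFinite _
  haveI : Fintype V := Fintype.ofFinite _
  haveI : Fintype (Subgroup.normalizer ((P : Subgroup G) : Set G)) := Fintype.ofFinite _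
  obtain ⟨M, hM⟩ := exists_isPModular_witness 7
  haveI := IsPModular.isPrime hM
  obtain ⟨k, S, c, t, R⟩ := exists_rows hM (by norm_num) K
  have hk : k = 1 := by have := R.ek; omega
  subst hk
  obtain ⟨a, b, b', d, hbb, ha, hb, hb', hd, hrel⟩ := hfive
  obtain ⟨hdB, hdphi⟩ := d_row K hM (by rcases hv with h | h | h <;> rw [h] <;> norm_num) ha hb hb' hrel
  have hp1 : dg (principal G) = 1 := Cfsg.Agent.CharX.charDegree_one
  have hdS : d ∈ S := (cases_one K R hdB).resolve_left fun h => by rw [h, hp1] at hd; norm_num at hd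
  obtain ⟨y₀, hy₀⟩ := exists_ne_one_P K
  have hcd : c d = 1 := by
    have h := hdphi y₀ hy₀
    rw [R.phi_eq d hdS (Or.inr rfl) y₀ hy₀] at h
    exact_mod_cast h
  have hcong : ∀ χ ∈ S, (dg χ : ℤ) ≡ c χ [ZMOD 7] := by
    intro χ hχ
    by_cases h : χ = t
    · subst h
      refine R.congr_t.trans (Int.modEq_iff_dvd.2 ?_)
      push_cast
      exact ⟨c χ, by ring⟩
    · exact R.congr χ hχ h
  have hsg : ∀ χ ∈ S, c χ = sg7 (dg χ) ∧ (dg χ % 7 = 1 ∨ dg χ % 7 = 6) ∧ dg χ ∈ X7 := by
    intro χ hχ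
    obtain ⟨h1, h2⟩ := M23Uniq.sgn_eq (by norm_num : 2 < 7) (R.sign χ hχ) (hcong χ hχ)
    refine ⟨h1.symm, h2, List.mem_filter.2 ⟨hS.dg_mem hG χ, ?_⟩⟩
    have hne : dg χ ≠ 1 := fun e => R.ne_one (eq_principal hG e ▸ hχ)
    simp [hne, h2]
  -- the five other rows
  set T := S.erase d with hT
  let r : IrrCharacter G → IrrCharacter G → Prop := fun χ ψ => dg χ ≤ dg ψ
  haveI : Std.Total r := ⟨fun χ ψ => le_total _ _⟩
  haveI : IsTrans (IrrCharacter G) r := ⟨fun _ _ _ => le_trans⟩
  set l := T.toList.insertionSort r with hl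
  have hperm : l.Perm T.toList := List.perm_insertionSort r _
  have hlen : l.length = 5 := by
    rw [hperm.length_eq, Finset.length_toList, hT, Finset.card_erase_of_mem hdS, R.card]
  have hmemT : ∀ χ ∈ l, χ ∈ T := fun χ h => Finset.mem_toList.1 (hperm.mem_iff.1 h)
  have hsum : ∀ {β : Type} [AddCommMonoid β] (f : IrrCharacter G → β), (l.map f).sum = ∑ χ ∈ T, f χ :=
    fun f => by rw [(hperm.map f).sum_eq, Finset.sum_map_toList]
  have hTS : ∀ χ ∈ T, χ ∈ S := fun χ h => Finset.mem_of_mem_erase h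
  -- the relation at the identity and the squares
  have h1reg : ¬ 7 ∣ orderOf (1 : G) := by simp
  have hrel1 : 2025 + ((l.map dg).map fun f => sg7 f * (f : ℤ)).sum = 0 := by
    have h := R.relation 1 h1reg
    rw [← Finset.add_sum_erase _ _ hdS, hcd] at h
    simp only [irr_one_eq_charDegree] at h
    have h' : 1 + ((dg d : ℤ) + ∑ χ ∈ T, c χ * (dg χ : ℤ)) = 0 := by
      have : ((1 + ((dg d : ℤ) + ∑ χ ∈ T, c χ * (dg χ : ℤ)) : ℤ) : ℂ) = ((0 : ℤ) : ℂ) := by
        push_cast
        push_cast at h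
        linear_combination h
      exact_mod_cast this
    rw [List.map_map, hsum]
    rw [hd, Finset.sum_congr rfl fun χ hχ => by rw [(hsg χ (hTS χ hχ)).1]] at h'
    simp only [Function.comp_apply]
    push_cast at h' ⊢
    linarith
  have haS : a ∉ S := fun h => by
    have := (hsg a h).2.1
    rw [ha] at this; norm_num at this
  have hbS : ∀ χ : IrrCharacter G, dg χ = 896 → χ ∉ S := fun χ e h => by
    have := (hsg χ h).2.1
    rw [e] at this; norm_num at this
  have hpT : principal G ∉ T := fun h => R.ne_one (hTS _ h)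
  have hdT : d ∉ T := Finset.notMem_erase _ _
  have hne : ∀ {χ ψ : IrrCharacter G}, dg χ ≠ dg ψ → χ ≠ ψ := fun h e => h (e ▸ rfl)
  have haT : a ∉ T := fun h => haS (hTS _ h)
  have hsq : 1 + 2024 * 2024 + 53361 + 1605632 + ((l.map dg).map fun f => f * f).sum ≤ 10200960 := by
    rw [List.map_map, hsum]
    have hbT : b ∉ T := fun h => hbS b hb (hTS _ h)
    have hb'T : b' ∉ T := fun h => hbS b' hb' (hTS _ h)
    have h : ∑ χ ∈ insert (principal G) (insert d (insert a (insert b (insert b' T)))), dg χ ^ 2 ≤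
        ∑ χ : IrrCharacter G, dg χ ^ 2 := Finset.sum_le_sum_of_subset (Finset.subset_univ _)
    rw [Cfsg.Agent.CharX.sum_deg_sq, hG, Finset.sum_insert, Finset.sum_insert, Finset.sum_insert,
      Finset.sum_insert, Finset.sum_insert hb'T, hp1, hd, ha, hb, hb'] at h
    · simp only [Function.comp_apply, ← pow_two]
      omega
    · simp [hbb, hbT]
    · simp [haT, hne (show dg a ≠ dg b by omega), hne (show dg a ≠ dg b' by omega)]
    · simp [hdT, hne (show dg d ≠ dg a by omega), hne (show dg d ≠ dg b by omega),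
        hne (show dg d ≠ dg b' by omega)]
    · simp [hpT, hne (show dg (principal G) ≠ dg d by omega), hne (show dg (principal G) ≠ dg a by omega),
        hne (show dg (principal G) ≠ dg b by omega), hne (show dg (principal G) ≠ dg b' by omega)]
  have hP : l.map dg ∈ patterns := pattern_mem (by rw [List.length_map, hlen])
    (List.pairwise_map.2 (List.pairwise_insertionSort r _)) (fun f hf => by
      obtain ⟨χ, hχ, rfl⟩ := List.mem_map.1 hf
      exact (hsg χ (hTS χ (hmemT χ hχ))).2.2) hrel1 hsq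
  -- the involution
  obtain ⟨y, hy, i, hi, hiV, hJ1⟩ : ∃ y : (P : Subgroup G), y ≠ 1 ∧ ∃ i : G, orderOf i = 2 ∧
      (Nat.card V ≠ 1 → i ∈ V) ∧ (Nat.card V = 1 → inverters (y : G) i = 7) := by
    refine ⟨y₀, hy₀, ?_⟩
    by_cases h1 : Nat.card V = 1
    · obtain ⟨i, hi, hiy⟩ := exists_inverter K (by norm_num) (by norm_num) h1 hy₀
      exact ⟨i, hi, fun h => absurd h1 h, fun _ => inverters_eq K (by norm_num) h1 hy₀ hiy⟩
    · haveI : Fact (Nat.Prime 2) := ⟨Nat.prime_two⟩
      obtain ⟨i, hi⟩ := exists_prime_orderOf_dvd_card' (G := V) 2 (by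
        rcases hv with h | h | h
        · exact absurd h h1
        all_goals (rw [h]; norm_num))
      exact ⟨i, by rw [Subgroup.orderOf_coe, hi], fun _ => i.2, fun h => absurd h h1⟩
  have hii : i * i = 1 := by rw [← pow_two, ← hi, pow_orderOf_eq_one]
  have hy1 : (y : G) ≠ 1 := fun h => hy (Subtype.ext h)
  set C := Nat.card (Subgroup.centralizer ({i} : Set G)) with hC
  have hCN : C ∣ 10200960 := hG ▸ Subgroup.card_subgroup_dvd_card _
  have hiC : 2 ∣ C := by
    rw [← hi]
    exact Subgroup.orderOf_dvd_natCard _ (Subgroup.mem_centralizer_singleton_iff.2 rfl)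
  have hnot : ∀ q c' : ℕ, q.Prime → c' % 2 = 1 →
      (∀ x : G, orderOf x = q → Nat.card (Subgroup.centralizer ({x} : Set G)) = c') → ¬ q ∣ C := by
    intro q c' hq hodd hcq hdvd
    haveI := Fact.mk hq
    obtain ⟨z, hz⟩ := exists_prime_orderOf_dvd_card' (G := Subgroup.centralizer ({i} : Set G)) q hdvd
    have h2 : 2 ∣ c' := by
      rw [← hi, ← hcq (z : G) (by rw [Subgroup.orderOf_coe, hz])]
      exact Subgroup.orderOf_dvd_natCard _
        (Subgroup.mem_centralizer_singleton_iff.2 (Subgroup.mem_centralizer_singleton_iff.1 z.2).symm)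
    omega
  have hC8064 : C ∣ 8064 := by
    have hcop : Nat.Coprime C 1265 := by
      rw [show (1265 : ℕ) = 5 * 11 * 23 by norm_num]
      refine ((Nat.Coprime.mul_right ?_ ?_).mul_right ?_) <;> rw [Nat.coprime_comm]
      · exact (Nat.Prime.coprime_iff_not_dvd (by norm_num)).2 (hnot 5 15 (by norm_num) (by norm_num) h5)
      · exact (Nat.Prime.coprime_iff_not_dvd (by norm_num)).2 (hnot 11 11 (by norm_num) (by norm_num) h11)
      · exact (Nat.Prime.coprime_iff_not_dvd (by norm_num)).2 (hnot 23 23 (by norm_num) (by norm_num) h23)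
    exact hcop.dvd_of_dvd_mul_right (show C ∣ 8064 * 1265 from hCN)
  have h7C : Nat.card V = 1 ↔ ¬ 7 ∣ C := by
    constructor
    · intro h1
      refine hnot 7 7 (by norm_num) (by norm_num) fun x hx => ?_
      rw [M22Uniq.cent_card K hx, h1]
    · intro h7
      by_contra h1
      refine h7 ?_
      rw [← DefOne.orderOf_P K y.2 hy1]
      exact Subgroup.orderOf_dvd_natCard _
        (Subgroup.mem_centralizer_singleton_iff.2 (K.D.pv _ y.2 _ (hiV h1)))
  have hC0 : C ≠ 0 := Nat.card_pos.ne'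
  have hCle : C ≤ 8064 := Nat.le_of_dvd (by norm_num) hC8064
  have hCc : C ∈ cands (Nat.card V == 1) := by
    refine List.mem_filter.2 ⟨List.mem_range.2 (by omega), ?_⟩
    have e1 : 8064 % C = 0 := Nat.mod_eq_zero_of_dvd hC8064
    have e2 : C % 2 = 0 := Nat.mod_eq_zero_of_dvd hiC
    by_cases h1 : Nat.card V = 1
    · have e3 : C % 7 ≠ 0 := fun h => h7C.1 h1 (Nat.dvd_of_mod_eq_zero h)
      rw [show (Nat.card V == 1) = true from beq_iff_eq.2 h1]
      simp [hC0, e1, e2, e3]
    · have e3 : C % 7 = 0 := Nat.mod_eq_zero_of_dvd (Classical.byContradiction fun h => h1 (h7C.2 h))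
      rw [show (Nat.card V == 1) = false from beq_eq_false_iff_ne.2 h1]
      simp [hC0, e1, e2, e3]
  -- values
  have hval : ∀ χ : IrrCharacter G, ∃ z : ℤ, (χ : G → ℂ) i = z ∧ (χ ≠ principal G →
      (4 : ℤ) ∣ (dg χ : ℤ) - z ∧ |z| < (dg χ : ℤ)) := by
    intro χ
    by_cases h : χ = principal G
    · exact ⟨1, by rw [h]; simp [principal], fun h' => absurd h h'⟩
    · obtain ⟨z, hz, hz1, hz2⟩ := involution_range hG h hi
      exact ⟨z, hz, fun _ => ⟨hz1, hz2⟩⟩
  choose A hA hA' using hval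
  set m := if Nat.card V = 1 then 4 else 28 with hm
  have hvals : ∀ χ : IrrCharacter G, χ ≠ principal G → A χ ∈ vals C 4 (dg χ) ∧
      (χ ∈ principalBlock M G → A χ ∈ vals C m (dg χ)) := by
    intro χ hχ
    obtain ⟨h4, hlt⟩ := hA' χ hχ
    have hsq' : A χ * A χ ≤ (C : ℤ) := by
      have := M12Uniq.sum_sq_le i {χ} A (fun ψ _ => hA ψ)
      rw [Finset.sum_singleton, pow_two] at this
      exact this
    have hdiv : (dg χ : ℤ) ∣ ((10200960 / C : ℕ) : ℤ) * A χ := by
      rw [← hG, ← Subgroup.index_mul_card (Subgroup.centralizer ({i} : Set G)), ← hC,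
        Nat.mul_div_cancel _ (Nat.pos_of_ne_zero hC0)]
      exact M12Uniq.dvd_index_mul χ (hA χ)
    refine ⟨mem_vals hCle hsq' hlt h4 hdiv, fun hB => mem_vals hCle hsq' hlt ?_ hdiv⟩
    rw [hm]
    split
    · exact h4
    · rename_i h1
      have h7 := dvd_sub_value K hM hB (hiV h1) (hA χ)
      change ((7 : ℕ) : ℤ) ∣ (dg χ : ℤ) - A χ at h7
      push_cast at h7 ⊢
      omega
  have hreg5 : ¬ 5 ∣ orderOf i := by rw [hi]; norm_num
  have hAa : A a = A d - 1 := by
    have h := hrel i hreg5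
    rw [vanish_896 hG hb hi, vanish_896 hG hb' hi, hA a, hA d] at h
    have : ((A a : ℤ) : ℂ) = ((A d - 1 : ℤ) : ℂ) := by push_cast; linear_combination h
    exact_mod_cast this
  have hdne : d ≠ principal G := fun h => R.ne_one (h ▸ hdS)
  have hane : a ≠ principal G := hne (show dg a ≠ dg (principal G) by omega)
  have hreg7 : ¬ 7 ∣ orderOf i := by rw [hi]; norm_num
  -- the pairs
  have hpairs := pairs K (by norm_num) hy hii hii
  rw [← hC, hG, Finset.sum_congr rfl fun (χ : IrrCharacter G) _ => show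
      (χ : G → ℂ) i * (χ : G → ℂ) i * conj (phi (χ : G → ℂ) (trivB V) y) / (χ : G → ℂ) 1 =
      (χ : G → ℂ) i * (χ : G → ℂ) i / (χ : G → ℂ) 1 * conj (phi (χ : G → ℂ) (trivB V) y) by ring,
    R.sum_phi (fun χ => (χ : G → ℂ) i * (χ : G → ℂ) i / (χ : G → ℂ) 1) (fun σ _ χ => by
      simp only [galT_apply σ χ i, DefOne.galT_one σ χ, hA χ, map_intCast]) y hy,
    ← Finset.add_sum_erase _ _ hdS, hcd] at hpairs
  simp only [hA, irr_one_eq_charDegree] at hpairs
  have hA1 : A (principal G) = 1 := by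
    have := hA (principal G)
    rw [show (principal G : G → ℂ) i = 1 from rfl] at this
    exact_mod_cast this.symm
  rw [hA1] at hpairs
  have hdivN : ∀ χ : IrrCharacter G, ((10200960 / dg χ : ℕ) : ℂ) = 10200960 / (dg χ : ℂ) := fun χ => by
    rw [Nat.cast_div (deg_facts hG χ).2 (Nat.cast_ne_zero.2 (charDegree_pos χ).ne')]
    norm_num
  set J := inverters (y : G) i
  have hWC : ((J : ℤ) * J) * ((C : ℤ) * C) = 7 * Nat.card V * (10200960 + 5040 * (A d * A d) +
      ∑ χ ∈ T, sg7 (dg χ) * ((10200960 / dg χ : ℕ) : ℤ) * (A χ * A χ)) := by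
    refine (Int.cast_inj (α := ℂ)).1 ?_
    simp only [Int.cast_mul, Int.cast_add, Int.cast_sum, Int.cast_natCast, Int.cast_ofNat]
    rw [Finset.sum_congr rfl fun χ hχ => show _ = (10200960 : ℂ) *
      ((c χ : ℂ) * ((A χ : ℂ) * A χ / (dg χ : ℂ))) by
        rw [hdivN, ← (hsg χ (hTS χ hχ)).1]; ring, ← Finset.mul_sum]
    have hp' : ((charDegree (principal G : G → ℂ) : ℕ) : ℂ) = 1 := by
      rw [show charDegree (principal G : G → ℂ) = 1 from hp1]; norm_num
    have hd' : ((charDegree (d : G → ℂ) : ℕ) : ℂ) = 2024 := by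
      rw [show charDegree (d : G → ℂ) = 2024 from hd]; norm_num
    rw [hp', hd'] at hpairs
    push_cast at hpairs
    linear_combination hpairs
  have hrelI : 1 + A d + ∑ χ ∈ T, sg7 (dg χ) * A χ = 0 := by
    have h := R.relation i hreg7
    rw [← Finset.add_sum_erase _ _ hdS, hcd] at h
    simp only [hA] at h
    refine (Int.cast_inj (α := ℂ)).1 ?_
    push_cast
    rw [Finset.sum_congr rfl fun χ hχ => show _ = (c χ : ℂ) * (A χ : ℂ) by
      rw [← (hsg χ (hTS χ hχ)).1]]
    push_cast at h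
    linear_combination h
  have hnorm : 1 + A d * A d + (A d - 1) * (A d - 1) + ∑ χ ∈ T, A χ * A χ ≤ (C : ℤ) := by
    have h := M12Uniq.sum_sq_le i (insert (principal G) (insert d (insert a T))) A fun χ _ => hA χ
    rw [Finset.sum_insert, Finset.sum_insert, Finset.sum_insert haT, hAa, hA1] at h
    · simp only [pow_two] at h
      linarith
    · simp [hdT, hne (show dg d ≠ dg a by omega)]
    · simp [hpT, hdne.symm, hane.symm]
  have hzip : List.zip (l.map dg) (l.map A) = l.map fun χ => (dg χ, A χ) := List.zip_map'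
  refine no_survivor (v := Nat.card V) (C := C) (P := l.map dg) (d := A d) (as := l.map A) hv hP hCc
    ((hvals d hdne).2 hdB |> fun h => by rwa [hd] at h) (by rw [← hAa, ← ha]; exact (hvals a hane).1)
    ?_ ?_ ?_ (J := J) (inverters_le K hy i) (fun h => hJ1 h) ?_
  · rw [List.forall₂_map_left_iff, List.forall₂_map_right_iff, List.forall₂_same]
    exact fun χ hχ => (hvals χ fun e => hpT (e ▸ hmemT χ hχ)).2 (R.block χ (hTS χ (hmemT χ hχ)))
  · rw [List.map_map, hsum]
    exact hnorm
  · rw [hzip, List.map_map, hsum]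
    exact hrelI
  · rw [hzip, List.map_map, hsum]
    exact hWC

end Cfsg.Agent.M23Order.Seven
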