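import Cfsg.Agent.Lib.M23Order.SevenSix

/-!
A simple group of order 10200960: the normalizer quotients of order at most three at seven.
-/

set_option linter.unusedSectionVars false
set_option linter.style.haveILetI false

namespace Cfsg.Agent.M23Order.Seven

open Cfsg Cfsg.Agent.Char Cfsg.Agent.Blocks Cfsg.Agent.CCSylow Cfsg.Agent.DefOne

open scoped ComplexConjugate

universe u

/-- The sign attached to an exceptional degree congruent to `3` or `-3` modulo seven. -/
def sd7 (f : ℕ) : ℤ := if f % 7 = 4 then 1 else -1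

/-- The weight: the square, with a price for a degree congruent to `1` or `-1` modulo eleven. -/
def wt (f : ℕ) : ℕ := f * f + if f % 11 = 1 ∨ f % 11 = 10 then 200000 else 0

/-- The degrees congruent to `3` or `-3` modulo seven. -/
def T7 : List ℕ := degs.filter fun f => decide (f % 7 = 3 ∨ f % 7 = 4)

theorem pair_check : X7.all (fun x => T7.all fun t =>
    !(decide (2025 + sg7 x * x + sd7 t * t = (0 : ℤ))) || (decide (x = 1035) && decide (t = 990))) = true := by
  decide +kernel

theorem seven_check : T7.all (fun f => decide (1413965 < 7 * (f * f)) ||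
    decide (f % 23 = 11 ∨ f % 23 = 12 ∨ f % 11 = 5 ∨ f % 11 = 6 ∨ f % 11 = 1 ∨ f % 11 = 10)) = true := by
  decide +kernel

theorem block_check : X7.all (fun x => X7.all fun y => X7.all fun z => T7.all fun t =>
    !(decide (sg7 x * x + (sg7 y * y + sg7 z * z) + sd7 t * t = (0 : ℤ))) ||
      decide (x % 11 = 5 ∨ x % 11 = 6 ∨ y % 11 = 5 ∨ y % 11 = 6 ∨ z % 11 = 5 ∨ z % 11 = 6 ∨ t % 11 = 5 ∨ t % 11 = 6) ||
      decide (686070 ≤ wt x + (wt y + wt z) + 2 * wt t)) = true := by
  decide +kernel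

variable {G : Type u} [Group G] [Fintype G] [IsSimpleGroup G] (hG : Nat.card G = 10200960)

include hG

theorem sum_wt_le (hS : Slots G) (U : Finset (IrrCharacter G)) : ∑ χ ∈ U, wt (dg χ) ≤ 11200960 := by
  classical
  have h1 : ∑ χ ∈ U, dg χ ^ 2 ≤ ∑ χ : IrrCharacter G, dg χ ^ 2 :=
    Finset.sum_le_sum_of_subset (Finset.subset_univ _)
  rw [Cfsg.Agent.CharX.sum_deg_sq, hG] at h1
  have h2 := hS.five11 (U.filter fun χ => dg χ % 11 = 1 ∨ dg χ % 11 = 10)
    fun χ hχ => (Finset.mem_filter.1 hχ).2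
  simp only [wt, Finset.sum_add_distrib, ← Finset.sum_filter, Finset.sum_const, smul_eq_mul, ← pow_two]
  omega

section Conf

variable (hS : Slots G) [Fact (Nat.Prime 7)] {P V N : Subgroup G} (K : Conf 7 P V N 3)
  [Fintype P] [Fintype V] [Fintype N] [Fintype (P →* ℂˣ)] {M : Ideal AlgInt} [M.IsPrime]
  (hM : IsPModular 7 M)

include hS K hM

/-- The rows attached to a nontrivial linear character of `V`. -/
theorem linear_block {b : IrrCharacter V} (hb1 : charDegree (b : V → ℂ) = 1)
    (hnp : ∀ χ : IrrCharacter G, InR K χ b → χ ≠ principal G) :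
    ∃ B : Finset (IrrCharacter G), (∀ χ ∈ B, InR K χ b) ∧
      ((∃ f ∈ T7, B.card = 7 ∧ ∀ χ ∈ B, dg χ = f) ∨
        ((∀ w, bT K.D w b = b) ∧ ((∀ χ ∈ B, ¬ (dg χ % 11 = 5 ∨ dg χ % 11 = 6)) →
          686070 ≤ ∑ χ ∈ B, wt (dg χ)))) := by
  classical
  obtain ⟨eb, X, Y, δ, sg, F⟩ := exists_families K hM b
  refine ⟨X ∪ Y, fun χ h => (mem_iff_inR K F χ).1 (Finset.mem_union.1 h), ?_⟩
  set o := (orbB K b).card
  have ho : o * eb = 3 := by
    have h := card_orbB K b
    rw [F.card_stab, K.D.hcard, K.hP, ← mul_assoc] at h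
    exact Nat.eq_of_mul_eq_mul_right (Nat.mul_pos (by norm_num) Nat.card_pos) h
  have hx : ∀ χ ∈ X, (dg χ : ℤ) ≡ (o : ℤ) * sg χ [ZMOD 7] := by
    intro χ hχ
    have h := degree_congr' K hM ((mem_iff_inR K F χ).1 (Or.inl hχ))
    rw [Families.sum_X K F hχ, hb1] at h
    refine h.trans (Int.modEq_iff_dvd.2 ⟨(o : ℤ) * sg χ, ?_⟩)
    push_cast; ring
  have hy : ∀ χ ∈ Y, (dg χ : ℤ) ≡ -δ * 3 [ZMOD 7] := by
    intro χ hχ
    have h := degree_congr' K hM ((mem_iff_inR K F χ).1 (Or.inr hχ))
    rw [F.sumY χ hχ, hb1] at h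
    refine h.trans (Int.modEq_iff_dvd.2 ⟨0, ?_⟩)
    rw [show ((3 : ℤ)) = ((o * eb : ℕ) : ℤ) by rw [ho]; norm_num]
    push_cast; ring
  have hmemT : ∀ χ ∈ Y, dg χ ∈ T7 ∧ δ = sd7 (dg χ) := by
    intro χ hχ
    have h := hy χ hχ
    rw [Int.ModEq] at h
    refine ⟨List.mem_filter.2 ⟨hS.dg_mem hG χ, decide_eq_true ?_⟩, ?_⟩
    · rcases F.sign with e | e <;> rw [e] at h <;> omega
    · unfold sd7
      rcases F.sign with e | e <;> rw [e] at h ⊢ <;> split <;> omega
  obtain ⟨θ, hθ⟩ := F.nonempty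
  have heq : ∀ χ ∈ Y, dg χ = dg θ := fun χ hχ => by
    have h := Families.agree K F hχ hθ (g := 1) (by simp)
    rw [irr_one_eq_charDegree, irr_one_eq_charDegree] at h
    exact_mod_cast h
  have hrel : ∑ χ ∈ X, sg χ * (dg χ : ℤ) + δ * (dg θ : ℤ) = 0 := by
    have h := Families.relation K F hθ (g := 1) (by simp)
    simp only [irr_one_eq_charDegree] at h
    exact_mod_cast h
  have heb : eb = 1 ∨ eb = 3 := (Nat.dvd_prime Nat.prime_three).1 ⟨o, by rw [← ho, mul_comm]⟩
  rcases heb with rfl | rfl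
  · refine Or.inl ⟨dg θ, (hmemT θ hθ).1, ?_, fun χ hχ => ?_⟩
    · rw [Finset.card_union_of_disjoint F.disj, F.cardX]
      have := F.cardY
      omega
    · rcases Finset.mem_union.1 hχ with h | h
      · obtain ⟨x, rfl⟩ := Finset.card_eq_one.1 F.cardX
        rw [Finset.mem_singleton] at h
        subst h
        rw [Finset.sum_singleton] at hrel
        rcases F.signX χ (Finset.mem_singleton_self _) with e | e <;>
          rcases F.sign with e' | e' <;> rw [e, e'] at hrel <;> omega
      · exact heq χ h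
  · have ho1 : o = 1 := by omega
    refine Or.inr ⟨fun w => ?_, fun h11 => ?_⟩
    · obtain ⟨b₀, hb₀⟩ := Finset.card_eq_one.1 ho1
      have h1 : bT K.D w b ∈ orbB K b := (mem_orbB K).2 ⟨w, rfl⟩
      have h2 : b ∈ orbB K b := (mem_orbB K).2 ⟨1, bT_one K b⟩
      rw [hb₀, Finset.mem_singleton] at h1 h2
      rw [h1, ← h2]
    · obtain ⟨x, y, z, hxy, hxz, hyz, hX⟩ := Finset.card_eq_three.1 F.cardX
      have hmX : ∀ χ ∈ X, dg χ ∈ X7 ∧ sg χ = sg7 (dg χ) := by
        intro χ hχ
        have h := hx χ hχ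
        rw [ho1, Nat.cast_one, one_mul, Int.ModEq] at h
        have hne : dg χ ≠ 1 := fun e => hnp χ ((mem_iff_inR K F χ).1 (Or.inl hχ)) (eq_principal hG e)
        refine ⟨List.mem_filter.2 ⟨hS.dg_mem hG χ, ?_⟩, ?_⟩
        · have : dg χ % 7 = 1 ∨ dg χ % 7 = 6 := by
            rcases F.signX χ hχ with e | e <;> rw [e] at h <;> omega
          simp [hne, this]
        · unfold sg7
          rcases F.signX χ hχ with e | e <;> rw [e] at h ⊢ <;> split <;> omega
      have hx' : x ∈ X := by simp [hX]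
      have hy' : y ∈ X := by simp [hX]
      have hz' : z ∈ X := by simp [hX]
      have hY2 : Y.card = 2 := by have := F.cardY; omega
      have h := List.all_eq_true.1 (List.all_eq_true.1 (List.all_eq_true.1 (List.all_eq_true.1 block_check
        (dg x) (hmX x hx').1) (dg y) (hmX y hy').1) (dg z) (hmX z hz').1) (dg θ) (hmemT θ hθ).1
      rw [hX, Finset.sum_insert (by simp [hxy, hxz]), Finset.sum_pair hyz, (hmX x hx').2, (hmX y hy').2,
        (hmX z hz').2, (hmemT θ hθ).2] at hrel
      simp only [Bool.or_eq_true, Bool.not_eq_true', decide_eq_true_eq, decide_eq_false_iff_not] at h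
      rcases h with (h | h) | h
      · exact absurd hrel h
      · have a1 := h11 x (Finset.mem_union_left _ hx')
        have a2 := h11 y (Finset.mem_union_left _ hy')
        have a3 := h11 z (Finset.mem_union_left _ hz')
        have a4 := h11 θ (Finset.mem_union_right _ hθ)
        omega
      · rw [Finset.sum_union F.disj, Finset.sum_congr (s₁ := Y) rfl fun χ hχ => by rw [heq χ hχ],
          Finset.sum_const, hY2, hX, Finset.sum_insert (by simp [hxy, hxz]), Finset.sum_pair hyz, smul_eq_mul]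
        exact h

end Conf

variable (hS : Slots G) (hfive : Five G)

include hS hfive

/-- The normalizer quotient at seven is neither one nor two, and with three it forces `|V| = 2`. -/
theorem small_cases [Fact (Nat.Prime 7)] (P : Sylow 7 G) (V : Subgroup G) (e : ℕ)
    (K : Conf 7 (P : Subgroup G) V (Subgroup.normalizer ((P : Subgroup G) : Set G)) e)
    (hv : Nat.card V ∣ 1152) (he : e = 1 ∨ e = 2 ∨ e = 3) :
    e = 3 ∧ ¬ (Nat.card V = 16 ∨ Nat.card V = 128) := by
  classical
  haveI : Fintype ((P : Subgroup G) →* ℂˣ) := Fintype.ofFinite _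
  haveI : Fintype (P : Subgroup G) := Fintype.ofFinite _
  haveI : Fintype V := Fintype.ofFinite _
  haveI : Fintype (Subgroup.normalizer ((P : Subgroup G) : Set G)) := Fintype.ofFinite _
  obtain ⟨M, hM⟩ := exists_isPModular_witness 7
  haveI := IsPModular.isPrime hM
  obtain ⟨a, b, b', d, hbb, ha, hb, hb', hd, hrel⟩ := hfive
  obtain ⟨hdB, hdphi⟩ := d_row K hM (fun h => absurd (h.trans hv) (by norm_num)) ha hb hb' hrel
  have hp1 : dg (principal G) = 1 := Cfsg.Agent.CharX.charDegree_one
  obtain ⟨eb, X, Y, δ, sg, F⟩ := exists_families K hM (trivB V)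
  obtain ⟨hXc, hYc, hXd, hYd, hrel7, hagree, hprin⟩ := M12Uniq.families_facts hM (by norm_num) K F
  have hY2 : 2 ≤ Y.card := by rcases he with rfl | rfl | rfl <;> omega
  obtain ⟨hpX, hpsg⟩ := hprin.resolve_right fun h => by rw [h, Finset.card_singleton] at hY2; omega
  obtain ⟨θ, hθ⟩ := F.nonempty
  have hθne : dg θ ≠ 1 := fun h => Finset.disjoint_left.1 F.disj hpX (eq_principal hG h ▸ hθ)
  have hrθ := hrel7 θ hθ
  rw [principal_eq K hM F] at hdB
  rcases he with rfl | rfl | rfl
  · exfalso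
    obtain ⟨x, hx⟩ := Finset.card_eq_one.1 hXc
    rw [hx, Finset.mem_singleton] at hpX
    rw [hx, Finset.sum_singleton, ← hpX, hpsg] at hrθ
    have hp' : charDegree (principal G : G → ℂ) = 1 := hp1
    rw [hp'] at hrθ
    change (1 : ℤ) * ((1 : ℕ) : ℤ) + δ * (dg θ : ℤ) = 0 at hrθ
    rcases F.sign with e | e <;> rw [e] at hrθ <;> push_cast at hrθ <;> omega
  all_goals
    have hdne : d ≠ principal G := fun h => by rw [h, hp1] at hd; norm_num at hd
    have hdX : d ∈ X := hdB.resolve_right fun h => by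
      have h' := hYd d h
      rw [show charDegree (d : G → ℂ) = 2024 from hd, Int.ModEq] at h'
      rcases F.sign with e | e <;> rw [e] at h' <;> norm_num at h'
    have hdsg : sg d = 1 := by
      have h' := hXd d hdX
      rw [show charDegree (d : G → ℂ) = 2024 from hd, Int.ModEq] at h'
      rcases F.signX d hdX with e | e
      · exact e
      · rw [e] at h'; norm_num at h'
  · exfalso
    have hX : X = {principal G, d} := (Finset.eq_of_subset_of_card_le
      (Finset.insert_subset hpX (Finset.singleton_subset_iff.2 hdX))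
      (by rw [hXc, Finset.card_pair hdne.symm])).symm
    rw [hX, Finset.sum_pair hdne.symm, hpsg, hdsg, show charDegree (principal G : G → ℂ) = 1 from hp1,
      show charDegree (d : G → ℂ) = 2024 from hd] at hrθ
    change (1 : ℤ) * ((1 : ℕ) : ℤ) + 1 * ((2024 : ℕ) : ℤ) + δ * (dg θ : ℤ) = 0 at hrθ
    have h2025 : dg θ = 2025 := by rcases F.sign with e | e <;> rw [e] at hrθ <;> push_cast at hrθ <;> omega
    have h := (deg_facts hG θ).2
    rw [show charDegree (θ : G → ℂ) = 2025 from h2025] at h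
    norm_num at h
  refine ⟨rfl, fun hv' => ?_⟩
  obtain ⟨x, hx⟩ := Finset.card_eq_one.1 (show ((X.erase (principal G)).erase d).card = 1 by
    rw [Finset.card_erase_of_mem (Finset.mem_erase.2 ⟨hdne, hdX⟩), Finset.card_erase_of_mem hpX, hXc])
  have hxm : x ∈ (X.erase (principal G)).erase d := by rw [hx]; exact Finset.mem_singleton_self x
  obtain ⟨hxd, hxm'⟩ := Finset.mem_erase.1 hxm
  obtain ⟨hxp, hxX⟩ := Finset.mem_erase.1 hxm'
  have hdd : dg d = 2024 := hd
  obtain ⟨hx1, ht1⟩ : dg x = 1035 ∧ dg θ = 990 := by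
    have hxX7 : dg x ∈ X7 ∧ sg x = sg7 (dg x) := by
      have h := hXd x hxX
      change (dg x : ℤ) ≡ sg x [ZMOD 7] at h
      rw [Int.ModEq] at h
      refine ⟨List.mem_filter.2 ⟨hS.dg_mem hG x, ?_⟩, ?_⟩
      · have h1 : dg x ≠ 1 := fun e => hxp (eq_principal hG e)
        have h2 : dg x % 7 = 1 ∨ dg x % 7 = 6 := by
          rcases F.signX x hxX with e | e <;> rw [e] at h <;> omega
        simp [h1, h2]
      · unfold sg7
        rcases F.signX x hxX with e | e <;> rw [e] at h ⊢ <;> split <;> omega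
    have htT7 : dg θ ∈ T7 ∧ δ = sd7 (dg θ) := by
      have h := hYd θ hθ
      change (dg θ : ℤ) ≡ -δ * ((3 : ℕ) : ℤ) [ZMOD 7] at h
      rw [Int.ModEq] at h
      refine ⟨List.mem_filter.2 ⟨hS.dg_mem hG θ, decide_eq_true ?_⟩, ?_⟩
      · rcases F.sign with e | e <;> rw [e] at h <;> omega
      · unfold sd7
        rcases F.sign with e | e <;> rw [e] at h ⊢ <;> split <;> omega
    rw [← Finset.add_sum_erase _ _ hpX, ← Finset.add_sum_erase _ _ (Finset.mem_erase.2 ⟨hdne, hdX⟩), hx,
      Finset.sum_singleton, hpsg, hdsg, show charDegree (principal G : G → ℂ) = 1 from hp1,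
      show charDegree (d : G → ℂ) = 2024 from hd, hxX7.2, htT7.2] at hrθ
    change 1 * ((1 : ℕ) : ℤ) + (1 * ((2024 : ℕ) : ℤ) + sg7 (dg x) * (dg x : ℤ)) + sd7 (dg θ) * (dg θ : ℤ) = 0
      at hrθ
    have h := List.all_eq_true.1 (List.all_eq_true.1 pair_check (dg x) hxX7.1) (dg θ) htT7.1
    have hz : 2025 + sg7 (dg x) * (dg x : ℤ) + sd7 (dg θ) * (dg θ : ℤ) = 0 := by push_cast at hrθ; linarith
    simpa [hz] using h
  have hne : ∀ {χ ψ : IrrCharacter G}, dg χ ≠ dg ψ → χ ≠ ψ := fun h e => h (e ▸ rfl)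
  have hY : ∀ χ ∈ Y, dg χ = 990 := fun χ hχ => (hagree χ hχ θ hθ).trans ht1
  -- the known rows
  set U₀ := (X ∪ Y) ∪ {a, b, b'} with hU₀
  have h7 : ∀ χ ∈ ({a, b, b'} : Finset (IrrCharacter G)), 7 ∣ dg χ := by
    intro χ hχ
    simp only [Finset.mem_insert, Finset.mem_singleton] at hχ
    rcases hχ with rfl | rfl | rfl
    · rw [ha]; norm_num
    · rw [hb]; norm_num
    · rw [hb']; norm_num
  have hdis : Disjoint (X ∪ Y) ({a, b, b'} : Finset (IrrCharacter G)) :=
    Finset.disjoint_left.2 fun χ h h' =>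
      not_dvd_of_inR K hM ((mem_iff_inR K F χ).1 (Finset.mem_union.1 h)) (h7 χ h')
  have hY2' : Y.card = 2 := by omega
  have hbase : 9186995 ≤ ∑ χ ∈ U₀, wt (dg χ) := by
    have hX : X = insert (principal G) {d, x} := by
      rw [← Finset.insert_erase hpX, ← Finset.insert_erase (Finset.mem_erase.2 ⟨hdne, hdX⟩), hx]
    rw [hU₀, Finset.sum_union hdis, Finset.sum_union F.disj,
      Finset.sum_congr (s₁ := Y) rfl fun χ hχ => by rw [hY χ hχ],
      Finset.sum_const, hY2', hX, Finset.sum_insert (by simp [hdne.symm, Ne.symm hxp]),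
      Finset.sum_pair (Ne.symm hxd), Finset.sum_insert (by
        simp [hne (show dg a ≠ dg b by omega), hne (show dg a ≠ dg b' by omega)]),
      Finset.sum_pair hbb, hp1, hdd, hx1, ha, hb, hb']
    decide
  -- the linear characters
  set L := Finset.univ.filter fun c : IrrCharacter V => charDegree (c : V → ℂ) = 1 with hL
  have htriv : trivB V ∈ L := Finset.mem_filter.2 ⟨Finset.mem_univ _, Cfsg.Agent.CharX.charDegree_one⟩
  have hL4 : 4 ≤ L.card := by
    have hsum := Cfsg.Agent.CharX.sum_deg_sq (G := V)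
    have hmod : ∀ c : IrrCharacter V, charDegree (c : V → ℂ) ^ 2 % 4 =
        if charDegree (c : V → ℂ) = 1 then 1 else 0 := by
      intro c
      split
      · rename_i h; rw [h]; norm_num
      · rename_i h
        have hdvd : charDegree (c : V → ℂ) ∣ 2 ^ 7 :=
          (charDegree_dvd_card c).trans (by rcases hv' with h' | h' <;> rw [h'] <;> norm_num)
        obtain ⟨j, -, hj⟩ := (Nat.dvd_prime_pow Nat.prime_two).1 hdvd
        rw [hj] at h ⊢
        rcases j with _ | j
        · simp at h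
        · rw [← pow_mul, show (j + 1) * 2 = 2 * j + 2 by ring, pow_add]; omega
    have h4 : (∑ c : IrrCharacter V, charDegree (c : V → ℂ) ^ 2) % 4 = L.card % 4 := by
      rw [Finset.sum_nat_mod, Finset.sum_congr rfl fun c _ => hmod c, ← Finset.sum_filter, ← hL,
        Finset.sum_const, smul_eq_mul, mul_one]
    rw [hsum] at h4
    have := Finset.card_pos.2 ⟨_, htriv⟩
    rcases hv' with h' | h' <;> rw [h'] at h4 <;> omega
  obtain ⟨L', hL', hL'c⟩ := Finset.exists_subset_card_eq (s := L.erase (trivB V)) (n := 3)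
    (by rw [Finset.card_erase_of_mem htriv]; omega)
  obtain ⟨c1, c2, c3, h12, h13, h23, rfl⟩ := Finset.card_eq_three.1 hL'c
  -- rows of a nontrivial linear character are new
  have hnew : ∀ c : IrrCharacter V, c ≠ trivB V → ∀ χ : IrrCharacter G, InR K χ c → χ ∉ U₀ := by
    intro c hc χ hχ hU
    rcases Finset.mem_union.1 hU with h | h
    · obtain ⟨w, hw⟩ := exists_conj_of_block K hM ((mem_iff_inR K F χ).1 (Finset.mem_union.1 h)) hχ rfl
      exact hc (hw.symm.trans (Subtype.ext (funext fun _ => rfl)))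
    · exact not_dvd_of_inR K hM hχ (h7 χ h)
  have hmem : ∀ c ∈ ({c1, c2, c3} : Finset (IrrCharacter V)),
      c ≠ trivB V ∧ charDegree (c : V → ℂ) = 1 := fun c hc =>
    ⟨Finset.ne_of_mem_erase (hL' hc), (Finset.mem_filter.1 (Finset.mem_of_mem_erase (hL' hc))).2⟩
  have hblk : ∀ c ∈ ({c1, c2, c3} : Finset (IrrCharacter V)), ∃ B : Finset (IrrCharacter G),
      (∀ χ ∈ B, InR K χ c) ∧ Disjoint U₀ B ∧ (∀ w, bT K.D w c = c) ∧ 686070 ≤ ∑ χ ∈ B, wt (dg χ) := by
    intro c hc
    obtain ⟨hct, hc1⟩ := hmem c hc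
    have hnp : ∀ χ : IrrCharacter G, InR K χ c → χ ≠ principal G := fun χ hχ e =>
      hnew c hct χ hχ (e ▸ Finset.mem_union_left _ (Finset.mem_union_left _ hpX))
    obtain ⟨B, hB, hcase⟩ := linear_block hG hS K hM hc1 hnp
    have hdj : Disjoint U₀ B := Finset.disjoint_right.2 fun χ h => hnew c hct χ (hB χ h)
    rcases hcase with ⟨f, hf, hB7, hfB⟩ | ⟨hfix, hw⟩
    · exfalso
      have h := List.all_eq_true.1 seven_check f hf
      simp only [Bool.or_eq_true, decide_eq_true_eq] at h
      have hres : ∀ {Q : ℕ → Prop}, Q f → ∀ χ ∈ B, Q (dg χ) := fun hq χ hχ => (hfB χ hχ).symm ▸ hq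
      rcases h with h | h
      · have hsum := sum_wt_le hG hS (U₀ ∪ B)
        rw [Finset.sum_union hdj, Finset.sum_congr (s₁ := B) rfl fun χ hχ => by rw [hfB χ hχ],
          Finset.sum_const, hB7, smul_eq_mul] at hsum
        have hle : f * f ≤ wt f := Nat.le_add_right _ _
        by_cases hf2 : f % 11 = 1 ∨ f % 11 = 10
        · have := hS.five11 B (hres (Q := fun n => n % 11 = 1 ∨ n % 11 = 10) hf2); omega
        have h2 : ∑ χ ∈ U₀ ∪ B, dg χ ^ 2 ≤ ∑ χ : IrrCharacter G, dg χ ^ 2 :=
          Finset.sum_le_sum_of_subset (Finset.subset_univ _)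
        rw [Cfsg.Agent.CharX.sum_deg_sq, hG, Finset.sum_union hdj,
          Finset.sum_congr (s₁ := B) rfl fun χ hχ => by rw [hfB χ hχ],
          Finset.sum_const, hB7, smul_eq_mul, pow_two f] at h2
        have h3 : ∑ χ ∈ U₀, wt (dg χ) ≤ ∑ χ ∈ U₀, dg χ ^ 2 + 400000 := by
          have h4 : (U₀.filter fun χ => dg χ % 11 = 1 ∨ dg χ % 11 = 10) ⊆ {principal G, x} := by
            intro χ hχ
            obtain ⟨hχU, hχ11⟩ := Finset.mem_filter.1 hχ
            rcases Finset.mem_union.1 hχU with h' | h'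
            · rcases Finset.mem_union.1 h' with h'' | h''
              · rw [← Finset.insert_erase hpX, ← Finset.insert_erase (Finset.mem_erase.2 ⟨hdne, hdX⟩), hx]
                  at h''
                simp only [Finset.mem_insert, Finset.mem_singleton] at h'' ⊢
                rcases h'' with e | e | e
                · exact Or.inl e
                · rw [e, hdd] at hχ11; omega
                · exact Or.inr e
              · rw [hY χ h''] at hχ11; omega
            · simp only [Finset.mem_insert, Finset.mem_singleton] at h'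
              rcases h' with e | e | e <;> rw [e] at hχ11 <;> omega
          have h5 := (Finset.card_le_card h4).trans Finset.card_le_two
          simp only [wt, Finset.sum_add_distrib, ← Finset.sum_filter, Finset.sum_const, smul_eq_mul, ← pow_two]
          omega
        omega
      · rcases h with h | h | h | h | h | h
        · have := hS.two23 B (hres (Q := fun n => n % 23 = 11 ∨ n % 23 = 12) (Or.inl h)); omega
        · have := hS.two23 B (hres (Q := fun n => n % 23 = 11 ∨ n % 23 = 12) (Or.inr h)); omega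
        · have := hS.two11 B (hres (Q := fun n => n % 11 = 5 ∨ n % 11 = 6) (Or.inl h)); omega
        · have := hS.two11 B (hres (Q := fun n => n % 11 = 5 ∨ n % 11 = 6) (Or.inr h)); omega
        · have := hS.five11 B (hres (Q := fun n => n % 11 = 1 ∨ n % 11 = 10) (Or.inl h)); omega
        · have := hS.five11 B (hres (Q := fun n => n % 11 = 1 ∨ n % 11 = 10) (Or.inr h)); omega
    · refine ⟨B, hB, hdj, hfix, hw fun χ hχ h56 => ?_⟩
      have h3 := hS.two11 {b, b', χ} fun ψ hψ => by
        simp only [Finset.mem_insert, Finset.mem_singleton] at hψ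
        rcases hψ with rfl | rfl | rfl
        · rw [hb]; decide
        · rw [hb']; decide
        · exact h56
      have hmb : b ∈ U₀ := Finset.mem_union_right _ (by simp)
      have hmb' : b' ∈ U₀ := Finset.mem_union_right _ (by simp)
      rw [Finset.card_eq_three.2 ⟨b, b', χ, hbb, (fun e => Finset.disjoint_left.1 hdj hmb (e ▸ hχ)),
        (fun e => Finset.disjoint_left.1 hdj hmb' (e ▸ hχ)), rfl⟩] at h3
      omega
  obtain ⟨B1, hB1, hd1, hf1, hw1⟩ := hblk c1 (by simp)
  obtain ⟨B2, hB2, hd2, hf2, hw2⟩ := hblk c2 (by simp)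
  obtain ⟨B3, hB3, hd3, -, hw3⟩ := hblk c3 (by simp)
  have hdd' : ∀ {c c' : IrrCharacter V} {B B' : Finset (IrrCharacter G)}, c ≠ c' →
      (∀ w, bT K.D w c = c) → (∀ χ ∈ B, InR K χ c) → (∀ χ ∈ B', InR K χ c') → Disjoint B B' :=
    fun hcc hf hB hB' => Finset.disjoint_left.2 fun χ h h' => by
      obtain ⟨w, hw⟩ := exists_conj_of_block K hM (hB χ h) (hB' χ h') rfl
      exact hcc ((hf w).symm.trans hw)
  have hsum := sum_wt_le hG hS (((U₀ ∪ B1) ∪ B2) ∪ B3)
  rw [Finset.sum_union (Finset.disjoint_union_left.2 ⟨Finset.disjoint_union_left.2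
      ⟨hd3, hdd' h13 hf1 hB1 hB3⟩, hdd' h23 hf2 hB2 hB3⟩),
    Finset.sum_union (Finset.disjoint_union_left.2 ⟨hd2, hdd' h12 hf1 hB1 hB2⟩),
    Finset.sum_union hd1] at hsum
  omega

end Cfsg.Agent.M23Order.Seven
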