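import Cfsg.Agent.Lib.M23Order.Lists

/-!
The searches at twenty-three.
-/

namespace Cfsg.Agent.M23Order

/-- The degrees congruent to `r` or `-r` modulo `p`. -/
def pmDegs (p r : ℕ) : List ℕ := degList fun d => Nat.beq (d % p) r || Nat.beq (d % p) (p - r)

/-- The multiple of the complement used in the search. -/
def bound23 (e : ℕ) : ℕ := if e = 11 then 1 else 443520

set_option maxRecDepth 10000 in
theorem dead_two : deadI 23 2 11 (bound23 2) (pmDegs 23 1) (pmDegs 23 2) = true := by decide +kernel

set_option maxRecDepth 10000 in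
theorem dead_eleven : deadI 23 11 2 (bound23 11) (pmDegs 23 1) (pmDegs 23 11) = true := by decide +kernel

set_option maxRecDepth 10000 in
theorem dead_twentyTwo : deadI 23 22 1 (bound23 22) (pmDegs 23 1) (pmDegs 23 1) = true := by decide +kernel

/-- The odd candidates: seven divides, except for the true one. -/
def shape23 (e v : ℕ) : Bool :=
  (Nat.beq e 2 && (Nat.beq v 385 || Nat.beq v 63)) || (Nat.beq e 11 && Nat.beq v 1) ||
    (Nat.beq e 22 && Nat.beq v 35)

set_option maxRecDepth 4000 in
theorem shape23_check : ([2, 11, 22] : List ℕ).all (fun e => allDivs.all fun n =>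
    !(Nat.beq (n % 23) 1) || Nat.beq n 1 || !(Nat.beq (443520 % (n * e)) 0) ||
      Nat.beq (443520 / (n * e) % 2) 0 || shape23 e (443520 / (n * e))) = true := by
  decide +kernel

set_option maxRecDepth 4000 in
theorem frattini23_check : ([(2, 385), (2, 63), (22, 35)] : List (ℕ × ℕ)).all (fun ev =>
    (allDivs.all fun d => !(Nat.beq (ev.2 / 7 % d) 0) || !(Nat.beq (d % 7) 1) || Nat.beq d 1) &&
    allDivs.all fun a => !(Nat.beq (443520 / (ev.1 * ev.2) % a) 0) || !(Nat.beq (a % 23) 1) ||
      !(Nat.beq (443520 / (ev.1 * ev.2) / a % 7) 1) || Nat.beq (443520 / (ev.1 * ev.2) / a) 1) = true := by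
  decide +kernel

end Cfsg.Agent.M23Order
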