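import Cfsg.Agent.Lib.M23Order.Column
import Cfsg.Agent.Lib.M23Order.TwentyThreeData
import Cfsg.Agent.Lib.M23Order.Frattini

/-!
A simple group of order 10200960: the centralizer of an element of order 23 is of order 23 and its
normalizer of order 253.
-/

set_option linter.unusedSectionVars false
set_option linter.style.haveILetI false

namespace Cfsg.Agent.M23Order

open Cfsg Cfsg.Agent.Char Cfsg.Agent.Blocks Cfsg.Agent.CCSylow Cfsg.Agent.DefOne

universe u

variable {G : Type u} [Group G] [Fintype G] [IsSimpleGroup G] (hG : Nat.card G = 10200960)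

include hG

/-- The normalizer at a prime dividing the order once has a nontrivial action. -/
theorem e_ne_one {p : ℕ} (hp : 2 < p) {P V N : Subgroup G} {e : ℕ} (K : Conf p P V N e) [Fintype P]
    [Fintype V] [Fintype N] [Fintype (P →* ℂˣ)] : e ≠ 1 := by
  intro he
  haveI := Fact.mk K.hp
  obtain ⟨M, hM⟩ := exists_isPModular_witness p
  haveI := IsPModular.isPrime hM
  obtain ⟨k, S, c, t, R⟩ := exists_rows hM hp K
  obtain ⟨a, ha⟩ := Finset.card_eq_one.1 (R.card.trans he)
  have hat : a = t := by have := R.mem_t; rw [ha, Finset.mem_singleton] at this; exact this.symm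
  have h := R.relation 1 (by simpa using K.hp.ne_one)
  rw [ha, Finset.sum_singleton, irr_one_eq_charDegree, hat] at h
  have h' : (1 : ℤ) + c t * (charDegree (t : G → ℂ) : ℤ) = 0 := by exact_mod_cast h
  have h1 : charDegree (t : G → ℂ) = 1 := by
    rcases R.sign t R.mem_t with s | s <;> rw [s] at h' <;> omega
  exact R.ne_one (eq_principal hG h1 ▸ R.mem_t)

/-- The centralizer and the normalizer at twenty-three. -/
theorem twentyThree : ∃ (P : Sylow 23 G) (V : Subgroup G),
    Conf 23 (P : Subgroup G) V (Subgroup.normalizer ((P : Subgroup G) : Set G)) 11 ∧ Nat.card V = 1 := by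
  classical
  haveI : Fact (Nat.Prime 23) := ⟨by norm_num⟩
  obtain ⟨P, V, e, K, he, n, hn1, hn23, hn⟩ := exists_config hG (p := 23) (by norm_num) (by norm_num)
  haveI : Fintype (P : Subgroup G) := Fintype.ofFinite _
  haveI : Fintype V := Fintype.ofFinite _
  haveI : Fintype (Subgroup.normalizer ((P : Subgroup G) : Set G)) := Fintype.ofFinite _
  haveI : Fintype ((P : Subgroup G) →* ℂˣ) := Fintype.ofFinite _
  have hn' : n * (e * Nat.card V) = 443520 := by
    have : 23 * (n * (e * Nat.card V)) = 23 * 443520 := by linear_combination hn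
    omega
  have he1 := e_ne_one hG (by norm_num) K
  have he' : e = 2 ∨ e = 11 ∨ e = 22 := by
    have := Nat.le_of_dvd (by norm_num) he
    interval_cases e <;> first | omega | norm_num at he
  obtain ⟨M, hM⟩ := exists_isPModular_witness 23
  haveI := IsPModular.isPrime hM
  obtain ⟨k, S, c, t, R⟩ := exists_rows hM (by norm_num) K
  have hk : k * e = 22 := R.ek
  -- no involution centralizes
  have hodd : ¬ 2 ∣ Nat.card V := by
    have hnot1 : ∀ χ ∈ S, charDegree (χ : G → ℂ) ≠ 1 := fun χ h h1 => R.ne_one (eq_principal hG h1 ▸ h)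
    have hmem : ∀ χ ∈ S, ∀ r : ℕ, r < 23 → ((charDegree (χ : G → ℂ) : ℤ) % 23 = r ∨
        (charDegree (χ : G → ℂ) : ℤ) % 23 = 23 - r) → charDegree (χ : G → ℂ) ∈ pmDegs 23 r := by
      intro χ h r hr hmod
      obtain ⟨hle, hdvd⟩ := deg_facts hG χ
      refine List.mem_filter.2 ⟨mem_allDivs hdvd, ?_⟩
      have := hnot1 χ h
      have := charDegree_pos χ
      simp only [Bool.and_eq_true, Bool.or_eq_true, Nat.ble_eq, Nat.beq_eq]
      exact ⟨⟨by omega, hle⟩, by omega⟩
    have hds : ∀ χ ∈ S, χ ≠ t → charDegree (χ : G → ℂ) ∈ pmDegs 23 1 := fun χ h hne => by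
      refine hmem χ h 1 (by norm_num) ?_
      have h1 := R.congr χ h hne
      rw [Int.ModEq] at h1
      rcases R.sign χ h with s | s <;> rw [s] at h1 <;> omega
    have htm := R.congr_t
    rw [Int.ModEq] at htm
    rcases he' with rfl | rfl | rfl
    · obtain rfl : k = 11 := by omega
      refine no_involution hG K hM R (by norm_num) (Mu := bound23 2) (by decide) (fun _ => ?_) _ _ hds ?_
        dead_two
      · exact ⟨2 * n, by rw [show bound23 2 = 443520 from rfl, ← hn']; ring⟩
      · exact hmem t R.mem_t 2 (by norm_num) (by rcases R.sign t R.mem_t with s | s <;> rw [s] at htm <;> omega)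
    · obtain rfl : k = 2 := by omega
      refine no_involution hG K hM R (by norm_num) (Mu := bound23 11) (by decide)
        (fun h => absurd h (by decide)) _ _ hds ?_ dead_eleven
      exact hmem t R.mem_t 11 (by norm_num) (by rcases R.sign t R.mem_t with s | s <;> rw [s] at htm <;> omega)
    · obtain rfl : k = 1 := by omega
      refine no_involution hG K hM R (by norm_num) (Mu := bound23 22) (by decide) (fun _ => ?_) _ _ hds ?_
        dead_twentyTwo
      · exact ⟨22 * n, by rw [show bound23 22 = 443520 from rfl, ← hn']; ring⟩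
      · exact hmem t R.mem_t 1 (by norm_num) (by rcases R.sign t R.mem_t with s | s <;> rw [s] at htm <;> omega)
  -- the shape
  have hv : 0 < Nat.card V := Nat.card_pos
  have hnd : n ∈ allDivs := mem_allDivs ⟨23 * (e * Nat.card V), by rw [show (10200960 : ℕ) = 23 * 443520 from rfl, ← hn']; ring⟩
  have hmem : e ∈ ([2, 11, 22] : List ℕ) := by simp; omega
  have hs := List.all_eq_true.1 (List.all_eq_true.1 shape23_check e hmem) n hnd
  have hdiv : 443520 / (n * e) = Nat.card V :=
    Nat.div_eq_of_eq_mul_right (Nat.mul_pos (by omega) (by omega)) (by rw [← hn']; ring)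
  rw [hdiv] at hs
  simp only [shape23, Bool.or_eq_true, Bool.and_eq_true, Bool.not_eq_true', ← Bool.not_eq_true, Nat.beq_eq] at hs
  rcases hs with (((hs | hs) | hs) | hs) | hs
  · exact absurd hn23 hs
  · omega
  · exact absurd (Nat.mod_eq_zero_of_dvd ⟨Nat.card V, by rw [← hn']; ring⟩) hs
  · exact absurd (Nat.dvd_of_mod_eq_zero hs) hodd
  rcases hs with (⟨he2, hs⟩ | ⟨rfl, hs⟩) | ⟨he2, hs⟩
  rotate_left
  · exact ⟨P, V, K, hs⟩
  all_goals exfalso
  all_goals
    haveI : Fact (Nat.Prime 7) := ⟨by norm_num⟩
    have hidx : (Subgroup.normalizer ((P : Subgroup G) : Set G)).index = n := by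
      have h := (Subgroup.normalizer ((P : Subgroup G) : Set G)).index_mul_card
      rw [K.D.hcard, K.hP, hG] at h
      exact Nat.eq_of_mul_eq_mul_right (by positivity) (h.trans hn.symm)
    have hev : (e, Nat.card V) ∈ ([(2, 385), (2, 63), (22, 35)] : List (ℕ × ℕ)) := by
      simp only [List.mem_cons, Prod.mk.injEq, List.not_mem_nil, or_false]; omega
    have hc := List.all_eq_true.1 frattini23_check _ hev
    simp only [Bool.and_eq_true, List.all_eq_true, Bool.or_eq_true, Bool.not_eq_true', ← Bool.not_eq_true,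
      Nat.beq_eq] at hc
    obtain ⟨hc1, hc2⟩ := hc
    have h7 : 7 ∣ Nat.card V := by omega
    have hnv : 443520 / (e * Nat.card V) = n :=
      Nat.div_eq_of_eq_mul_left (Nat.mul_pos (by omega) (by omega)) hn'.symm
    obtain ⟨a, b, hab, ha, hb, hb1⟩ := frattini_arith K h7 (by rw [hG]; norm_num) (by rw [hG]; norm_num)
      (fun d hd hd7 => by
        rcases hc1 d (mem_allDivs (hd.trans ((Nat.div_dvd_of_dvd h7).trans
          (hG ▸ Subgroup.card_subgroup_dvd_card V)))) with (h | h) | h
        · exact absurd (Nat.mod_eq_zero_of_dvd hd) h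
        · exact absurd hd7 h
        · exact h)
    rw [hidx] at hab
    have hb' : n / a = b := Nat.div_eq_of_eq_mul_right
      (Nat.pos_of_ne_zero fun h => by rw [h] at ha; omega) hab.symm
    rcases hc2 a (mem_allDivs ((Dvd.intro b hab).trans ⟨23 * (e * Nat.card V),
      by rw [show (10200960 : ℕ) = 23 * 443520 from rfl, ← hn']; ring⟩)) with ((h | h) | h) | h
    · exact h (Nat.mod_eq_zero_of_dvd (by rw [hnv, ← hab]; exact dvd_mul_right a b))
    · exact h ha
    · rw [hnv, hb'] at h; exact h hb
    · rw [hnv, hb'] at h; omega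

end Cfsg.Agent.M23Order
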